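import Cfsg.Agent.Lib.J3Order.DataCheck

/-!
# Groups of `J₃` type: the order from the table of functionals
-/

set_option autoImplicit false
set_option linter.unusedSectionVars false

namespace Cfsg.Agent.Lib.J3Order.Data

open Finset

theorem dot_smul (k : ℤ) (x r : Row) : dot x (smul k r) = k * dot x r := by
  simp only [dot, smul]; ring

theorem dot_sub (x r s : Row) : dot x (sub r s) = dot x r - dot x s := by
  simp only [dot, sub]; ring

theorem dot_comm' (x r : Row) : dot x r = dot r x := by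
  simp only [dot]; ring

theorem gmul_dual (r : Row) : gmul (dual r) = smul 128 r := by
  simp only [gmul, dual, smul, Row.mk.injEq]
  refine ⟨?_, ?_, ?_, ?_, ?_, ?_⟩ <;> ring

theorem eq_of_dot {u v : Row} (h : ∀ x, dot x u = dot x v) : u = v := by
  obtain ⟨a, b, c, d, e, f⟩ := u
  obtain ⟨a', b', c', d', e', f'⟩ := v
  have h1 := h ⟨1, 0, 0, 0, 0, 0⟩
  have h2 := h ⟨0, 1, 0, 0, 0, 0⟩
  have h3 := h ⟨0, 0, 1, 0, 0, 0⟩
  have h4 := h ⟨0, 0, 0, 1, 0, 0⟩
  have h5 := h ⟨0, 0, 0, 0, 1, 0⟩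
  have h6 := h ⟨0, 0, 0, 0, 0, 1⟩
  simp [dot] at h1 h2 h3 h4 h5 h6
  simp [*]

theorem zeta_smul (k : ℤ) (r : Row) : zeta (smul k r) = k * zeta r := by
  simp only [zeta, smul]; ring

theorem cong_smul (k : ℤ) (r : Row) : cong (smul k r) = k * cong r := by
  simp only [cong, smul]; ring

theorem nonSquare_sound {x : ℤ} (h : nonSquare x = true) (w : ℤ) : x ≠ w ^ 2 := by
  rintro rfl
  simp only [nonSquare, Bool.or_eq_true, decide_eq_true_eq, Bool.and_eq_true] at h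
  rcases h with h | ⟨h1, h2⟩
  · exact absurd h (not_lt.2 (sq_nonneg w))
  · generalize root 120 (w ^ 2).toNat 0 (2 ^ 60) = r at h1 h2
    have e : (w ^ 2).toNat = w.natAbs * w.natAbs := by
      have h' : (w ^ 2 : ℤ) = ((w.natAbs * w.natAbs : ℕ) : ℤ) := by
        push_cast; rw [abs_mul_abs_self]; ring
      rw [h', Int.toNat_natCast]
    simp only [Nat.blt, Nat.ble_eq] at h1 h2
    rw [e] at h1 h2
    have a1 : r * r < w.natAbs * w.natAbs := h1
    have a2 : w.natAbs * w.natAbs < (r + 1) * (r + 1) := h2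
    have b1 : r < w.natAbs := Nat.mul_self_lt_mul_self_iff.1 a1
    have b2 : w.natAbs < r + 1 := Nat.mul_self_lt_mul_self_iff.1 a2
    omega

/-- The data of the character table which determine the order. -/
structure Table (ι : Type*) [Fintype ι] (n : ℕ) where
  /-- the trivial character -/
  o : ι
  /-- the degree -/
  d : ι → ℕ
  /-- the six functionals -/
  row : ι → Row
  /-- the conjugate character -/
  σ : ι → ι
  d_o : d o = 1
  row_o : row o = triv
  d_pos : ∀ i, 0 < d i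
  sum_sq : ∑ i, d i ^ 2 = n
  dvd : ∀ i, d i ∣ n
  mult : 1920 ∣ n
  odd : n / 128 % 2 = 1
  cong_mod : ∀ i, (128 : ℤ) ∣ (d i : ℤ) - cong (row i)
  gram_sum : ∀ x y, ∑ i, dot x (row i) * dot y (row i) = gram x y
  orth : ∀ x, ∑ i, (d i : ℤ) * dot x (row i) = 0
  eq1 : ∑ i, ((row i).c1 : ℚ) * (zeta (row i) : ℚ) ^ 2 / (d i : ℚ) = 614400 / n
  eq4 : ∑ i, ((row i).c4 : ℚ) * (zeta (row i) : ℚ) ^ 2 / (d i : ℚ) = 29184000 / n
  σ_row : ∀ i, row (σ i) = row i
  σ_ne : ∀ i, (row i).cs % 2 ≠ 0 → σ i ≠ i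

namespace Table

variable {ι : Type*} [Fintype ι] {n : ℕ} (T : Table ι n)

include T in
theorem n_pos : 0 < n := by have := T.odd; omega

theorem quad_sum (x : Row) : ∑ i, dot x (T.row i) ^ 2 = gram x x := by
  rw [← T.gram_sum x x]; exact sum_congr rfl fun i _ => sq _

theorem quad_le (i : ι) : dot (T.row i) (dual (T.row i)) ≤ 128 := by
  have h := single_le_sum (f := fun j => dot (dual (T.row i)) (T.row j) ^ 2)
    (fun j _ => sq_nonneg _) (mem_univ i)
  rw [T.quad_sum, gram, gmul_dual, dot_smul] at h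
  rw [dot_comm' (dual (T.row i))] at h
  nlinarith

theorem coord_sq (x : Row) (i : ι) : dot x (T.row i) ^ 2 ≤ gram x x := by
  rw [← T.quad_sum x]
  exact single_le_sum (f := fun j => dot x (T.row j) ^ 2) (fun j _ => sq_nonneg _) (mem_univ i)

theorem mem_small_of_sq {a : ℤ} (h : a ^ 2 ≤ 8) : a ∈ small := by
  have h1 : -2 ≤ a := by nlinarith
  have h2 : a ≤ 2 := by nlinarith
  simp only [small, List.mem_cons, List.not_mem_nil, or_false]
  omega

theorem mem_tiny_of_sq {a : ℤ} (h : a ^ 2 ≤ 3) : a ∈ tiny := by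
  have h1 : -1 ≤ a := by nlinarith
  have h2 : a ≤ 1 := by nlinarith
  simp only [tiny, List.mem_cons, List.not_mem_nil, or_false]
  omega

theorem box (i : ι) : (T.row i).c1 ^ 2 ≤ 3 ∧ (T.row i).cs ^ 2 ≤ 8 ∧ (T.row i).c4 ^ 2 ≤ 4 ∧
    (T.row i).c5 ^ 2 ≤ 4 ∧ (T.row i).c6 ^ 2 ≤ 5 ∧ (T.row i).c7 ^ 2 ≤ 6 := by
  refine ⟨?_, ?_, ?_, ?_, ?_, ?_⟩
  · simpa [dot, gram, gmul] using T.coord_sq ⟨1, 0, 0, 0, 0, 0⟩ i
  · simpa [dot, gram, gmul] using T.coord_sq ⟨0, 1, 0, 0, 0, 0⟩ i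
  · simpa [dot, gram, gmul] using T.coord_sq ⟨0, 0, 1, 0, 0, 0⟩ i
  · simpa [dot, gram, gmul] using T.coord_sq ⟨0, 0, 0, 1, 0, 0⟩ i
  · simpa [dot, gram, gmul] using T.coord_sq ⟨0, 0, 0, 0, 1, 0⟩ i
  · simpa [dot, gram, gmul] using T.coord_sq ⟨0, 0, 0, 0, 0, 1⟩ i

section

variable [DecidableEq ι]

/-- The three indices carrying the third coordinate besides the trivial one. -/
structure Trip (i j k : ι) : Prop where
  ij : i ≠ j
  ik : i ≠ k
  jk : j ≠ k
  eq : univ.filter (fun l => l ≠ T.o ∧ (T.row l).c4 ≠ 0) = {i, j, k}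

variable {T}

theorem Trip.swap {i j k : ι} (h : T.Trip i j k) : T.Trip j i k :=
  ⟨h.ij.symm, h.jk, h.ik, by rw [h.eq]; exact insert_comm i j {k}⟩

theorem Trip.rot {i j k : ι} (h : T.Trip i j k) : T.Trip j k i := by
  refine ⟨h.jk, h.ij.symm, h.ik.symm, ?_⟩
  rw [h.eq]; ext l; simp only [mem_insert, mem_singleton]; tauto

theorem Trip.mem {i j k : ι} (h : T.Trip i j k) :
    (i ≠ T.o ∧ (T.row i).c4 ≠ 0) ∧ (j ≠ T.o ∧ (T.row j).c4 ≠ 0) ∧ (k ≠ T.o ∧ (T.row k).c4 ≠ 0) := by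
  have hi : i ∈ univ.filter (fun l => l ≠ T.o ∧ (T.row l).c4 ≠ 0) := by rw [h.eq]; simp
  have hj : j ∈ univ.filter (fun l => l ≠ T.o ∧ (T.row l).c4 ≠ 0) := by rw [h.eq]; simp
  have hk : k ∈ univ.filter (fun l => l ≠ T.o ∧ (T.row l).c4 ≠ 0) := by rw [h.eq]; simp
  simp only [mem_filter, mem_univ, true_and] at hi hj hk
  exact ⟨hi, hj, hk⟩

theorem Trip.sum {M : Type*} [AddCommMonoid M] {i j k : ι} (h : T.Trip i j k) (f : ι → M)
    (hf : ∀ l, (T.row l).c4 = 0 → f l = 0) : ∑ l, f l = f T.o + (f i + (f j + f k)) := by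
  rw [← Finset.add_sum_erase univ f (mem_univ T.o)]
  congr 1
  have hsub : ({i, j, k} : Finset ι) ⊆ univ.erase T.o := by
    rw [← h.eq]; intro l hl; simp only [mem_filter] at hl; simp [hl.2.1]
  rw [← sum_subset hsub]
  · rw [sum_insert (by simp [h.ij, h.ik]), sum_insert (by simp [h.jk]), sum_singleton]
  · intro l hl hl'
    apply hf
    by_contra hc
    apply hl'
    rw [← h.eq]
    simp [hc, (mem_erase.1 hl).1]

theorem card_trip : (univ.filter (fun l => l ≠ T.o ∧ (T.row l).c4 ≠ 0)).card = 3 ∧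
    ∀ l, l ≠ T.o → (T.row l).c4 ≠ 0 → (T.row l).c4 ^ 2 = 1 := by
  have h := T.quad_sum ⟨0, 0, 1, 0, 0, 0⟩
  have e : ∀ l, dot ⟨0, 0, 1, 0, 0, 0⟩ (T.row l) = (T.row l).c4 := fun l => by simp [dot]
  simp only [e] at h
  have hg : gram ⟨0, 0, 1, 0, 0, 0⟩ ⟨0, 0, 1, 0, 0, 0⟩ = 4 := by decide
  rw [hg, ← Finset.add_sum_erase univ _ (mem_univ T.o), T.row_o] at h
  have h' : ∑ l ∈ univ.erase T.o, (T.row l).c4 ^ 2 = 3 := by
    simp only [triv] at h; linarith
  have hs : ∀ l, l ≠ T.o → (T.row l).c4 ≠ 0 → (T.row l).c4 ^ 2 = 1 := by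
    intro l hl hl'
    have h1 := single_le_sum (f := fun m => (T.row m).c4 ^ 2) (fun m _ => sq_nonneg _)
      (mem_erase.2 ⟨hl, mem_univ l⟩)
    rw [h'] at h1
    have : -1 ≤ (T.row l).c4 := by nlinarith
    have : (T.row l).c4 ≤ 1 := by nlinarith
    rcases (show (T.row l).c4 = 1 ∨ (T.row l).c4 = -1 by omega) with e | e <;> simp [e]
  refine ⟨?_, hs⟩
  have e2 : univ.filter (fun l => l ≠ T.o ∧ (T.row l).c4 ≠ 0) =
      (univ.erase T.o).filter (fun l => (T.row l).c4 ≠ 0) := by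
    ext l; simp
  have key : ((univ.filter (fun l => l ≠ T.o ∧ (T.row l).c4 ≠ 0)).card : ℤ) = 3 := by
    rw [e2, ← h', ← sum_filter_of_ne (p := fun l => (T.row l).c4 ≠ 0)]
    · rw [Finset.card_eq_sum_ones, Nat.cast_sum]
      refine sum_congr rfl fun l hl => ?_
      simp only [mem_filter, mem_erase] at hl
      rw [hs l hl.1.1 hl.2]; rfl
    · intro l _ hl hc; exact hl (by simp [hc])
  exact_mod_cast key

theorem exists_trip : ∃ i j k, T.Trip i j k := by
  obtain ⟨i, j, k, h1, h2, h3, he⟩ := card_eq_three.1 (card_trip (T := T)).1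
  exact ⟨i, j, k, h1, h2, h3, he⟩

variable (T)

/-- The oriented row. -/
def r4 (i : ι) : Row := smul (T.row i).c4 (T.row i)

/-- The signed degree. -/
def A (i : ι) : ℤ := (T.row i).c4 * T.d i

variable {T} {i j k : ι}

theorem r4_c4 (hi : i ≠ T.o ∧ (T.row i).c4 ≠ 0) : (T.r4 i).c4 = 1 := by
  have := (card_trip (T := T)).2 i hi.1 hi.2
  simp only [r4, smul]; linarith

theorem r4_mem (hi : i ≠ T.o ∧ (T.row i).c4 ≠ 0) : T.r4 i ∈ rows4 := by
  have hc := (card_trip (T := T)).2 i hi.1 hi.2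
  obtain ⟨b1, b2, b3, b4, b5, b6⟩ := T.box i
  have e : ∀ a : ℤ, ((T.row i).c4 * a) ^ 2 = a ^ 2 := fun a => by rw [mul_pow, hc, one_mul]
  refine mem_rows4 ?_ ?_ (r4_c4 hi) ?_ ?_ ?_ ?_
  · exact mem_tiny_of_sq (by simp only [r4, smul]; rw [e]; exact b1)
  · exact mem_small_of_sq (by simp only [r4, smul]; rw [e]; linarith)
  · exact mem_small_of_sq (by simp only [r4, smul]; rw [e]; linarith)
  · exact mem_small_of_sq (by simp only [r4, smul]; rw [e]; linarith)
  · exact mem_small_of_sq (by simp only [r4, smul]; rw [e]; linarith)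
  · have := T.quad_le i
    have e2 : dot (T.r4 i) (dual (T.r4 i)) = (T.row i).c4 ^ 2 * dot (T.row i) (dual (T.row i)) := by
      simp only [r4, smul, dot, dual]; ring
    rw [e2, hc, one_mul]; exact this

theorem A_ne (hi : i ≠ T.o ∧ (T.row i).c4 ≠ 0) : T.A i ≠ 0 :=
  mul_ne_zero hi.2 (by exact_mod_cast (T.d_pos i).ne')

theorem abs_A (hi : i ≠ T.o ∧ (T.row i).c4 ≠ 0) : (T.A i).natAbs = T.d i := by
  have hc := (card_trip (T := T)).2 i hi.1 hi.2
  rcases sq_eq_one_iff.1 hc with e | e <;> simp [A, e]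

theorem cong_A : (128 : ℤ) ∣ T.A i - cong (T.r4 i) := by
  have := (T.cong_mod i).mul_left (T.row i).c4
  rw [r4, cong_smul, A]
  rwa [mul_sub] at this

theorem Trip.third_row (h : T.Trip i j k) : T.r4 k = sub (sub target4 (T.r4 i)) (T.r4 j) := by
  apply eq_of_dot
  intro x
  have hs := T.gram_sum x ⟨0, 0, 1, 0, 0, 0⟩
  rw [h.sum (fun l => dot x (T.row l) * dot ⟨0, 0, 1, 0, 0, 0⟩ (T.row l))] at hs
  · simp only [gram, T.row_o] at hs
    simp only [dot_sub, target4, r4, dot_smul]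
    have e : ∀ r : Row, dot ⟨0, 0, 1, 0, 0, 0⟩ r = r.c4 := fun r => by simp [dot]
    simp only [e, triv] at hs ⊢
    linarith
  · intro l hl; simp [dot, hl]

theorem Trip.sum_A (h : T.Trip i j k) : T.A i + T.A j + T.A k = -1 := by
  have hs := T.orth ⟨0, 0, 1, 0, 0, 0⟩
  rw [h.sum (fun l => (T.d l : ℤ) * dot ⟨0, 0, 1, 0, 0, 0⟩ (T.row l))] at hs
  · simp only [T.row_o, T.d_o, dot, triv, Nat.cast_one] at hs
    simp only [A]; linarith
  · intro l hl; simp [dot, hl]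

theorem Trip.equation (h : T.Trip i j k) :
    1 + ((zeta (T.r4 i) : ℚ) ^ 2 / T.A i + ((zeta (T.r4 j) : ℚ) ^ 2 / T.A j +
      (zeta (T.r4 k) : ℚ) ^ 2 / T.A k)) = 29184000 / n := by
  have hs := T.eq4
  rw [h.sum (fun l => ((T.row l).c4 : ℚ) * (zeta (T.row l) : ℚ) ^ 2 / (T.d l : ℚ))] at hs
  · rw [← hs]
    have e : ∀ l, l ≠ T.o ∧ (T.row l).c4 ≠ 0 → (zeta (T.r4 l) : ℚ) ^ 2 / T.A l =
        ((T.row l).c4 : ℚ) * (zeta (T.row l) : ℚ) ^ 2 / (T.d l : ℚ) := by
      intro l hl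
      have hd : (T.d l : ℚ) ≠ 0 := by exact_mod_cast (T.d_pos l).ne'
      rcases sq_eq_one_iff.1 ((card_trip (T := T)).2 l hl.1 hl.2) with e | e <;>
        simp [r4, A, zeta_smul, e, div_neg, neg_div]
    rw [e i h.mem.1, e j h.mem.2.1, e k h.mem.2.2]
    simp [T.row_o, T.d_o, triv, zeta]
  · intro l hl; simp [hl]

theorem Trip.sum_sq (h : T.Trip i j k) : T.d i ^ 2 + T.d j ^ 2 + T.d k ^ 2 < n := by
  have hs := sum_le_sum_of_subset (f := fun l => T.d l ^ 2) (subset_univ ({T.o, i, j, k} : Finset ι))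
  rw [T.sum_sq, sum_insert (by simp [h.mem.1.1.symm, h.mem.2.1.1.symm, h.mem.2.2.1.symm]),
    sum_insert (by simp [h.ij, h.ik]), sum_insert (by simp [h.jk]), sum_singleton, T.d_o] at hs
  omega

theorem Trip.admissible (h : T.Trip i j k) :
    Data.admissible (T.r4 i) (T.r4 j) (T.r4 k) = true := by
  have hp : ∀ a b c : ι, T.Trip a b c → paired (T.r4 a) (T.r4 b) (T.r4 c) = true := by
    intro a b c ht
    simp only [paired, Bool.or_eq_true, decide_eq_true_eq]
    by_cases he : (T.r4 a).cs % 2 = 0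
    · exact Or.inl (Or.inl he)
    have hodd : (T.row a).cs % 2 ≠ 0 := by
      intro hc
      apply he
      rcases sq_eq_one_iff.1 ((card_trip (T := T)).2 a ht.mem.1.1 ht.mem.1.2) with e | e <;>
        simp only [r4, smul, e] <;> omega
    have hne := T.σ_ne a hodd
    have hrow := T.σ_row a
    have ho : T.σ a ≠ T.o := fun hc => hodd (by rw [← hrow, hc, T.row_o]; rfl)
    have hm : T.σ a ∈ ({a, b, c} : Finset ι) := by
      rw [← ht.eq]; simp [ho, hrow, ht.mem.1.2]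
    have hr : T.r4 (T.σ a) = T.r4 a := by simp [r4, hrow]
    simp only [mem_insert, mem_singleton] at hm
    rcases hm with e | e | e
    · exact absurd e hne
    · exact Or.inl (Or.inr (by rw [← hr, e]))
    · exact Or.inr (by rw [← hr, e])
  simp only [Data.admissible, Bool.and_eq_true, List.all_eq_true, decide_eq_true_eq]
  refine ⟨⟨⟨hp i j k h, hp j i k h.swap⟩, ?_⟩, fun x _ => ?_⟩
  · have := hp k i j h.rot.rot
    simp only [paired, Bool.or_eq_true, decide_eq_true_eq] at this ⊢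
    tauto
  · have hs := sum_le_univ_sum_of_nonneg (s := ({T.o, i, j, k} : Finset ι))
      (f := fun l => dot x (T.row l) ^ 2) (fun l => sq_nonneg _)
    rw [T.quad_sum, sum_insert (by simp [h.mem.1.1.symm, h.mem.2.1.1.symm, h.mem.2.2.1.symm]),
      sum_insert (by simp [h.ij, h.ik]), sum_insert (by simp [h.jk]), sum_singleton, T.row_o] at hs
    have e : ∀ l, l ≠ T.o ∧ (T.row l).c4 ≠ 0 → dot x (T.r4 l) ^ 2 = dot x (T.row l) ^ 2 := by
      intro l hl
      rw [r4, dot_smul, mul_pow, (card_trip (T := T)).2 l hl.1 hl.2, one_mul]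
    rw [e i h.mem.1, e j h.mem.2.1, e k h.mem.2.2]
    linarith

theorem Trip.sol (h : T.Trip i j k) {pos : Bool} {a b : ℕ} (ha : T.A i = cond pos (a : ℤ) (-a))
    (hb : T.A j = cond pos (b : ℤ) (-b)) (hab : a ≤ b) :
    Scan.Sol pos ((zeta (T.r4 i)).natAbs * (zeta (T.r4 i)).natAbs)
      ((zeta (T.r4 j)).natAbs * (zeta (T.r4 j)).natAbs)
      ((zeta (T.r4 k)).natAbs * (zeta (T.r4 k)).natAbs) a b n ∧
    T.A k = -(cond pos (1 : ℤ) (-1)) * (Scan.third pos a b : ℕ) := by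
  obtain ⟨hi, hj, hk⟩ := h.mem
  have ea : a = T.d i := by
    rw [← abs_A hi, ha]; cases pos <;> simp
  have eb : b = T.d j := by
    rw [← abs_A hj, hb]; cases pos <;> simp
  have hap : 0 < a := ea ▸ T.d_pos i
  have hbp : 0 < b := eb ▸ T.d_pos j
  have hS := h.sum_A
  have hk' : T.A k = -(cond pos (1 : ℤ) (-1)) * (Scan.third pos a b : ℕ) := by
    cases pos <;> simp only [Scan.third, cond] at ha hb ⊢
    · rw [Nat.cast_sub (by omega)]; push_cast; omega
    · push_cast; omega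
  have ec : Scan.third pos a b = T.d k := by
    rw [← abs_A hk, hk']; cases pos <;> simp
  refine ⟨⟨hap, hab, ?_, ?_, Nat.mod_eq_zero_of_dvd T.mult, T.odd, ea ▸ T.dvd i, eb ▸ T.dvd j,
    ec ▸ T.dvd k⟩, hk'⟩
  · have he := h.equation
    rw [ha, hb, hk'] at he
    have hn : (n : ℚ) ≠ 0 := by exact_mod_cast T.n_pos.ne'
    have hcp : (0 : ℚ) < (Scan.third pos a b : ℕ) := by rw [ec]; exact_mod_cast T.d_pos k
    have ha' : (a : ℚ) ≠ 0 := by exact_mod_cast hap.ne'
    have hb' : (b : ℚ) ≠ 0 := by exact_mod_cast hbp.ne'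
    have hz : ∀ r : Row, (((zeta r).natAbs * (zeta r).natAbs : ℕ) : ℚ) = (zeta r : ℚ) ^ 2 := by
      intro r
      rw [Nat.cast_mul, Nat.cast_natAbs]
      push_cast
      rw [abs_mul_abs_self, sq]
    rw [← Nat.cast_inj (R := ℚ)]
    cases pos <;>
      simp only [Scan.denP, Scan.denM, Scan.W, cond, Nat.cast_mul, Nat.cast_add] at he ⊢ <;>
      simp only [← Nat.cast_mul, hz] <;>
      push_cast at he ⊢ <;>
      field_simp at he <;>
      linarith
  · rw [ec, ea, eb]; have := h.sum_sq; simpa [sq] using this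

theorem res_spec {pos : Bool} {a : ℕ} (ha : T.A i = cond pos (a : ℤ) (-a)) :
    a % 128 = res pos (T.r4 i) % 128 := by
  have h := cong_A (T := T) (i := i)
  rw [ha] at h
  cases pos <;> simp only [res, cond] at h ⊢ <;> omega

theorem c1_facts : (univ.filter (fun l => (T.row l).c1 ≠ 0)).card = 3 ∧
    ∀ l, (T.row l).c1 ≠ 0 → (T.row l).c1 ^ 2 = 1 := by
  have h := T.quad_sum ⟨1, 0, 0, 0, 0, 0⟩
  have e : ∀ l, dot ⟨1, 0, 0, 0, 0, 0⟩ (T.row l) = (T.row l).c1 := fun l => by simp [dot]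
  simp only [e] at h
  have hg : gram ⟨1, 0, 0, 0, 0, 0⟩ ⟨1, 0, 0, 0, 0, 0⟩ = 3 := by decide
  rw [hg] at h
  have hs : ∀ l, (T.row l).c1 ≠ 0 → (T.row l).c1 ^ 2 = 1 := by
    intro l hl'
    obtain ⟨b1, -⟩ := T.box l
    have : -1 ≤ (T.row l).c1 := by nlinarith
    have : (T.row l).c1 ≤ 1 := by nlinarith
    rcases (show (T.row l).c1 = 1 ∨ (T.row l).c1 = -1 by omega) with e | e <;> simp [e]
  refine ⟨?_, hs⟩
  have key : ((univ.filter (fun l => (T.row l).c1 ≠ 0)).card : ℤ) = 3 := by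
    rw [← h, ← sum_filter_of_ne (p := fun l => (T.row l).c1 ≠ 0)]
    · rw [Finset.card_eq_sum_ones, Nat.cast_sum]
      refine sum_congr rfl fun l hl => ?_
      simp only [mem_filter] at hl
      rw [hs l hl.2]; rfl
    · intro l _ hl hc; exact hl (by simp [hc])
  exact_mod_cast key

theorem completion (hk : (T.row k).c1 ≠ 0) :
    noCompletion n (smul (T.row k).c1 (T.row k)) ((T.row k).c1 * T.d k) = false := by
  obtain ⟨hcard, hs⟩ := c1_facts (T := T)
  have hmem : k ∈ univ.filter (fun l => (T.row l).c1 ≠ 0) := by simp [hk]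
  have h2 : ((univ.filter (fun l => (T.row l).c1 ≠ 0)).erase k).card = 2 := by
    rw [card_erase_of_mem hmem, hcard]
  obtain ⟨x, y, hxy, he⟩ := card_eq_two.1 h2
  have hx : x ≠ k ∧ (T.row x).c1 ≠ 0 := by
    have : x ∈ (univ.filter (fun l => (T.row l).c1 ≠ 0)).erase k := by rw [he]; simp
    simpa using this
  have hy : y ≠ k ∧ (T.row y).c1 ≠ 0 := by
    have : y ∈ (univ.filter (fun l => (T.row l).c1 ≠ 0)).erase k := by rw [he]; simp
    simpa using this
  have hsum : ∀ {M : Type} [AddCommMonoid M] (f : ι → M), (∀ l, (T.row l).c1 = 0 → f l = 0) →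
      ∑ l, f l = f k + (f x + f y) := by
    intro M _ f hf
    rw [← sum_filter_of_ne (p := fun l => (T.row l).c1 ≠ 0) (fun l _ hl hc => hl (hf l hc)),
      ← Finset.add_sum_erase _ f hmem, he, sum_pair hxy]
  set r := smul (T.row k).c1 (T.row k) with hr
  set u := smul (T.row x).c1 (T.row x) with hu
  set v := smul (T.row y).c1 (T.row y) with hv
  have hvu : v = sub (sub (gmul ⟨1, 0, 0, 0, 0, 0⟩) r) u := by
    apply eq_of_dot
    intro z
    have hs' := T.gram_sum z ⟨1, 0, 0, 0, 0, 0⟩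
    rw [hsum (fun l => dot z (T.row l) * dot ⟨1, 0, 0, 0, 0, 0⟩ (T.row l))] at hs'
    · simp only [gram] at hs'
      have e : ∀ q : Row, dot ⟨1, 0, 0, 0, 0, 0⟩ q = q.c1 := fun q => by simp [dot]
      simp only [e] at hs'
      simp only [dot_sub, hr, hu, hv, dot_smul]
      linarith
    · intro l hl; simp [dot, hl]
  have quad : ∀ l, (T.row l).c1 ≠ 0 →
      dot (smul (T.row l).c1 (T.row l)) (dual (smul (T.row l).c1 (T.row l))) ≤ 128 := by
    intro l hl
    have e2 : dot (smul (T.row l).c1 (T.row l)) (dual (smul (T.row l).c1 (T.row l))) =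
        (T.row l).c1 ^ 2 * dot (T.row l) (dual (T.row l)) := by
      simp only [smul, dot, dual]; ring
    rw [e2, hs l hl, one_mul]; exact T.quad_le l
  have humem : u ∈ rows1 := by
    obtain ⟨b1, b2, b3, b4, b5, b6⟩ := T.box x
    have e : ∀ a : ℤ, ((T.row x).c1 * a) ^ 2 = a ^ 2 := fun a => by rw [mul_pow, hs x hx.2, one_mul]
    refine mem_rows1 ?_ ?_ ?_ ?_ ?_ ?_ (quad x hx.2)
    · have := hs x hx.2; simp only [hu, smul]; linarith
    all_goals refine mem_small_of_sq ?_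
    all_goals simp only [hu, smul]; rw [e]; linarith
  by_contra hno
  rw [Bool.not_eq_false] at hno
  simp only [noCompletion, List.all_eq_true, Bool.or_eq_true, decide_eq_true_eq] at hno
  rcases hno u humem with hq | hq
  · rw [← hvu] at hq; exact absurd (quad y hy.2) (not_le.2 hq)
  rw [← hvu] at hq
  -- the two signed degrees
  set s : ℤ := (T.row k).c1 * T.d k with hsdef
  set X : ℤ := (T.row x).c1 * T.d x with hX
  set Y : ℤ := (T.row y).c1 * T.d y with hY
  have horth : s + X + Y = 0 := by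
    have hs' := T.orth ⟨1, 0, 0, 0, 0, 0⟩
    rw [hsum (fun l => (T.d l : ℤ) * dot ⟨1, 0, 0, 0, 0, 0⟩ (T.row l))] at hs'
    · simp only [dot] at hs'; simp only [hsdef, hX, hY]; linarith
    · intro l hl; simp [dot, hl]
  have hzq : (zeta r : ℚ) ^ 2 / (s : ℚ) + ((zeta u : ℚ) ^ 2 / (X : ℚ) + (zeta v : ℚ) ^ 2 / (Y : ℚ)) =
      614400 / n := by
    have hs' := T.eq1
    rw [hsum (fun l => ((T.row l).c1 : ℚ) * (zeta (T.row l) : ℚ) ^ 2 / (T.d l : ℚ))] at hs'
    · rw [← hs']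
      have e : ∀ l, (T.row l).c1 ≠ 0 → (zeta (smul (T.row l).c1 (T.row l)) : ℚ) ^ 2 /
          (((T.row l).c1 * T.d l : ℤ) : ℚ) =
          ((T.row l).c1 : ℚ) * (zeta (T.row l) : ℚ) ^ 2 / (T.d l : ℚ) := by
        intro l hl
        rcases sq_eq_one_iff.1 (hs l hl) with e | e <;> simp [zeta_smul, e, div_neg, neg_div]
      rw [hr, hu, hv, hsdef, hX, hY, e k hk, e x hx.2, e y hy.2]
    · intro l hl; simp [hl]
  have hne : ∀ l, (T.row l).c1 ≠ 0 → (((T.row l).c1 * T.d l : ℤ) : ℚ) ≠ 0 := fun l hl =>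
    Int.cast_ne_zero.2 (mul_ne_zero hl (by exact_mod_cast (T.d_pos l).ne'))
  have hsne : (s : ℚ) ≠ 0 := hne k hk
  have hXne : (X : ℚ) ≠ 0 := hne x hx.2
  have hYne : (Y : ℚ) ≠ 0 := hne y hy.2
  have hn : (n : ℚ) ≠ 0 := by exact_mod_cast T.n_pos.ne'
  have hint : (n : ℤ) * (zeta r ^ 2 * (X * Y) + (zeta u ^ 2 * (s * Y) + zeta v ^ 2 * (s * X))) =
      614400 * (s * (X * Y)) := by
    field_simp at hzq
    rw [← Int.cast_inj (α := ℚ)]
    push_cast
    linarith
  refine nonSquare_sound hq (2 * (614400 * s - n * zeta r ^ 2) * X +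
    ((614400 * s - n * zeta r ^ 2) * s + n * s * (zeta v ^ 2 - zeta u ^ 2))) ?_
  have hYe : Y = -s - X := by linarith
  rw [hYe] at hint
  simp only [disc]
  linear_combination (-4) * (614400 * s - (n : ℤ) * zeta r ^ 2) * hint

/-- The test at a leaf gives the order. -/
theorem Trip.leaf (h : T.Trip i j k) {pos : Bool} {a b : ℕ} (ha : T.A i = cond pos (a : ℤ) (-a))
    (hb : T.A j = cond pos (b : ℤ) (-b))
    (hc : T.A k = -(cond pos (1 : ℤ) (-1)) * (Scan.third pos a b : ℕ))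
    (hf : finish (T.r4 i) (T.r4 j) (T.r4 k) pos n a b = true) : n = 50232960 := by
  simp only [finish, Bool.or_eq_true] at hf
  rcases hf with hf | hf
  · exact Nat.eq_of_beq_eq_true hf
  exfalso
  have ha' : cond pos (1 : ℤ) (-1) * (a : ℤ) = T.A i := by rw [ha]; cases pos <;> simp
  have hb' : cond pos (1 : ℤ) (-1) * (b : ℤ) = T.A j := by rw [hb]; cases pos <;> simp
  rw [ha', hb', ← hc] at hf
  have hsign : ∀ l, l ≠ T.o ∧ (T.row l).c4 ≠ 0 →
      ((T.r4 l).c1 ≠ 0 ↔ (T.row l).c1 ≠ 0) ∧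
      smul (T.r4 l).c1 (T.r4 l) = smul (T.row l).c1 (T.row l) ∧
      (T.r4 l).c1 * T.A l = (T.row l).c1 * T.d l := by
    intro l hl
    rcases sq_eq_one_iff.1 ((card_trip (T := T)).2 l hl.1 hl.2) with e | e <;>
      simp [r4, A, smul, e]
  obtain ⟨⟨si, ei, di⟩, ⟨sj, ej, dj⟩, ⟨sk, ek, dk⟩⟩ :=
    (⟨hsign i h.mem.1, hsign j h.mem.2.1, hsign k h.mem.2.2⟩ : _ ∧ _ ∧ _)
  by_cases pi : (T.r4 i).c1 = 0 <;> by_cases pj : (T.r4 j).c1 = 0 <;>
    by_cases pk : (T.r4 k).c1 = 0 <;> simp [pi, pj, pk] at hf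
  · rw [ek, dk, completion (sk.1 pk)] at hf
    exact Bool.false_ne_true hf
  · rw [ej, dj, completion (sj.1 pj)] at hf
    exact Bool.false_ne_true hf
  · rw [ei, di, completion (si.1 pi)] at hf
    exact Bool.false_ne_true hf

theorem Trip.order (h : T.Trip i j k) (hsame : 0 < T.A i ↔ 0 < T.A j)
    (hle : T.d i ≤ T.d j) : n = 50232960 := by
  obtain ⟨hi, hj, hk⟩ := h.mem
  obtain ⟨pos, hpos⟩ : ∃ pos : Bool, pos = true ↔ 0 < T.A i := ⟨decide (0 < T.A i), by simp⟩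
  have ha : T.A i = cond pos (T.d i : ℤ) (-(T.d i : ℤ)) := by
    have := abs_A hi; have := A_ne hi
    cases pos <;> simp at hpos <;> simp only [cond] <;> omega
  have hb : T.A j = cond pos (T.d j : ℤ) (-(T.d j : ℤ)) := by
    have := abs_A hj; have := A_ne hj
    cases pos <;> simp at hpos <;> simp only [cond] <;> omega
  obtain ⟨hsol, hc⟩ := h.sol ha hb hle
  have hq : dot (T.r4 k) (dual (T.r4 k)) ≤ 128 := by
    have e2 : dot (T.r4 k) (dual (T.r4 k)) = (T.row k).c4 ^ 2 * dot (T.row k) (dual (T.row k)) := by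
      simp only [r4, smul, dot, dual]; ring
    rw [e2, (card_trip (T := T)).2 k hk.1 hk.2, one_mul]; exact T.quad_le k
  have hck := checkTriple_of_mem (r4_mem hi) (r4_mem hj) (h.third_row ▸ hq)
    (h.third_row ▸ h.admissible)
  rw [← h.third_row] at hck
  simp only [checkTriple, Bool.and_eq_true] at hck
  refine h.leaf ha hb hc ?_
  cases pos
  · exact Scan.scan_sound hsol (res_spec ha) (res_spec hb) hck.2
  · exact Scan.scan_sound hsol (res_spec ha) (res_spec hb) hck.1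

theorem Trip.order_pair (h : T.Trip i j k) (hsame : 0 < T.A i ↔ 0 < T.A j) : n = 50232960 := by
  rcases le_total (T.d i) (T.d j) with hl | hl
  · exact h.order hsame hl
  · exact h.swap.order hsame.symm hl

end

/-- The table determines the order. -/
theorem order_eq (T : Table ι n) : n = 50232960 := by
  classical
  obtain ⟨i, j, k, h⟩ := exists_trip (T := T)
  by_cases hij : 0 < T.A i ↔ 0 < T.A j
  · exact h.order_pair hij
  by_cases hjk : 0 < T.A j ↔ 0 < T.A k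
  · exact h.rot.order_pair hjk
  exact h.rot.rot.order_pair (by tauto)

end Table

end Cfsg.Agent.Lib.J3Order.Data
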