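import Cfsg.Agent.Lib.J3Order.SylowLocal

/-!
# Groups of `J₃` type: the cyclic subgroup of order `57` in the excluded case
-/

set_option autoImplicit false
set_option linter.style.haveILetI false

namespace Cfsg.Agent.Lib.J3Order.Cyclic57

open Cfsg.Agent.Lib.J3Order.SylowLocal

variable {G : Type*} [Group G]

/-- The power of a given exponent modulo `57`. -/
def pwr (g : G) (k : ZMod 57) : G := g ^ k.val

/-- The facts about a generator. -/
structure Cyc (g : G) : Prop where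
  pow : g ^ 57 = 1
  cent : ∀ j : ZMod 57, 3 * j ≠ 0 → Nat.card (Subgroup.centralizer ({pwr g j} : Set G)) = 57
  seven : IsConj g (pwr g 7)
  fuse : ∀ a b : ZMod 57, 3 * a ≠ 0 → IsConj (pwr g a) (pwr g b) →
    ∃ t ∈ ([1, 7, 49] : List (ZMod 57)), t * a = b
  cover : ∀ x : G, 19 ∣ orderOf x → ∃ j, IsConj x (pwr g j)

theorem cube_roots : ∀ t : ZMod 57, t * (t * t) = 1 → t = 1 ∨ t = 7 ∨ t = 49 := by decide +kernel

section

variable {g : G} (hg : g ^ 57 = 1)
include hg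

theorem pwr_cast (n : ℕ) : pwr g (n : ZMod 57) = g ^ n := by
  rw [pwr, ZMod.val_natCast, ← pow_eq_pow_mod n hg]

theorem pwr_zero : pwr g 0 = 1 := by simpa using pwr_cast hg 0

theorem pwr_one : pwr g 1 = g := by simpa using pwr_cast hg 1

theorem pwr_add (a b : ZMod 57) : pwr g (a + b) = pwr g a * pwr g b := by
  obtain ⟨i, rfl⟩ : ∃ i : ℕ, (i : ZMod 57) = a := ⟨a.val, ZMod.natCast_zmod_val a⟩
  obtain ⟨j, rfl⟩ : ∃ j : ℕ, (j : ZMod 57) = b := ⟨b.val, ZMod.natCast_zmod_val b⟩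
  rw [← Nat.cast_add, pwr_cast hg, pwr_cast hg, pwr_cast hg, pow_add]

theorem pwr_mul (a : ZMod 57) (n : ℕ) : pwr g a ^ n = pwr g ((n : ZMod 57) * a) := by
  obtain ⟨i, rfl⟩ : ∃ i : ℕ, (i : ZMod 57) = a := ⟨a.val, ZMod.natCast_zmod_val a⟩
  rw [← Nat.cast_mul, pwr_cast hg, pwr_cast hg, ← pow_mul, mul_comm]

theorem pwr_neg (a : ZMod 57) : pwr g (-a) = (pwr g a)⁻¹ :=
  eq_inv_of_mul_eq_one_left (by rw [← pwr_add hg, neg_add_cancel, pwr_zero hg])

end

theorem exists_cyc [Finite G] [Fact (Nat.Prime 19)] (X : Sylow 19 G)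
    (hI : Inv (X : Subgroup G) 19 3 3) : ∃ g : G, Cyc g := by
  classical
  set C := Subgroup.centralizer ((X : Subgroup G) : Set G) with hC
  set φ := (X : Subgroup G).normalizerMonoidHom with hφ
  haveI : IsCyclic (X : Subgroup G) := isCyclic_of_prime_card hI.card
  have hXC : (X : Subgroup G) ≤ C := fun x hx => Subgroup.mem_centralizer_iff.2 fun y hy =>
    congrArg Subtype.val (IsCyclic.commGroup.mul_comm (⟨y, hy⟩ : (X : Subgroup G)) ⟨x, hx⟩)
  obtain ⟨x₀, hx₀⟩ := exists_prime_orderOf_dvd_card' (G := (X : Subgroup G)) 19 (by rw [hI.card])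
  haveI : Fact (Nat.Prime 3) := ⟨Nat.prime_three⟩
  obtain ⟨w₀, hw₀⟩ := exists_prime_orderOf_dvd_card' (G := C) 3 (by rw [hI.cent]; norm_num)
  rw [← Subgroup.orderOf_coe] at hx₀ hw₀
  have hcomm : Commute (x₀ : G) w₀ := Subgroup.mem_centralizer_iff.1 w₀.2 x₀ x₀.2
  set g : G := (x₀ : G) * w₀ with hgdef
  have hord : orderOf g = 57 := by
    rw [hgdef, hcomm.orderOf_mul_eq_mul_orderOf_of_coprime (by rw [hx₀, hw₀]; norm_num), hx₀, hw₀]
  have hgC : g ∈ C := mul_mem (hXC x₀.2) w₀.2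
  have hCg : Subgroup.zpowers g = C := Subgroup.eq_of_le_of_card_ge (Subgroup.zpowers_le.2 hgC)
    (by rw [Nat.card_zpowers, hord, hI.cent])
  have hg : g ^ 57 = 1 := by rw [← hord, pow_orderOf_eq_one]
  have hexp : ∀ c ∈ C, ∃ j : ZMod 57, pwr g j = c := by
    intro c hc
    rw [← hCg] at hc
    obtain ⟨n, hn⟩ := (isOfFinOrder_of_finite g).mem_zpowers_iff_mem_range_orderOf.1 hc |>
      Finset.mem_image.1
    exact ⟨n, by rw [pwr_cast hg]; exact hn.2⟩
  have hinj : ∀ a b : ZMod 57, pwr g a = pwr g b → a = b := fun a b e =>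
    ZMod.val_injective _ (pow_injOn_Iio_orderOf (by rw [hord]; exact Set.mem_Iio.2 a.val_lt)
      (by rw [hord]; exact Set.mem_Iio.2 b.val_lt) e)
  have hpC : ∀ a, pwr g a ∈ C := fun a => pow_mem hgC _
  -- the cube of a power lies in `X` and generates it
  have hcube : ∀ a : ZMod 57, 3 * a ≠ 0 →
      pwr g a ^ 3 ∈ (X : Subgroup G) ∧ Subgroup.zpowers (pwr g a ^ 3) = (X : Subgroup G) := by
    intro a ha
    have hm : pwr g a ^ 3 ∈ (X : Subgroup G) := by
      refine mem_of_pow X (pow_mem (hpC a) 3) ?_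
      rw [pwr_mul hg, pwr_mul hg, ← mul_assoc, show ((19 : ℕ) : ZMod 57) * ((3 : ℕ) : ZMod 57) = 0 by decide,
        zero_mul, pwr_zero hg]
    refine ⟨hm, Subgroup.eq_of_le_of_card_ge (Subgroup.zpowers_le.2 hm) ?_⟩
    rw [hI.card, Nat.card_zpowers]
    have hd : orderOf (pwr g a ^ 3) ∣ 19 := hI.card ▸ Subgroup.orderOf_dvd_natCard (X : Subgroup G) hm
    rcases (Nat.dvd_prime Fact.out).1 hd with e | e
    · rw [orderOf_eq_one_iff, pwr_mul hg, ← pwr_zero hg] at e
      exact absurd (hinj _ _ e) (by simpa using ha)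
    · omega
  have hgen : ∀ a : ZMod 57, 3 * a ≠ 0 → ∀ h : G, Commute h (pwr g a) → h ∈ C := by
    intro a ha h hh
    refine Subgroup.mem_centralizer_iff.2 fun y hy => ?_
    rw [SetLike.mem_coe, ← (hcube a ha).2] at hy
    obtain ⟨j, rfl⟩ := hy
    exact ((hh.pow_right 3).zpow_right j).symm.eq
  -- a conjugation between powers
  have hfuse : ∀ a b : ZMod 57, 3 * a ≠ 0 → ∀ h : G, h * pwr g a * h⁻¹ = pwr g b →
      h ∈ Subgroup.normalizer ((X : Subgroup G) : Set G) := by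
    intro a b ha h hh
    have hb : 3 * b ≠ 0 := fun e => ha (hinj _ _ (by
      rw [pwr_zero hg]
      have : (h * pwr g a * h⁻¹) ^ 3 = 1 := by
        rw [hh, pwr_mul hg, Nat.cast_ofNat, e, pwr_zero hg]
      rwa [conj_pow, conj_eq_one_iff, pwr_mul hg, Nat.cast_ofNat] at this))
    refine Subgroup.mem_normalizer_iff.2 fun x => ?_
    have hx : (h * pwr g a ^ 3 * h⁻¹) = pwr g b ^ 3 := by rw [← conj_pow, hh]
    rw [← (hcube a ha).2]
    nth_rewrite 2 [show Subgroup.zpowers (pwr g a ^ 3) = Subgroup.zpowers (pwr g b ^ 3) from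
      (hcube a ha).2.trans (hcube b hb).2.symm]
    constructor
    · rintro ⟨j, rfl⟩
      refine ⟨j, ?_⟩
      show (pwr g b ^ 3) ^ j = _
      rw [← hx, conj_zpow]
    · rintro ⟨j, hj⟩
      refine ⟨j, ?_⟩
      change (pwr g b ^ 3) ^ j = _ at hj
      rw [← hx, conj_zpow] at hj
      exact mul_left_cancel (mul_right_cancel hj)
  -- the action of the normaliser on the generator
  have hact : ∀ h ∈ Subgroup.normalizer ((X : Subgroup G) : Set G), ∃ t : ZMod 57,
      (∀ a, h * pwr g a * h⁻¹ = pwr g (t * a)) ∧ t * (t * t) = 1 := by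
    intro h hh
    have hgc : h * g * h⁻¹ ∈ C := by
      refine Subgroup.mem_centralizer_iff.2 fun y hy => ?_
      have hy' : h⁻¹ * y * h ∈ (X : Subgroup G) := (Subgroup.mem_normalizer_iff''.1 hh y).1 hy
      have := Subgroup.mem_centralizer_iff.1 hgC _ hy'
      calc y * (h * g * h⁻¹) = h * (h⁻¹ * y * h * g) * h⁻¹ := by group
        _ = h * (g * (h⁻¹ * y * h)) * h⁻¹ := by rw [this]
        _ = h * g * h⁻¹ * y := by group
    obtain ⟨t, ht⟩ := hexp _ hgc
    have hall : ∀ a, h * pwr g a * h⁻¹ = pwr g (t * a) := by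
      intro a
      conv_lhs => rw [pwr, ← conj_pow, ← ht, pwr_mul hg, ZMod.natCast_zmod_val, mul_comm]
    refine ⟨t, hall, ?_⟩
    have h3 : (⟨h, hh⟩ : Subgroup.normalizer ((X : Subgroup G) : Set G)) ^ 3 ∈ φ.ker := by
      have h' := pow_card_eq_one' (x := (⟨φ ⟨h, hh⟩, ⟨⟨h, hh⟩, rfl⟩⟩ : φ.range))
      rw [hI.range] at h'
      rw [MonoidHom.mem_ker, map_pow]
      exact congrArg Subtype.val h'
    rw [hφ, Subgroup.normalizerMonoidHom_ker, Subgroup.mem_subgroupOf] at h3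
    obtain ⟨j, hj⟩ := hexp _ h3
    have e : h ^ 3 * pwr g 1 * (h ^ 3)⁻¹ = pwr g (t * (t * t)) := by
      have : h ^ 3 * pwr g 1 * (h ^ 3)⁻¹ = h * (h * (h * pwr g 1 * h⁻¹) * h⁻¹) * h⁻¹ := by
        simp only [pow_succ, pow_zero, one_mul, mul_inv_rev, mul_assoc]
      rw [this, hall, hall, hall, mul_one]
    have e' : h ^ 3 * pwr g 1 * (h ^ 3)⁻¹ = pwr g 1 := by
      rw [show h ^ 3 = pwr g j from hj.symm, ← pwr_neg hg, ← pwr_add hg, ← pwr_add hg,
        show j + 1 + -j = 1 by ring]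
    exact hinj _ _ (e.symm.trans e')
  refine ⟨g, hg, ?_, ?_, ?_, ?_⟩
  · intro j hj
    have : Subgroup.centralizer ({pwr g j} : Set G) = C := by
      refine le_antisymm (fun h hh => hgen j hj h (Subgroup.mem_centralizer_singleton_iff.1 hh)) ?_
      rw [← hCg]
      refine Subgroup.zpowers_le.2 (Subgroup.mem_centralizer_singleton_iff.2 ?_)
      exact ((Commute.refl g).pow_right _).eq
    rw [this, hI.cent]
  · obtain ⟨r, hr⟩ : ∃ r : φ.range, r ≠ 1 := by
      haveI : Nontrivial φ.range := Finite.one_lt_card_iff_nontrivial.1 (by rw [hI.range]; norm_num)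
      exact exists_ne 1
    obtain ⟨⟨h, hh⟩, hk⟩ := r.2
    obtain ⟨t, hall, ht⟩ := hact h hh
    rcases cube_roots t ht with e | e | e
    · refine absurd (Subtype.ext (hk.symm.trans ?_)) hr
      subst e
      have : (⟨h, hh⟩ : Subgroup.normalizer ((X : Subgroup G) : Set G)) ∈ φ.ker := by
        rw [hφ, Subgroup.normalizerMonoidHom_ker, Subgroup.mem_subgroupOf]
        refine hgen 1 (by decide) h (mul_inv_eq_iff_eq_mul.1 ?_)
        have := hall 1
        rwa [one_mul] at this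
      exact this
    · refine isConj_iff.2 ⟨h, ?_⟩
      have := hall 1
      rwa [pwr_one hg, mul_one, e] at this
    · refine isConj_iff.2 ⟨h * h, ?_⟩
      have e1 := hall 1
      have e2 := hall (49 * 1)
      rw [e] at e1 e2
      rw [← e1, show (49 : ZMod 57) * (49 * 1) = 7 by decide, pwr_one hg] at e2
      rw [← e2]
      group
  · intro a b ha hab
    obtain ⟨h, hh⟩ := isConj_iff.1 hab
    obtain ⟨t, hall, ht⟩ := hact h (hfuse a b ha h hh)
    refine ⟨t, ?_, hinj _ _ ((hall a).symm.trans hh)⟩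
    simp only [List.mem_cons, List.not_mem_nil, or_false]
    exact cube_roots t ht
  · intro x hx
    obtain ⟨m, hm⟩ := hx
    have hy : orderOf (x ^ m) = 19 := by
      rw [orderOf_pow, hm, Nat.gcd_mul_left_left, Nat.mul_div_cancel _ ?_]
      exact Nat.pos_of_ne_zero fun e => (orderOf_pos x).ne' (by rw [hm, e, mul_zero])
    obtain ⟨P, hP⟩ := (IsPGroup.of_card (p := 19) (n := 1) (G := Subgroup.zpowers (x ^ m))
      (by rw [pow_one, Nat.card_zpowers, hy])).exists_le_sylow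
    obtain ⟨h, hh⟩ := MulAction.exists_smul_eq G P X
    have hmem : h * x ^ m * h⁻¹ ∈ (X : Subgroup G) := by
      rw [← hh, Sylow.coe_subgroup_smul]
      exact Subgroup.smul_mem_pointwise_smul _ (MulAut.conj h) _ (hP (Subgroup.mem_zpowers _))
    obtain ⟨a, ha⟩ := hexp _ (hXC hmem)
    have ha0 : 3 * a ≠ 0 := fun e => by
      have h3 : (h * x ^ m * h⁻¹) ^ 3 = 1 := by rw [← ha, pwr_mul hg, Nat.cast_ofNat, e, pwr_zero hg]
      rw [conj_pow, conj_eq_one_iff] at h3
      have := orderOf_dvd_of_pow_eq_one h3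
      rw [hy] at this
      norm_num at this
    obtain ⟨j, hj⟩ := hexp (h * x * h⁻¹) (hgen a ha0 _ (by
      rw [ha, ← conj_pow]; exact (Commute.refl _).pow_right m))
    exact ⟨j, isConj_iff.2 ⟨h, hj.symm⟩⟩
end Cfsg.Agent.Lib.J3Order.Cyclic57
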