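import Cfsg.Agent.Lib.J3Order.Scan

/-!
# Groups of `J₃` type: the coefficient rows of the characters and their finite combinatorics

A row records the six rational functionals of a character on the elements with root `z`.
-/

set_option autoImplicit false

namespace Cfsg.Agent.Lib.J3Order.Data

/-- A coefficient row. -/
structure Row where
  /-- first coordinate -/
  c1 : ℤ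
  /-- second coordinate -/
  cs : ℤ
  /-- third coordinate -/
  c4 : ℤ
  /-- fourth coordinate -/
  c5 : ℤ
  /-- fifth coordinate -/
  c6 : ℤ
  /-- sixth coordinate -/
  c7 : ℤ
deriving DecidableEq

/-- The scalar product. -/
def dot (x y : Row) : ℤ :=
  x.c1 * y.c1 + x.cs * y.cs + x.c4 * y.c4 + x.c5 * y.c5 + x.c6 * y.c6 + x.c7 * y.c7

/-- The Gram matrix. -/
def gmul (y : Row) : Row :=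
  ⟨3 * y.c1 + y.c4 + y.c5 - y.c6,
   8 * y.cs - 2 * y.c4 + 2 * y.c6 + 2 * y.c7,
   y.c1 - 2 * y.cs + 4 * y.c4 - y.c5 + y.c7,
   y.c1 - y.c4 + 4 * y.c5 - y.c7,
   -y.c1 + 2 * y.cs + 5 * y.c6,
   2 * y.cs + y.c4 - y.c5 + 6 * y.c7⟩

/-- The Gram form. -/
def gram (x y : Row) : ℤ := dot x (gmul y)

/-- `128` times the inverse Gram matrix. -/
def dual (y : Row) : Row :=
  ⟨67 * y.c1 - 14 * y.cs - 31 * y.c4 - 23 * y.c5 + 19 * y.c6 + 6 * y.c7,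
   -14 * y.c1 + 28 * y.cs + 22 * y.c4 + 6 * y.c5 - 14 * y.c6 - 12 * y.c7,
   -31 * y.c1 + 22 * y.cs + 59 * y.c4 + 19 * y.c5 - 15 * y.c6 - 14 * y.c7,
   -23 * y.c1 + 6 * y.cs + 19 * y.c4 + 43 * y.c5 - 7 * y.c6 + 2 * y.c7,
   19 * y.c1 - 14 * y.cs - 15 * y.c4 - 7 * y.c5 + 35 * y.c6 + 6 * y.c7,
   6 * y.c1 - 12 * y.cs - 14 * y.c4 + 2 * y.c5 + 6 * y.c6 + 28 * y.c7⟩

/-- The value at `z`. -/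
def zeta (r : Row) : ℤ := -11 * r.c1 - 2 * r.cs - 9 * r.c4 + 15 * r.c5 + 5 * r.c6 + 10 * r.c7

/-- The degree modulo `128`. -/
def cong (r : Row) : ℤ := 5 * r.c1 + 110 * r.cs + 7 * r.c4 + 63 * r.c5 + 85 * r.c6 + 122 * r.c7

/-- A multiple. -/
def smul (k : ℤ) (r : Row) : Row := ⟨k * r.c1, k * r.cs, k * r.c4, k * r.c5, k * r.c6, k * r.c7⟩

/-- The difference. -/
def sub (r s : Row) : Row := ⟨r.c1 - s.c1, r.cs - s.cs, r.c4 - s.c4, r.c5 - s.c5, r.c6 - s.c6, r.c7 - s.c7⟩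

/-- The row of the trivial character. -/
def triv : Row := ⟨0, 0, 1, 0, 0, 1⟩

/-- The integers of absolute value at most `2`. -/
def small : List ℤ := [-2, -1, 0, 1, 2]

/-- The integers of absolute value at most `1`. -/
def tiny : List ℤ := [-1, 0, 1]

/-- The possible rows with third coordinate one. -/
def rows4 : List Row :=
  [
    ⟨-1, -1, 1, -1, 0, 0⟩, ⟨-1, -1, 1, -1, 0, 1⟩, ⟨-1, -1, 1, -1, 1, 0⟩, ⟨-1, 0, 1, -1, 1, 0⟩, ⟨-1, 0, 1, -1, 1, 1⟩,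
    ⟨0, -2, 1, -1, -1, 0⟩, ⟨0, -2, 1, -1, 0, -1⟩, ⟨0, -2, 1, -1, 0, 0⟩, ⟨0, -2, 1, 0, -1, -1⟩, ⟨0, -2, 1, 0, -1, 0⟩,
    ⟨0, -2, 1, 0, -1, 1⟩, ⟨0, -2, 1, 0, 0, -1⟩, ⟨0, -2, 1, 0, 0, 0⟩, ⟨0, -1, 1, -1, -1, 0⟩, ⟨0, -1, 1, -1, -1, 1⟩,
    ⟨0, -1, 1, -1, 0, -1⟩, ⟨0, -1, 1, -1, 0, 0⟩, ⟨0, -1, 1, -1, 0, 1⟩, ⟨0, -1, 1, -1, 1, 0⟩, ⟨0, -1, 1, 0, -1, -1⟩,
    ⟨0, -1, 1, 0, -1, 0⟩, ⟨0, -1, 1, 0, -1, 1⟩, ⟨0, -1, 1, 0, 0, -1⟩, ⟨0, -1, 1, 0, 0, 0⟩, ⟨0, -1, 1, 0, 0, 1⟩,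
    ⟨0, -1, 1, 0, 1, -1⟩, ⟨0, -1, 1, 0, 1, 0⟩, ⟨0, -1, 1, 0, 1, 1⟩, ⟨0, -1, 1, 1, 0, 0⟩, ⟨0, 0, 1, -1, -1, 0⟩,
    ⟨0, 0, 1, -1, -1, 1⟩, ⟨0, 0, 1, -1, 0, -1⟩, ⟨0, 0, 1, -1, 0, 0⟩, ⟨0, 0, 1, -1, 0, 1⟩, ⟨0, 0, 1, -1, 0, 2⟩,
    ⟨0, 0, 1, -1, 1, 0⟩, ⟨0, 0, 1, -1, 1, 1⟩, ⟨0, 0, 1, 0, -1, 0⟩, ⟨0, 0, 1, 0, -1, 1⟩, ⟨0, 0, 1, 0, 0, -1⟩,
    ⟨0, 0, 1, 0, 0, 0⟩, ⟨0, 0, 1, 0, 0, 1⟩, ⟨0, 0, 1, 0, 0, 2⟩, ⟨0, 0, 1, 0, 1, -1⟩, ⟨0, 0, 1, 0, 1, 0⟩,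
    ⟨0, 0, 1, 0, 1, 1⟩, ⟨0, 1, 1, -1, 0, 0⟩, ⟨0, 1, 1, -1, 0, 1⟩, ⟨0, 1, 1, -1, 0, 2⟩, ⟨0, 1, 1, -1, 1, 0⟩,
    ⟨0, 1, 1, -1, 1, 1⟩, ⟨0, 1, 1, 0, 0, 1⟩, ⟨0, 1, 1, 0, 1, 0⟩, ⟨0, 1, 1, 0, 1, 1⟩, ⟨1, -2, 1, 0, -1, -1⟩,
    ⟨1, -2, 1, 0, -1, 0⟩, ⟨1, -1, 1, -1, -1, 0⟩, ⟨1, -1, 1, 0, -1, -1⟩, ⟨1, -1, 1, 0, -1, 0⟩, ⟨1, -1, 1, 0, -1, 1⟩,
    ⟨1, -1, 1, 0, 0, -1⟩, ⟨1, -1, 1, 0, 0, 0⟩, ⟨1, -1, 1, 0, 0, 1⟩, ⟨1, -1, 1, 1, -1, 0⟩, ⟨1, -1, 1, 1, 0, -1⟩,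
    ⟨1, -1, 1, 1, 0, 0⟩, ⟨1, 0, 1, -1, -1, 0⟩, ⟨1, 0, 1, -1, -1, 1⟩, ⟨1, 0, 1, -1, 0, 0⟩, ⟨1, 0, 1, -1, 0, 1⟩,
    ⟨1, 0, 1, 0, -1, 0⟩, ⟨1, 0, 1, 0, -1, 1⟩, ⟨1, 0, 1, 0, 0, -1⟩, ⟨1, 0, 1, 0, 0, 0⟩, ⟨1, 0, 1, 0, 0, 1⟩,
    ⟨1, 0, 1, 0, 1, 0⟩, ⟨1, 0, 1, 1, 0, 0⟩, ⟨1, 0, 1, 1, 0, 1⟩, ⟨1, 0, 1, 1, 1, 0⟩, ⟨1, 1, 1, 0, 0, 0⟩,
    ⟨1, 1, 1, 0, 0, 1⟩, ⟨1, 1, 1, 0, 1, 0⟩, ⟨1, 1, 1, 0, 1, 1⟩]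

/-- The possible rows with first coordinate one. -/
def rows1 : List Row :=
  [
    ⟨1, -2, 1, 0, -1, -1⟩, ⟨1, -2, 1, 0, -1, 0⟩, ⟨1, -1, 0, 0, -1, -1⟩, ⟨1, -1, 0, 0, -1, 0⟩, ⟨1, -1, 0, 0, 0, -1⟩,
    ⟨1, -1, 0, 0, 0, 0⟩, ⟨1, -1, 0, 1, -1, -1⟩, ⟨1, -1, 0, 1, -1, 0⟩, ⟨1, -1, 0, 1, 0, -1⟩, ⟨1, -1, 0, 1, 0, 0⟩,
    ⟨1, -1, 1, -1, -1, 0⟩, ⟨1, -1, 1, 0, -1, -1⟩, ⟨1, -1, 1, 0, -1, 0⟩, ⟨1, -1, 1, 0, -1, 1⟩, ⟨1, -1, 1, 0, 0, -1⟩,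
    ⟨1, -1, 1, 0, 0, 0⟩, ⟨1, -1, 1, 0, 0, 1⟩, ⟨1, -1, 1, 1, -1, 0⟩, ⟨1, -1, 1, 1, 0, -1⟩, ⟨1, -1, 1, 1, 0, 0⟩,
    ⟨1, 0, -1, 1, -1, -1⟩, ⟨1, 0, -1, 1, -1, 0⟩, ⟨1, 0, 0, 0, -1, -1⟩, ⟨1, 0, 0, 0, -1, 0⟩, ⟨1, 0, 0, 0, -1, 1⟩,
    ⟨1, 0, 0, 0, 0, -1⟩, ⟨1, 0, 0, 0, 0, 0⟩, ⟨1, 0, 0, 0, 0, 1⟩, ⟨1, 0, 0, 1, -1, -1⟩, ⟨1, 0, 0, 1, -1, 0⟩,
    ⟨1, 0, 0, 1, -1, 1⟩, ⟨1, 0, 0, 1, 0, -1⟩, ⟨1, 0, 0, 1, 0, 0⟩, ⟨1, 0, 0, 1, 0, 1⟩, ⟨1, 0, 0, 1, 1, -1⟩,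
    ⟨1, 0, 0, 1, 1, 0⟩, ⟨1, 0, 1, -1, -1, 0⟩, ⟨1, 0, 1, -1, -1, 1⟩, ⟨1, 0, 1, -1, 0, 0⟩, ⟨1, 0, 1, -1, 0, 1⟩,
    ⟨1, 0, 1, 0, -1, 0⟩, ⟨1, 0, 1, 0, -1, 1⟩, ⟨1, 0, 1, 0, 0, -1⟩, ⟨1, 0, 1, 0, 0, 0⟩, ⟨1, 0, 1, 0, 0, 1⟩,
    ⟨1, 0, 1, 0, 1, 0⟩, ⟨1, 0, 1, 1, 0, 0⟩, ⟨1, 0, 1, 1, 0, 1⟩, ⟨1, 0, 1, 1, 1, 0⟩, ⟨1, 1, -1, 1, -1, 0⟩,
    ⟨1, 1, -1, 1, 0, -1⟩, ⟨1, 1, -1, 1, 0, 0⟩, ⟨1, 1, 0, 0, -1, 0⟩, ⟨1, 1, 0, 0, -1, 1⟩, ⟨1, 1, 0, 0, 0, -1⟩,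
    ⟨1, 1, 0, 0, 0, 0⟩, ⟨1, 1, 0, 0, 0, 1⟩, ⟨1, 1, 0, 0, 1, 0⟩, ⟨1, 1, 0, 1, -1, 0⟩, ⟨1, 1, 0, 1, -1, 1⟩,
    ⟨1, 1, 0, 1, 0, -1⟩, ⟨1, 1, 0, 1, 0, 0⟩, ⟨1, 1, 0, 1, 0, 1⟩, ⟨1, 1, 0, 1, 1, 0⟩, ⟨1, 1, 1, 0, 0, 0⟩,
    ⟨1, 1, 1, 0, 0, 1⟩, ⟨1, 1, 1, 0, 1, 0⟩, ⟨1, 1, 1, 0, 1, 1⟩, ⟨1, 2, 0, 0, 0, 0⟩, ⟨1, 2, 0, 0, 0, 1⟩]

/-- The sum of the three oriented rows with nonzero third coordinate, the trivial one left out. -/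
def target4 : Row := sub (gmul ⟨0, 0, 1, 0, 0, 0⟩) triv

/-- Vectors testing the Gram inequality. -/
def tests : List Row :=
  [⟨-1, 2, 0, 3, -1, 2⟩, ⟨-2, 0, 0, 0, 1, 0⟩, ⟨0, -1, 0, 0, 0, 1⟩, ⟨-1, 0, 0, -1, -1, 0⟩,
   ⟨-4, 3, 0, 2, -2, -3⟩, ⟨-2, -1, 0, 2, 2, -1⟩, ⟨-3, 2, 0, 0, -3, -1⟩, ⟨-4, -2, 0, 4, 3, 2⟩,
   ⟨-2, 0, 0, 1, -1, -1⟩, ⟨-2, 1, 0, 0, -2, 1⟩, ⟨-2, 1, 0, 1, 1, 1⟩, ⟨0, -2, 0, -3, 1, 0⟩]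

/-- A row with odd second coordinate is repeated. -/
def paired (r s t : Row) : Bool := decide (r.cs % 2 = 0) || decide (r = s) || decide (r = t)

/-- The necessary conditions on three rows. -/
def admissible (r s t : Row) : Bool :=
  paired r s t && paired s r t && paired t r s &&
    tests.all fun x => decide (dot x triv ^ 2 + dot x r ^ 2 + dot x s ^ 2 + dot x t ^ 2 ≤ gram x x)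

/-- Candidate square root. -/
def root : ℕ → ℕ → ℕ → ℕ → ℕ
  | 0, _, lo, _ => lo
  | n + 1, x, lo, hi =>
      let m := (lo + hi) / 2
      if Nat.ble (m * m) x then root n x m hi else root n x lo m

/-- A test for not being a square. -/
def nonSquare (x : ℤ) : Bool :=
  decide (x < 0) ||
    (let r := root 120 x.toNat 0 (2 ^ 60)
     Nat.blt (r * r) x.toNat && Nat.blt x.toNat ((r + 1) * (r + 1)))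

/-- The discriminant of the equation for the two rows completing the first one of three with first
coordinate one, of signed degree `s` and row `r`. -/
def disc (g : ℕ) (r u v : Row) (s : ℤ) : ℤ :=
  let kn := 614400 * s - g * zeta r ^ 2
  let kd := g * s
  let be := kn * s + kd * (zeta v ^ 2 - zeta u ^ 2)
  be * be - 4 * kn * (-(kd * zeta u ^ 2 * s))

/-- No completion of the first coordinate. -/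
def noCompletion (g : ℕ) (r : Row) (s : ℤ) : Bool :=
  rows1.all fun u =>
    let v := sub (sub (gmul ⟨1, 0, 0, 0, 0, 0⟩) r) u
    decide (128 < dot v (dual v)) || nonSquare (disc g r u v s)

/-- The test at the leaves of the scan. -/
def finish (r₁ r₂ r₃ : Row) (pos : Bool) (g a b : ℕ) : Bool :=
  Nat.beq g 50232960 ||
    (let σ : ℤ := cond pos 1 (-1)
     match [(r₁, σ * a), (r₂, σ * b), (r₃, -σ * Scan.third pos a b)].filter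
        (fun p => decide (p.1.c1 ≠ 0)) with
     | [(r, d)] => noCompletion g (smul r.c1 r) (r.c1 * d)
     | _ => false)

/-- The residue used by the scan. -/
def res (pos : Bool) (r : Row) : ℕ := ((cond pos (cong r) (-cong r)) % 128).toNat

/-- The check of one ordered triple. -/
def checkTriple (p : Row × Row × Row) : Bool :=
  let za := (zeta p.1).natAbs * (zeta p.1).natAbs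
  let zb := (zeta p.2.1).natAbs * (zeta p.2.1).natAbs
  let zc := (zeta p.2.2).natAbs * (zeta p.2.2).natAbs
  Scan.scan (finish p.1 p.2.1 p.2.2 true) true za zb zc (res true p.1) (res true p.2.1) &&
    Scan.scan (finish p.1 p.2.1 p.2.2 false) false za zb zc (res false p.1) (res false p.2.1)

/-- The check of all triples starting with one of the given rows. -/
def checkFrom (l : List Row) : Bool :=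
  l.all fun r => rows4.all fun s =>
    let t := sub (sub target4 r) s
    decide (128 < dot t (dual t)) || !admissible r s t || checkTriple (r, s, t)

end Cfsg.Agent.Lib.J3Order.Data
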