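import Cfsg.Agent.Lib.J3Order.Data

/-!
# Groups of `J₃` type: the finite checks
-/

set_option autoImplicit false

namespace Cfsg.Agent.Lib.J3Order.Data

/-- Completeness of `rows4`. -/
def rows4Check : Bool :=
  tiny.all fun a => small.all fun b => small.all fun d => small.all fun e => small.all fun f =>
    decide (128 < dot (Row.mk a b 1 d e f) (dual (Row.mk a b 1 d e f))) ||
      rows4.contains (Row.mk a b 1 d e f)

/-- Completeness of `rows1`. -/
def rows1Check : Bool :=
  small.all fun b => small.all fun c => small.all fun d => small.all fun e => small.all fun f =>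
    decide (128 < dot (Row.mk 1 b c d e f) (dual (Row.mk 1 b c d e f))) ||
      rows1.contains (Row.mk 1 b c d e f)

theorem rows4Check_eq : rows4Check = true := by decide +kernel

theorem rows1Check_eq : rows1Check = true := by decide +kernel

theorem mem_rows4 {r : Row} (h1 : r.c1 ∈ tiny) (h2 : r.cs ∈ small) (h4 : r.c4 = 1) (h5 : r.c5 ∈ small)
    (h6 : r.c6 ∈ small) (h7 : r.c7 ∈ small) (hq : dot r (dual r) ≤ 128) : r ∈ rows4 := by
  obtain ⟨a, b, c, d, e, f⟩ := r
  subst h4
  have h := rows4Check_eq
  simp only [rows4Check, List.all_eq_true, Bool.or_eq_true, decide_eq_true_eq, List.contains_iff_mem] at h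
  exact (h a h1 b h2 d h5 e h6 f h7).resolve_left (not_lt.2 hq)

theorem mem_rows1 {r : Row} (h1 : r.c1 = 1) (h2 : r.cs ∈ small) (h4 : r.c4 ∈ small) (h5 : r.c5 ∈ small)
    (h6 : r.c6 ∈ small) (h7 : r.c7 ∈ small) (hq : dot r (dual r) ≤ 128) : r ∈ rows1 := by
  obtain ⟨a, b, c, d, e, f⟩ := r
  subst h1
  have h := rows1Check_eq
  simp only [rows1Check, List.all_eq_true, Bool.or_eq_true, decide_eq_true_eq, List.contains_iff_mem] at h
  exact (h b h2 c h4 d h5 e h6 f h7).resolve_left (not_lt.2 hq)

theorem checkFrom_part0 : checkFrom ((rows4.drop 0).take 9) = true := by decide +kernel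

theorem checkFrom_part1 : checkFrom ((rows4.drop 9).take 9) = true := by decide +kernel

theorem checkFrom_part2 : checkFrom ((rows4.drop 18).take 9) = true := by decide +kernel

theorem checkFrom_part3 : checkFrom ((rows4.drop 27).take 9) = true := by decide +kernel

theorem checkFrom_part4 : checkFrom ((rows4.drop 36).take 9) = true := by decide +kernel

theorem checkFrom_part5 : checkFrom ((rows4.drop 45).take 9) = true := by decide +kernel

theorem checkFrom_part6 : checkFrom ((rows4.drop 54).take 9) = true := by decide +kernel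

theorem checkFrom_part7 : checkFrom ((rows4.drop 63).take 9) = true := by decide +kernel

theorem checkFrom_part8 : checkFrom ((rows4.drop 72).take 9) = true := by decide +kernel

theorem checkFrom_part9 : checkFrom ((rows4.drop 81).take 9) = true := by decide +kernel

theorem checkFrom_rows4 : checkFrom rows4 = true := by
  have e : rows4 = (rows4.drop 0).take 9 ++ (rows4.drop 9).take 9 ++ (rows4.drop 18).take 9 ++ (rows4.drop 27).take 9 ++ (rows4.drop 36).take 9 ++ (rows4.drop 45).take 9 ++ (rows4.drop 54).take 9 ++ (rows4.drop 63).take 9 ++ (rows4.drop 72).take 9 ++ (rows4.drop 81).take 9 := by decide +kernel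
  rw [e]
  simp only [checkFrom, List.all_append, Bool.and_eq_true]
  exact ⟨⟨⟨⟨⟨⟨⟨⟨⟨checkFrom_part0, checkFrom_part1⟩, checkFrom_part2⟩, checkFrom_part3⟩, checkFrom_part4⟩, checkFrom_part5⟩, checkFrom_part6⟩, checkFrom_part7⟩, checkFrom_part8⟩, checkFrom_part9⟩

theorem checkTriple_of_mem {r s : Row} (hr : r ∈ rows4) (hs : s ∈ rows4)
    (hq : dot (sub (sub target4 r) s) (dual (sub (sub target4 r) s)) ≤ 128)
    (ha : admissible r s (sub (sub target4 r) s) = true) :
    checkTriple (r, s, sub (sub target4 r) s) = true := by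
  have h := checkFrom_rows4
  simp only [checkFrom, List.all_eq_true] at h
  have h' := h r hr s hs
  simp only [Bool.or_eq_true, decide_eq_true_eq, Bool.not_eq_true', ha] at h'
  rcases h' with (h' | h') | h'
  · exact absurd h' (not_lt.2 hq)
  · simp at h'
  · exact h'

end Cfsg.Agent.Lib.J3Order.Data
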