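import Cfsg.Agent.Lib.J3Order.Residues
import Cfsg.Agent.Lib.J1Order.Eigen

/-!
# Groups of `J₃` type: multiplicities on a cyclic group of order `57`
-/

set_option autoImplicit false

namespace Cfsg.Agent.Lib.J3Order.Fourier57

open Cfsg.Agent.Lib.J3Order.Residues

universe u

/-- The standard character. -/
noncomputable def psi : AddChar (ZMod 57) ℂ := ZMod.stdAddChar

/-- The residues of order divisible by `19`. -/
def S : Finset (ZMod 57) := Finset.univ.filter fun k => 3 * k ≠ 0

theorem S_card : S.card = 54 := by decide +kernel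

theorem compl_S : (Finset.univ.filter fun k : ZMod 57 => ¬ 3 * k ≠ 0) = {0, 19, 38} := by decide +kernel

theorem thirdly : ∀ (l l' : Fin 3) (r r' : Fin 19), 19 * idx l r = 19 * idx l' r' ↔ l = l' := by
  decide +kernel

theorem psi_ker {b : ZMod 57} (h : psi b = 1) : b = 0 :=
  ZMod.injective_stdAddChar (h.trans (AddChar.map_zero_eq_one psi).symm)

theorem sum_S (b : ZMod 57) : ∑ k ∈ S, psi (k * b) =
    (if b = 0 then 57 else 0) - (if 19 * b = 0 then 3 else 0) := by
  have hall : ∑ k, psi (k * b) = if b = 0 then 57 else 0 := by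
    have h := AddChar.sum_mulShift b (ZMod.isPrimitive_stdAddChar 57)
    split_ifs with hb
    · rw [psi, h, if_pos hb, ZMod.card]; norm_num
    · rw [psi, h, if_neg hb]; norm_num
  have hsplit := Finset.sum_filter_add_sum_filter_not Finset.univ (fun k : ZMod 57 => 3 * k ≠ 0)
    (fun k => psi (k * b))
  rw [hall, compl_S, Finset.sum_insert (by decide), Finset.sum_pair (by decide)] at hsplit
  have h2 : psi (38 * b) = psi (19 * b) ^ 2 := by
    rw [← AddChar.map_nsmul_eq_pow]; congr 1; rw [nsmul_eq_mul]; push_cast; ring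
  have h3 : psi (19 * b) ^ 3 = 1 := by
    rw [← AddChar.map_nsmul_eq_pow, nsmul_eq_mul, ← mul_assoc, show ((3 : ℕ) : ZMod 57) * 19 = 0 by decide,
      zero_mul, AddChar.map_zero_eq_one]
  rw [zero_mul, AddChar.map_zero_eq_one, h2] at hsplit
  have hsum : 1 + (psi (19 * b) + psi (19 * b) ^ 2) = if 19 * b = 0 then 3 else 0 := by
    split_ifs with hb
    · rw [hb, AddChar.map_zero_eq_one]; norm_num
    · have hne : psi (19 * b) - 1 ≠ 0 := fun e => hb (psi_ker (sub_eq_zero.1 e))
      refine (mul_left_inj' hne).1 ?_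
      linear_combination h3
  rw [hsum] at hsplit
  rw [S]
  linear_combination hsplit

theorem coeff_unique {c d : ZMod 57 → ℤ}
    (h : ∀ k, ∑ j, (c j : ℂ) * psi (j * k) = ∑ j, (d j : ℂ) * psi (j * k)) : c = d := by
  funext i
  have key : ∀ f : ZMod 57 → ℤ,
      ∑ k, psi (-(i * k)) * ∑ j, (f j : ℂ) * psi (j * k) = (f i : ℂ) * 57 := by
    intro f
    simp only [Finset.mul_sum]
    rw [Finset.sum_comm]
    have e : ∀ j, ∑ k, psi (-(i * k)) * ((f j : ℂ) * psi (j * k)) =
        if j = i then (f j : ℂ) * 57 else 0 := by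
      intro j
      have h' := AddChar.sum_mulShift (j - i) (ZMod.isPrimitive_stdAddChar 57)
      have e1 : ∀ k, psi (-(i * k)) * ((f j : ℂ) * psi (j * k)) = (f j : ℂ) * psi (k * (j - i)) := fun k => by
        rw [mul_left_comm, ← AddChar.map_add_eq_mul, show -(i * k) + j * k = k * (j - i) by ring]
      rw [Finset.sum_congr rfl fun k _ => e1 k, ← Finset.mul_sum, psi, h']
      by_cases hji : j = i
      · rw [if_pos (sub_eq_zero.2 hji), if_pos hji, ZMod.card]; norm_num
      · rw [if_neg (fun e' => hji (sub_eq_zero.1 e')), if_neg hji]; simp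
    rw [Finset.sum_congr rfl fun j _ => e j, Finset.sum_ite_eq']
    simp
  have h2 := key c
  simp only [h] at h2
  rw [key d] at h2
  exact_mod_cast (mul_right_cancel₀ (by norm_num : (57 : ℂ) ≠ 0) h2).symm

theorem reindex (m : ZMod 57 → ℤ) {w v : ZMod 57} (hwv : w * v = 1) (k : ZMod 57) :
    ∑ j, (m j : ℂ) * psi (j * (w * k)) = ∑ j, (m (v * j) : ℂ) * psi (j * k) := by
  refine Fintype.sum_equiv ⟨fun j => w * j, fun j => v * j,
    fun j => by show v * (w * j) = j; rw [← mul_assoc, mul_comm v, hwv, one_mul],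
    fun j => by simp only [← mul_assoc, hwv, one_mul]⟩ _ _ fun j => ?_
  show _ = (m (v * (w * j)) : ℂ) * psi (w * j * k)
  rw [← mul_assoc v, mul_comm v, hwv, one_mul, show j * (w * k) = w * j * k by ring]

/-- The six differences of a residue modulo three. -/
def diff (m : ZMod 57 → ℤ) (l : Fin 3) (i : Fin 6) : ℤ := m (idx l (pw i)) - m (idx l 0)

/-- The form of a multiplicity function. -/
def phi (m : ZMod 57 → ℤ) : ℤ :=
  form (diff m 0) + form (diff m 1) + form (diff m 2)

theorem phi_nonneg (m : ZMod 57 → ℤ) : 0 ≤ phi m :=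
  add_nonneg (add_nonneg (form_ge _ 0).2 (form_ge _ 0).2) (form_ge _ 0).2

theorem sum_idx {M : Type*} [AddCommMonoid M] (f : ZMod 57 → M) :
    ∑ j, f j = ∑ l : Fin 3, ∑ r : Fin 19, f (idx l r) := by
  rw [← Fintype.sum_prod_type']
  exact (idx_bij.sum_comp f).symm

theorem line {m : ZMod 57 → ℤ} (hm : ∀ j, m (49 * j) = m j) (l : Fin 3) :
    57 * ∑ r : Fin 19, m (idx l r) ^ 2 - 3 * (∑ r : Fin 19, m (idx l r)) ^ 2 = 9 * form (diff m l) ∧
      ∑ r : Fin 19, m (idx l r) = 19 * m (idx l 0) + 3 * (diff m l 0 + diff m l 1 + diff m l 2 +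
        diff m l 3 + diff m l 4 + diff m l 5) := by
  obtain ⟨a1, a2, b1, b2, c1, c2, d1, d2, e1, e2, f1, f2⟩ := idx_orbits l
  have A1 : m (idx l 11) = m (idx l 1) := by rw [← a1, hm]
  have A2 : m (idx l 7) = m (idx l 1) := by rw [← a2, hm, A1]
  have B1 : m (idx l 3) = m (idx l 2) := by rw [← b1, hm]
  have B2 : m (idx l 14) = m (idx l 2) := by rw [← b2, hm, B1]
  have C1 : m (idx l 6) = m (idx l 4) := by rw [← c1, hm]
  have C2 : m (idx l 9) = m (idx l 4) := by rw [← c2, hm, C1]
  have D1 : m (idx l 12) = m (idx l 8) := by rw [← d1, hm]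
  have D2 : m (idx l 18) = m (idx l 8) := by rw [← d2, hm, D1]
  have E1 : m (idx l 5) = m (idx l 16) := by rw [← e1, hm]
  have E2 : m (idx l 17) = m (idx l 16) := by rw [← e2, hm, E1]
  have F1 : m (idx l 10) = m (idx l 13) := by rw [← f1, hm]
  have F2 : m (idx l 15) = m (idx l 13) := by rw [← f2, hm, F1]
  rw [Fin.sum_univ_eq_sum_range (fun r => m (idx l r)) 19,
    Fin.sum_univ_eq_sum_range (fun r => m (idx l r) ^ 2) 19]
  simp only [Finset.sum_range_succ, Finset.sum_range_zero, zero_add, A1, A2, B1, B2, C1, C2, D1, D2,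
    E1, E2, F1, F2, form, diff, pw, Matrix.cons_val]
  constructor <;> ring

theorem square_sum {m : ZMod 57 → ℤ} (hm : ∀ j, m (49 * j) = m j) :
    ∑ k ∈ S, (∑ i, (m i : ℂ) * psi (i * k)) * (∑ j, (m j : ℂ) * psi (j * -k)) = ((9 * phi m : ℤ) : ℂ) := by
  have e1 : ∑ k ∈ S, (∑ i, (m i : ℂ) * psi (i * k)) * (∑ j, (m j : ℂ) * psi (j * -k)) =
      ∑ i, ∑ j, ((m i * m j *
        ((if i = j then 57 else 0) - (if 19 * i = 19 * j then 3 else 0)) : ℤ) : ℂ) := by
    simp only [Finset.sum_mul_sum]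
    rw [Finset.sum_comm]
    refine Finset.sum_congr rfl fun i _ => ?_
    rw [Finset.sum_comm]
    refine Finset.sum_congr rfl fun j _ => ?_
    have : ∀ k, (m i : ℂ) * psi (i * k) * ((m j : ℂ) * psi (j * -k)) =
        (m i : ℂ) * m j * psi (k * (i - j)) := fun k => by
      rw [mul_mul_mul_comm, ← AddChar.map_add_eq_mul, show i * k + j * -k = k * (i - j) by ring]
    rw [Finset.sum_congr rfl fun k _ => this k, ← Finset.mul_sum, sum_S]
    simp only [sub_eq_zero, mul_sub]
    push_cast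
    split_ifs <;> simp
  rw [e1]
  simp only [← Int.cast_sum]
  congr 1
  have hin : ∀ l (r : Fin 19), ∑ j, m (idx l r) * m j *
      ((if idx l r = j then (57 : ℤ) else 0) - (if 19 * idx l r = 19 * j then 3 else 0)) =
        57 * m (idx l r) ^ 2 - 3 * m (idx l r) * ∑ r' : Fin 19, m (idx l r') := by
    intro l r
    simp only [mul_sub, Finset.sum_sub_distrib, mul_ite, mul_zero, Finset.sum_ite_eq,
      Finset.mem_univ, if_true]
    rw [sum_idx]
    simp only [thirdly, ← Finset.sum_ite_irrel, Finset.sum_ite_eq, Finset.mem_univ, if_true]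
    rw [Finset.sum_eq_single l (fun l' _ hl => by simp [hl.symm]) (fun h => absurd (Finset.mem_univ l) h)]
    simp only [if_true, Finset.mul_sum]
    rw [show (57 : ℤ) * m (idx l r) ^ 2 = m (idx l r) * m (idx l r) * 57 by ring]
    exact congrArg _ (Finset.sum_congr rfl fun r' _ => by ring)
  rw [sum_idx]
  simp only [hin, Finset.sum_sub_distrib, ← Finset.mul_sum, ← Finset.sum_mul, phi, Fin.sum_univ_three]
  have h0 := (line hm 0).1; have h1 := (line hm 1).1; have h2 := (line hm 2).1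
  linarith

theorem total {m : ZMod 57 → ℤ} (hm : ∀ j, m (49 * j) = m j) :
    ∃ B : ℤ, ∑ j, m j = 19 * B + 3 * ∑ l, ∑ i, diff m l i := by
  refine ⟨m (idx 0 0) + m (idx 1 0) + m (idx 2 0), ?_⟩
  rw [sum_idx]
  simp only [(line hm _).2, Fin.sum_univ_three, Fin.sum_univ_six]
  ring

theorem constant {m : ZMod 57 → ℤ} (hm : ∀ j, m (49 * j) = m j) (hc : ∀ l i, diff m l i = diff m l 0)
    (w : Fin 6) (x : ZMod 57) : m (mu w * x) = m x := by
  have hrep : ∀ l k, m (idx l (pw k)) = m (idx l (pw 0)) := fun l k => by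
    have := hc l k
    simpa [diff] using this
  have h49 : ∀ y, m (49 * (49 * y)) = m y := fun y => by rw [hm, hm]
  have hstep : ∀ l k, m (mu w * idx l (pw k)) = m (idx l (pw k)) := by
    intro l k
    obtain ⟨k', e | e | e⟩ := mu_step w l k <;> rw [e, hrep l k]
    · exact hrep l k'
    · rw [hm]; exact hrep l k'
    · rw [h49]; exact hrep l k'
  obtain ⟨⟨l, r⟩, rfl⟩ := idx_bij.surjective x
  rcases idx_split l r with hr | ⟨k, e | e | e⟩ <;> show m (mu w * idx l r) = m (idx l r)
  · subst hr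
    exact congrArg m (mu_idx w l)
  · rw [e]; exact hstep l k
  · rw [e, mul_left_comm, hm, hm]; exact hstep l k
  · rw [e, mul_left_comm, mul_left_comm (mu w) 49, h49, h49]; exact hstep l k

theorem separates {m : ZMod 57 → ℤ} (hm : ∀ j, m (49 * j) = m j) {l : Fin 3} {k : Fin 6}
    (hk : diff m l k ≠ 0) (hk' : ∀ i, i ≠ k → diff m l i = 0) {i i' : Fin 6}
    (h : ∀ x, m (nu i * x) = m (nu i' * x)) : i = i' := by
  have h1 := h (mu i * idx l (pw k))
  rw [← mul_assoc, mul_comm (nu i), mu_nu, one_mul] at h1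
  obtain ⟨j, t, ht, hj⟩ := nu_lands l k i i'
  have hmt : ∀ y, m (t * y) = m y := by
    simp only [List.mem_cons, List.not_mem_nil, or_false] at ht
    intro y
    rcases ht with rfl | rfl | rfl
    · rw [one_mul]
    · exact hm y
    · rw [show (7 : ZMod 57) = 49 * 49 by decide, mul_assoc, hm, hm]
  rw [hj, hmt] at h1
  have hjk : j = k := by
    by_contra hne
    exact hk (by rw [← hk' j hne, diff, diff, h1])
  subst hjk
  exact nu_separates l j i i' t ht hj

variable {G : Type u} [Group G]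

theorem exists_mult (χ : Cfsg.IrrCharacter G) {g : G} (hg : g ^ 57 = 1) :
    ∃ m : ZMod 57 → ℤ, ∀ k : ZMod 57, (χ : G → ℂ) (g ^ k.val) = ∑ j, (m j : ℂ) * psi (j * k) := by
  classical
  obtain ⟨ι, _, z, hz, hv⟩ := J1Order.Eigen.exists_powers χ g (by norm_num) hg
  have hroot : ∀ i, ∃ j : ZMod 57, psi j = z i := fun i => by
    obtain ⟨n, -, hn⟩ := (Complex.isPrimitiveRoot_exp 57 (by norm_num)).eq_pow_of_pow_eq_one (hz i)
    refine ⟨((n : ℤ) : ZMod 57), ?_⟩
    rw [psi, ZMod.stdAddChar_coe, ← hn, ← Complex.exp_nat_mul]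
    push_cast
    ring_nf
  choose f hf using hroot
  refine ⟨fun j => ((Finset.univ.filter fun i => f i = j).card : ℤ), fun k => ?_⟩
  rw [hv, ← Finset.sum_fiberwise Finset.univ f]
  refine Finset.sum_congr rfl fun j _ => ?_
  rw [Int.cast_natCast, ← nsmul_eq_mul, ← Finset.sum_const]
  refine Finset.sum_congr rfl fun i hi => ?_
  rw [← hf i, (Finset.mem_filter.1 hi).2, ← AddChar.map_nsmul_eq_pow, nsmul_eq_mul,
    ZMod.natCast_zmod_val, mul_comm]

end Cfsg.Agent.Lib.J3Order.Fourier57
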