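import Cfsg.Agent.Lib.J3Order.TableData
import Cfsg.Agent.Lib.Involutions.Basic

/-!
# Groups of `J₃` type: fusion of the elements of the centraliser
-/

set_option autoImplicit false
set_option linter.style.haveILetI false

namespace Cfsg.Agent.Lib.J3Order.Local

open Cfsg.Agent.Lib.CosetEnum
open Cfsg.Agent.Lib.HJUniq (wd sc Chart evC)
open Cfsg.Agent.Lib.J3Order.Table

variable {G : Type*} [Group G] {z a t q : G}

/-- A chart of the centraliser of an involution, all involutions being conjugate. -/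
structure Ctx (z a t q : G) : Prop extends Chart z a t q where
  ord : orderOf z = 2
  hone : ∀ x y : G, orderOf x = 2 → orderOf y = 2 → IsConj x y

/-- The element of a position. -/
noncomputable def el (a t q : G) (i : ℕ) : G := HJUniq.E a t q i

theorem scan_append (K : ℕ) (T : PTree) : ∀ (l l' : List ℕ) (i : ℕ),
    scan K T (l ++ l') i = scan K T l' (scan K T l i)
  | [], _, _ => rfl
  | g :: l, l', i => by
    show force (get32 T (Nat.add (Nat.mul i K) g)) (scan K T (l ++ l')) =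
      scan K T l' (force (get32 T (Nat.add (Nat.mul i K) g)) (scan K T l))
    rw [force_eq, force_eq, scan_append]

namespace Ctx

theorem el_mem (h : Ctx z a t q) {i : ℕ} (hi : i < 1920) :
    el a t q i ∈ Subgroup.centralizer ({z} : Set G) :=
  h.toChart.mem (HJUniq.small_wd hi)

theorem commute (h : Ctx z a t q) {i : ℕ} (hi : i < 1920) : Commute (el a t q i) z :=
  Subgroup.mem_centralizer_singleton_iff.1 (h.el_mem hi)

theorem el_inj (h : Ctx z a t q) {i j : ℕ} (hi : i < 1920) (hj : j < 1920)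
    (e : el a t q i = el a t q j) : i = j := by
  have := (h.toChart.iff (HJUniq.small_wd hi) (HJUniq.small_wd hj)).1 e
  rwa [HJUniq.sc_wd hi, HJUniq.sc_wd hj] at this

theorem surj (h : Ctx z a t q) {c : G} (hc : Commute c z) : ∃ i < 1920, c = el a t q i :=
  h.toChart.surj (Subgroup.mem_centralizer_singleton_iff.2 hc)

theorem el_mul (h : Ctx z a t q) {i j : ℕ} (hi : i < 1920) (hj : j < 1920) :
    mulI i j < 1920 ∧ el a t q i * el a t q j = el a t q (mulI i j) := by
  obtain ⟨k, hk, e⟩ := h.surj ((h.commute hi).mul_left (h.commute hj))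
  have e' : evC a t q (wd i ++ wd j) = evC a t q (wd k) := (HJUniq.ev_append _ _ _).trans e
  have hs : HJUniq.small (wd i ++ wd j) = true := by
    rw [HJUniq.small, List.all_append]
    exact Bool.and_eq_true_iff.2 ⟨HJUniq.small_wd hi, HJUniq.small_wd hj⟩
  have h1 := (h.toChart.iff hs (HJUniq.small_wd hk)).1 e'
  have h2 : mulI i j = k := by
    rw [← HJUniq.sc_wd hk, ← h1, sc, scan_append]
    exact congrArg _ (HJUniq.sc_wd hi).symm
  exact ⟨h2 ▸ hk, h2 ▸ e⟩

theorem el_zero (_h : Ctx z a t q) : el a t q 0 = 1 := rfl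

theorem el_z (h : Ctx z a t q) : el a t q zI = z := by
  have e : evC a t q (HJUniq.qw 0 ++ HJUniq.qw 1 ++ (HJUniq.qw 0 ++ HJUniq.qw 1)) = HJUniq.E a t q zI :=
    h.toChart.eq_E (by decide +kernel)
  refine e.symm.trans ?_
  show HJUniq.ev _ _ = z
  rw [HJUniq.ev_append, HJUniq.ev_append, HJUniq.ev_qw, HJUniq.ev_qw]
  exact h.toRels.anti 0 1 (by omega) (by omega) (by omega)

theorem el_eq_one (h : Ctx z a t q) {i : ℕ} (hi : i < 1920) : el a t q i = 1 ↔ i = 0 :=
  ⟨fun e => h.el_inj hi (by omega) (e.trans h.el_zero.symm), fun e => by rw [e, h.el_zero]⟩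

theorem el_sq (h : Ctx z a t q) {i : ℕ} (hi : i < 1920) :
    sqI i < 1920 ∧ el a t q (sqI i) = el a t q i ^ 2 :=
  ⟨(h.el_mul hi hi).1, by rw [pow_two]; exact (h.el_mul hi hi).2.symm⟩

theorem el_cube (h : Ctx z a t q) {i : ℕ} (hi : i < 1920) :
    cubeI i < 1920 ∧ el a t q (cubeI i) = el a t q i ^ 3 := by
  obtain ⟨h1, e1⟩ := h.el_mul hi hi
  refine ⟨(h.el_mul h1 hi).1, ?_⟩
  rw [pow_succ, pow_two, e1]
  exact (h.el_mul h1 hi).2.symm

theorem el_four (h : Ctx z a t q) {i : ℕ} (hi : i < 1920) :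
    sqI (sqI i) < 1920 ∧ el a t q (sqI (sqI i)) = el a t q i ^ 4 :=
  ⟨(h.el_sq (h.el_sq hi).1).1, by rw [(h.el_sq (h.el_sq hi).1).2, (h.el_sq hi).2, ← pow_mul]⟩

theorem el_six (h : Ctx z a t q) {i : ℕ} (hi : i < 1920) :
    sqI (cubeI i) < 1920 ∧ el a t q (sqI (cubeI i)) = el a t q i ^ 6 :=
  ⟨(h.el_sq (h.el_cube hi).1).1, by rw [(h.el_sq (h.el_cube hi).1).2, (h.el_cube hi).2, ← pow_mul]⟩

theorem conjB_sound (h : Ctx z a t q) {w i r : ℕ} (hi : i < 1920) (hr : r < 1920)
    (e : conjB w i r = true) : IsConj (el a t q i) (el a t q r) := by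
  simp only [conjB, Bool.and_eq_true, Nat.blt_eq] at e
  obtain ⟨hw, e⟩ := e
  refine isConj_iff.2 ⟨el a t q w, ?_⟩
  rw [(h.el_mul hw hi).2, Nat.eq_of_beq_eq_true e, ← (h.el_mul hr hw).2, mul_inv_cancel_right]

theorem rep_lt : ∀ k, rep k < 1920 := by
  intro k
  rcases Nat.lt_or_ge k 11 with hk | hk
  · interval_cases k <;> decide
  · show List.getD reps k 0 < 1920
    rw [List.getD_eq_default _ _ (show reps.length ≤ k from hk)]
    omega

/-- An involution is conjugate to `z`. -/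
theorem conj_invol (h : Ctx z a t q) {x : G} (h2 : x ^ 2 = 1) (h1 : x ≠ 1) : ∃ g : G, g * x * g⁻¹ = z :=
  isConj_iff.1 (h.hone x z (orderOf_eq_prime h2 h1) h.ord)

theorem kind_four (h : Ctx z a t q) {x : G} (h2 : x ^ 2 = 1) (h1 : x ≠ 1) :
    IsConj x (el a t q (rep 4)) := by
  show IsConj x (el a t q zI)
  rw [h.el_z]
  exact h.hone x z (orderOf_eq_prime h2 h1) h.ord

theorem root_conj (h : Ctx z a t q) {k : ℕ} {l : List (ℕ × ℕ)} (hl : checkRoots k l = true)
    {x : G} {m : ℕ} (h2 : (x ^ m) ^ 2 = 1) (h1 : x ^ m ≠ 1)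
    (htest : ∀ i, i < 1920 → el a t q i ^ m = z → ∀ g : G, el a t q i = g * x * g⁻¹ → rootTest k i = true) :
    IsConj x (el a t q (rep k)) := by
  obtain ⟨g, hg⟩ := h.conj_invol h2 h1
  have hp : (g * x * g⁻¹) ^ m = z := by rw [conj_pow, hg]
  obtain ⟨i, hi, e⟩ := h.surj (c := g * x * g⁻¹) (hp ▸ (Commute.refl (g * x * g⁻¹)).pow_right m)
  have ht := htest i hi (e ▸ hp) g e.symm
  have hc := allBelow_iff.1 hl i hi
  simp only [ht, Bool.not_true, Bool.false_or, List.any_eq_true, Bool.and_eq_true] at hc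
  obtain ⟨p, -, hp1, hp2⟩ := hc
  exact (isConj_iff.2 ⟨g, e⟩).trans (h.conjB_sound hi (rep_lt k) hp2)

theorem kind_five (h : Ctx z a t q) {x : G} (h4 : x ^ 4 = 1) (h2 : x ^ 2 ≠ 1) :
    IsConj x (el a t q (rep 5)) :=
  h.root_conj roots5_check (m := 2) (by rw [← pow_mul]; exact h4) h2 fun i hi e _ _ => by
    show Nat.beq (sqI i) zI = true
    rw [h.el_inj (h.el_sq hi).1 (by decide) ((h.el_sq hi).2.trans (e.trans h.el_z.symm))]
    rfl

theorem kind_six (h : Ctx z a t q) {x : G} (h6 : x ^ 6 = 1) (h3 : x ^ 3 ≠ 1) (h2 : x ^ 2 ≠ 1) :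
    IsConj x (el a t q (rep 6)) :=
  h.root_conj roots6_check (m := 3) (by rw [← pow_mul]; exact h6) h3 fun i hi e g hg => by
    show (Nat.beq (cubeI i) zI && !(Nat.beq (sqI i) 0)) = true
    rw [h.el_inj (h.el_cube hi).1 (by decide) ((h.el_cube hi).2.trans (e.trans h.el_z.symm))]
    simp only [Bool.and_eq_true, Bool.not_eq_true']
    refine ⟨rfl, Bool.eq_false_iff.2 fun e' => h2 ?_⟩
    have e2 : el a t q i ^ 2 = 1 := by rw [← (h.el_sq hi).2, Nat.eq_of_beq_eq_true e', h.el_zero]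
    rwa [hg, conj_pow, conj_eq_one_iff] at e2

theorem kind_seven (h : Ctx z a t q) {x : G} (h12 : x ^ 12 = 1) (h6 : x ^ 6 ≠ 1) (h4 : x ^ 4 ≠ 1) :
    IsConj x (el a t q (rep 7)) :=
  h.root_conj roots7_check (m := 6) (by rw [← pow_mul]; exact h12) h6 fun i hi e g hg => by
    show (Nat.beq (sqI (cubeI i)) zI && !(Nat.beq (sqI (sqI i)) 0)) = true
    rw [h.el_inj (h.el_six hi).1 (by decide) ((h.el_six hi).2.trans (e.trans h.el_z.symm))]
    simp only [Bool.and_eq_true, Bool.not_eq_true']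
    refine ⟨rfl, Bool.eq_false_iff.2 fun e' => h4 ?_⟩
    have e2 : el a t q i ^ 4 = 1 := by rw [← (h.el_four hi).2, Nat.eq_of_beq_eq_true e', h.el_zero]
    rwa [hg, conj_pow, conj_eq_one_iff] at e2

theorem kind_eight (h : Ctx z a t q) {x : G} (h8 : x ^ 8 = 1) (h4 : x ^ 4 ≠ 1) :
    IsConj x (el a t q (rep 8)) :=
  h.root_conj roots8_check (m := 4) (by rw [← pow_mul]; exact h8) h4 fun i hi e _ _ => by
    show Nat.beq (sqI (sqI i)) zI = true
    rw [h.el_inj (h.el_four hi).1 (by decide) ((h.el_four hi).2.trans (e.trans h.el_z.symm))]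
    rfl

/-- The kind of a position names its class. -/
theorem kind_sound (h : Ctx z a t q) {i k w : ℕ} (hi : i < 1920) (hk : kindOK i k w = true) :
    IsConj (el a t q i) (el a t q (rep k)) := by
  have hne : ∀ j, j < 1920 → (!(Nat.beq j 0)) = true → el a t q j ≠ 1 := fun j hj e e' => by
    rw [(h.el_eq_one hj).1 e'] at e; simp at e
  have heq : ∀ j, Nat.beq j 0 = true → el a t q j = 1 := fun j e => by
    rw [Nat.eq_of_beq_eq_true e, h.el_zero]
  unfold kindOK at hk
  split at hk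
  · rw [Nat.eq_of_beq_eq_true hk]; exact IsConj.refl _
  · simp only [Bool.and_eq_true] at hk
    exact h.kind_four ((h.el_sq hi).2.symm.trans (heq _ hk.2)) (hne i hi hk.1)
  · simp only [Bool.and_eq_true] at hk
    exact h.kind_five ((h.el_four hi).2.symm.trans (heq _ hk.2))
      ((h.el_sq hi).2 ▸ hne _ (h.el_sq hi).1 hk.1)
  · simp only [Bool.and_eq_true] at hk
    exact h.kind_six ((h.el_six hi).2.symm.trans (heq _ hk.2))
      ((h.el_cube hi).2 ▸ hne _ (h.el_cube hi).1 hk.1.2) ((h.el_sq hi).2 ▸ hne _ (h.el_sq hi).1 hk.1.1)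
  · simp only [Bool.and_eq_true] at hk
    refine h.kind_seven ?_ ((h.el_six hi).2 ▸ hne _ (h.el_six hi).1 hk.1.2)
      ((h.el_four hi).2 ▸ hne _ (h.el_four hi).1 hk.1.1)
    have := heq _ hk.2
    rwa [(h.el_four (h.el_cube hi).1).2, (h.el_cube hi).2, ← pow_mul] at this
  · simp only [Bool.and_eq_true] at hk
    refine h.kind_eight ?_ ((h.el_four hi).2 ▸ hne _ (h.el_four hi).1 hk.1)
    have := heq _ hk.2
    rwa [(h.el_sq (h.el_four hi).1).2, (h.el_four hi).2, ← pow_mul] at this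
  · simp only [Bool.and_eq_true] at hk
    exact h.conjB_sound hi (rep_lt k) hk.2

theorem genB_sound (h : Ctx z a t q) {α β : ℕ} (hα : α < 1920) (hβ : β < 1920) (H : Subgroup G)
    (ha : el a t q α ∈ H) (hb : el a t q β ∈ H) :
    ∀ (seen : List ℕ) (l : List Ent), (∀ i ∈ seen, i < 1920 ∧ el a t q i ∈ H) →
      (∀ e ∈ l, e.1 < 1920) → genB α β seen l = true → ∀ e ∈ l, el a t q e.1 ∈ H
  | _, [], _, _, _, _, he => absurd he (List.not_mem_nil)
  | seen, e :: l, hseen, hlt, hg, x, hx => by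
    simp only [genB, Bool.and_eq_true, Bool.or_eq_true] at hg
    have h1 : el a t q e.1 ∈ H := by
      rcases hg.1 with e0 | ⟨hm, he⟩
      · rw [Nat.eq_of_beq_eq_true e0, h.el_zero]; exact one_mem H
      · obtain ⟨hp, hpH⟩ := hseen _ (memB_iff.1 hm)
        rw [Nat.eq_of_beq_eq_true he]
        cases Nat.beq e.2.2.2.2 0
        · exact (h.el_mul hp hβ).2 ▸ mul_mem hpH hb
        · exact (h.el_mul hp hα).2 ▸ mul_mem hpH ha
    rcases List.mem_cons.1 hx with rfl | hx
    · exact h1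
    · exact genB_sound h hα hβ H ha hb (e.1 :: seen) l (fun i hi => by
        rcases List.mem_cons.1 hi with rfl | hi
        exacts [⟨hlt e (List.mem_cons_self ..), h1⟩, hseen i hi])
        (fun e' he' => hlt e' (List.mem_cons_of_mem _ he')) hg.2 x hx

theorem exists_subgroup [Finite G] (h : Ctx z a t q) {α β : ℕ} {l : List Ent}
    (hl : checkSub α β l = true) :
    ∃ H : Subgroup G, Nat.card H = l.length ∧ ∀ [Fintype H] (f : G → ℂ),
      (∀ x y : G, IsConj x y → f x = f y) →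
        ∑ x : H, f x = (l.map fun e => f (el a t q (rep e.2.1))).sum := by
  classical
  simp only [checkSub, Bool.and_eq_true, Nat.blt_eq, List.all_eq_true] at hl
  obtain ⟨⟨⟨⟨⟨hα, hβ⟩, h0⟩, hnd⟩, hgen⟩, hall⟩ := hl
  set H := Subgroup.closure ({el a t q α, el a t q β} : Set G) with hH
  have hαH : el a t q α ∈ H := Subgroup.subset_closure (Or.inl rfl)
  have hβH : el a t q β ∈ H := Subgroup.subset_closure (Or.inr rfl)
  have hmem : ∀ e ∈ l, el a t q e.1 ∈ H := h.genB_sound hα hβ H hαH hβH [] l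
    (fun i hi => absurd hi (List.not_mem_nil)) (fun e he => (hall e he).1.1.1.1) hgen
  have hcl : ∀ x ∈ H, ∃ e ∈ l, x = el a t q e.1 := by
    intro x hx
    have hx' : x ∈ Submonoid.closure ({el a t q α, el a t q β} : Set G) := by
      rw [← Subgroup.closure_toSubmonoid_of_finite]; exact hx
    clear hx
    induction hx' using Submonoid.closure_induction_right with
    | one =>
      obtain ⟨e, he, e0⟩ := List.mem_map.1 (memB_iff.1 h0)
      exact ⟨e, he, by rw [e0, h.el_zero]⟩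
    | mul_right x hx y hy ih =>
      obtain ⟨e, he, rfl⟩ := ih
      obtain ⟨⟨⟨⟨hlt, -⟩, -⟩, hma⟩, hmb⟩ := hall e he
      rcases hy with rfl | rfl
      · obtain ⟨e', he', ee⟩ := List.mem_map.1 (memB_iff.1 hma)
        exact ⟨e', he', by rw [ee, (h.el_mul hlt hα).2]⟩
      · obtain ⟨e', he', ee⟩ := List.mem_map.1 (memB_iff.1 hmb)
        exact ⟨e', he', by rw [ee, (h.el_mul hlt hβ).2]⟩
  have hnd' := nodupB_sound hnd
  let F : Fin l.length → H := fun j => ⟨el a t q (l.get j).1, hmem _ (List.get_mem l j)⟩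
  have hF : Function.Bijective F := by
    constructor
    · intro i j e
      have e' := h.el_inj (hall _ (List.get_mem l i)).1.1.1.1 (hall _ (List.get_mem l j)).1.1.1.1
        (congrArg Subtype.val e)
      refine Fin.ext ((List.Nodup.getElem_inj_iff hnd' (hi := by simp) (hj := by simp)).1 ?_)
      simpa using e'
    · rintro ⟨x, hx⟩
      obtain ⟨e, he, rfl⟩ := hcl x hx
      obtain ⟨j, hj⟩ := List.get_of_mem he
      exact ⟨j, Subtype.ext (by simp only [F, hj])⟩
  refine ⟨H, by rw [← Nat.card_eq_of_bijective F hF, Nat.card_fin], ?_⟩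
  intro _ f hf
  rw [← hF.sum_comp (fun x : H => f x), ← List.sum_ofFn]
  have : (List.ofFn fun j : Fin l.length => f (el a t q (l.get j).1)) =
      l.map fun e => f (el a t q e.1) := List.ext_getElem (by simp) fun i h1 h2 => by simp
  show (List.ofFn fun j : Fin l.length => f (el a t q (l.get j).1)).sum = _
  rw [this]
  refine congrArg List.sum (List.map_congr_left fun e he => hf _ _ ?_)
  exact h.kind_sound (hall e he).1.1.1.1 (hall e he).1.1.1.2

theorem powB_sound (h : Ctx z a t q) {x : ℕ} (hx : x < 1920) :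
    ∀ (l : List (ℕ × ℕ × ℕ)) (cur : ℕ) (m : ℕ), cur < 1920 → el a t q cur = el a t q x ^ m →
      powB x cur l = true →
      el a t q x ^ (m + l.length) = 1 ∧ ∀ j (hj : j < l.length),
        IsConj (el a t q x ^ (m + j)) (el a t q (rep (l[j]).2.1))
  | [], cur, m, _, e, hp => by
    refine ⟨?_, fun j hj => absurd hj (by simp)⟩
    rw [List.length_nil, add_zero, ← e, Nat.eq_of_beq_eq_true hp, h.el_zero]
  | e :: l, cur, m, hcur, he, hp => by
    simp only [powB, Bool.and_eq_true, Nat.blt_eq] at hp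
    obtain ⟨⟨⟨h1, h2⟩, h3⟩, h4⟩ := hp
    have e1 := Nat.eq_of_beq_eq_true h1
    obtain ⟨ih1, ih2⟩ := powB_sound h hx l (mulI e.1 x) (m + 1) (h.el_mul h2 hx).1
      (by rw [← (h.el_mul h2 hx).2, e1, he, pow_succ]) h4
    refine ⟨by rw [List.length_cons, show m + (l.length + 1) = m + 1 + l.length by omega]; exact ih1,
      fun j hj => ?_⟩
    rcases j with _ | j
    · rw [add_zero, ← he, ← e1]
      exact h.kind_sound h2 h3
    · rw [show m + (j + 1) = m + 1 + j by omega]
      exact ih2 j (by simpa using hj)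

theorem pow_sound (h : Ctx z a t q) {x : ℕ} {l : List (ℕ × ℕ × ℕ)} (hl : checkPow x l = true) :
    x < 1920 ∧ el a t q x ^ l.length = 1 ∧
      ∀ j (hj : j < l.length), IsConj (el a t q x ^ j) (el a t q (rep (l[j]).2.1)) := by
  simp only [checkPow, Bool.and_eq_true, Nat.blt_eq] at hl
  obtain ⟨h1, h2⟩ := h.powB_sound hl.1 l 0 0 (by omega) (by rw [h.el_zero, pow_zero]) hl.2
  exact ⟨hl.1, by simpa using h1, fun j hj => by simpa using h2 j hj⟩

theorem count_card (h : Ctx z a t q) {P : G → Prop} {p : ℕ → Bool}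
    (hC : ∀ c, P c → Commute c z) (hiff : ∀ i < 1920, p i = true ↔ P (el a t q i)) :
    Nat.card {c : G // P c} = countBelow 1920 p := by
  classical
  rw [countBelow_eq, ← Nat.card_eq_finsetCard]
  refine (Nat.card_eq_of_bijective
    (fun i : ((Finset.range 1920).filter fun i => p i = true) =>
      (⟨el a t q i.1, (hiff _ (Finset.mem_range.1 (Finset.mem_filter.1 i.2).1)).1
        (Finset.mem_filter.1 i.2).2⟩ : {c : G // P c})) ⟨fun i j e => Subtype.ext ?_, fun c => ?_⟩).symm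
  · exact h.el_inj (Finset.mem_range.1 (Finset.mem_filter.1 i.2).1)
      (Finset.mem_range.1 (Finset.mem_filter.1 j.2).1) (congrArg Subtype.val e)
  · obtain ⟨i, hi, e⟩ := h.surj (hC _ c.2)
    exact ⟨⟨i, Finset.mem_filter.2 ⟨Finset.mem_range.2 hi, (hiff i hi).2 (e ▸ c.2)⟩⟩, Subtype.ext e.symm⟩

theorem card_cent (h : Ctx z a t q) {x : ℕ} (hx : x < 1920) {m : ℕ} (hm : el a t q x ^ m = z) :
    Nat.card (Subgroup.centralizer ({el a t q x} : Set G)) = centCount x := by
  rw [centCount, ← h.count_card (P := fun c => c ∈ Subgroup.centralizer ({el a t q x} : Set G))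
    (fun c hc => hm ▸ Commute.pow_right (Subgroup.mem_centralizer_singleton_iff.1 hc : Commute c (el a t q x)) m)
    fun i hi => ?_]
  rw [Subgroup.mem_centralizer_singleton_iff, (h.el_mul hi hx).2, (h.el_mul hx hi).2, Nat.beq_eq]
  exact ⟨fun e => by rw [e], fun e => h.el_inj (h.el_mul hx hi).1 (h.el_mul hi hx).1 e.symm⟩

theorem card_pairs (h : Ctx z a t q) {x : ℕ} (hx : x < 1920) {m : ℕ} (hm : el a t q x ^ m = z) :
    Nat.card {y : G // y ≠ 1 ∧ y * y = 1 ∧ y * el a t q x ≠ 1 ∧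
      y * el a t q x * (y * el a t q x) = 1} = pairCount x := by
  have hzz : z * z = 1 := by rw [← pow_two, ← h.ord, pow_orderOf_eq_one]
  refine h.count_card (fun y hy => ?_) fun i hi => ?_
  · obtain ⟨-, h2, -, h4⟩ := hy
    have hyi : y⁻¹ = y := inv_eq_of_mul_eq_one_right h2
    have e : y * el a t q x * y⁻¹ = (el a t q x)⁻¹ := by
      rw [hyi]
      exact eq_inv_of_mul_eq_one_left (by rw [← h4]; group)
    have e2 : y * z * y⁻¹ = z := by
      rw [← hm, ← conj_pow, e, inv_pow, hm, inv_eq_of_mul_eq_one_right hzz]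
    exact mul_inv_eq_iff_eq_mul.1 e2
  · obtain ⟨h2, e2⟩ := h.el_mul hi hx
    simp only [sqI, Bool.and_eq_true, Bool.not_eq_true', force_eq]
    rw [e2]
    have hb : ∀ j, j < 1920 → (Nat.beq j 0 = true ↔ el a t q j = 1) := fun j hj => by
      rw [h.el_eq_one hj, Nat.beq_eq]
    constructor
    · rintro ⟨⟨a1, a2⟩, a3, a4⟩
      refine ⟨fun e => ?_, by rw [(h.el_mul hi hi).2]; exact (hb _ (h.el_mul hi hi).1).1 a2,
        fun e => ?_, by rw [(h.el_mul h2 h2).2]; exact (hb _ (h.el_mul h2 h2).1).1 a4⟩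
      · rw [(hb i hi).2 e] at a1; exact Bool.noConfusion a1
      · rw [(hb _ h2).2 e] at a3; exact Bool.noConfusion a3
    · rintro ⟨a1, a2, a3, a4⟩
      exact ⟨⟨Bool.eq_false_iff.2 fun e => a1 ((hb i hi).1 e),
        (hb _ (h.el_mul hi hi).1).2 ((h.el_mul hi hi).2 ▸ a2)⟩,
        Bool.eq_false_iff.2 fun e => a3 ((hb _ h2).1 e),
        (hb _ (h.el_mul h2 h2).1).2 ((h.el_mul h2 h2).2 ▸ a4)⟩

theorem tens_not_conj (h : Ctx z a t q) {m : ℕ} (h17 : el a t q 17 ^ m = z) (h113 : el a t q 113 ^ m = z) :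
    ¬ IsConj (el a t q 17) (el a t q 113) := by
  intro hc
  obtain ⟨g, hg⟩ := isConj_iff.1 hc
  have hgz : g * z * g⁻¹ = z := by
    nth_rewrite 1 [← h17]
    rw [← conj_pow, hg, h113]
  obtain ⟨i, hi, rfl⟩ := h.surj (mul_inv_eq_iff_eq_mul.1 hgz)
  have := allBelow_iff.1 tens_check i hi
  rw [mul_inv_eq_iff_eq_mul, (h.el_mul hi (by omega)).2, (h.el_mul (by omega) hi).2] at hg
  rw [h.el_inj (h.el_mul hi (by omega)).1 (h.el_mul (by omega) hi).1 hg] at this
  simp at this

end Ctx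

end Cfsg.Agent.Lib.J3Order.Local
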