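import Cfsg.Agent.Lib.J3Order.Minus
import Cfsg.Agent.Lib.HJUniq.Coord

/-!
# Groups of `J₃` type: an involution of `C(z)` outside `Q`, and standard generators

If all involutions of `C(z)` were in `Q`, a group of order `9` normalising a four-group `W` of `Q`
would act freely on the sixty elements of `O₂(C(W))` outside `W`.
-/

set_option autoImplicit false
set_option linter.style.haveILetI false

namespace Cfsg.Agent.Lib.J3Order.Outside

open Cfsg.Agent.Lib.LargeExtraspecial.Basic Cfsg.Agent.Lib.HallJanko Cfsg.Agent.Lib.HallJanko.Model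
open Cfsg.Agent.Lib.Involutions.Basic (invol_iff orderOf_conj_eq)

theorem four_fix : Fintype.card {σ : Equiv.Perm (Fin 5) // Equiv.Perm.sign σ = 1 ∧ σ 0 = 0 ∧ σ * σ = 1} = 4 := by
  decide +kernel

theorem pow32 : ∀ σ : Equiv.Perm (Fin 5), Equiv.Perm.sign σ = 1 → σ ^ 32 = 1 → σ * σ = 1 := by
  decide +kernel

set_option synthInstance.maxSize 4096 in
set_option synthInstance.maxHeartbeats 400000 in
theorem three_comm : ∀ σ : Equiv.Perm (Fin 5), σ * σ * σ = 1 → σ ≠ 1 → ∀ τ : Equiv.Perm (Fin 5),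
    Equiv.Perm.sign τ = 1 → τ * τ = 1 → τ * σ = σ * τ → τ = 1 := by decide +kernel

theorem three_fix_vec : ∀ σ : Equiv.Perm (Fin 5), σ * σ * σ = 1 → σ ≠ 1 → σ 0 = 0 → ∀ v : Vec,
    Even5 v → IsFix σ v → v 0 = 0 → v = 0 ∨ v = allBut 0 := by decide +kernel

/-- A three-cycle fixing `0`. -/
abbrev cyc : Equiv.Perm (Fin 5) := Equiv.swap 1 2 * Equiv.swap 2 3

theorem three_zero : Equiv.Perm.sign cyc = 1 ∧ cyc ≠ 1 ∧ cyc ^ 3 = 1 ∧ cyc 0 = 0 := by decide +kernel

variable {G : Type*} [Group G] [Finite G] {z : G} {Q : Subgroup G} {u : Fin 5 → G}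

/-- An involution of `C(z)` outside `Q`. -/
theorem exists_outside [IsSimpleGroup G] (h : Five z Q u)
    (hone : ∀ x y : G, orderOf x = 2 → orderOf y = 2 → IsConj x y) :
    ∃ t ∈ Subgroup.centralizer ({z} : Set G), t * t = 1 ∧ t ∉ Q := by
  classical
  by_contra hno
  simp only [not_exists, not_and, not_not] at hno
  haveI : Fact (Nat.Prime 3) := ⟨Nat.prime_three⟩
  have hzc : ∀ {c : G}, c ∈ Subgroup.centralizer ({z} : Set G) → Commute c z :=
    fun hc => h.toBase.commute_of_mem_centralizer hc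
  have hQC := h.toBase.z_mem_centralizer
  set v := u 0 with hv
  have hvQ : v ∈ Q := h.mem 0
  have hzC : z ∈ Subgroup.centralizer ({z} : Set G) := hQC h.es.mem
  set CW := Subgroup.centralizer ({z} : Set G) ⊓ Subgroup.centralizer ({v} : Set G) with hCW
  have hCWmem : ∀ x, x ∈ CW ↔ Commute x z ∧ Commute x v := fun x => by
    simp only [hCW, Subgroup.mem_inf, Subgroup.mem_centralizer_singleton_iff]; rfl
  have hphiv : phi u v = allBut 0 := h.phi_u 0
  have hv1 : v ≠ 1 := fun e => Five.allBut_ne_zero 0 (by rw [← hphiv, e, h.phi_one])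
  have hvz : v ≠ z := fun e => Five.allBut_ne_zero 0 (by rw [← hphiv, e, h.phi_z])
  have hv2 : v * v = 1 := h.sq 0
  have hzv : Commute z v := (h.es.comm v hvQ).symm
  have hvzne : v * z ≠ 1 := fun e => hvz ((eq_inv_of_mul_eq_one_left e).trans (inv_eq_of_mul_eq_one_right h.es.sq))
  -- the involutions of `C(W)` are those of `W`
  have hinv : ∀ x ∈ CW, x * x = 1 → x = 1 ∨ x = z ∨ x = v ∨ x = v * z := by
    intro x hx hx2
    obtain ⟨hxz, hxv⟩ := (hCWmem x).1 hx
    have hxQ : x ∈ Q := hno x (Subgroup.mem_centralizer_singleton_iff.2 hxz) hx2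
    rcases h.singular hxQ hx2 with e | e | ⟨i, e | e⟩
    · exact Or.inl e
    · exact Or.inr (Or.inl e)
    all_goals
      have hi : i = 0 := by
        by_contra hne
        have h1 : chi (u i) v = 1 := h.anti i 0 hne
        have hc : Commute (u i) v := by
          rcases e with rfl
          first
            | exact hxv
            | (have h2 := hxv.mul_left (hzv : Commute z v)
               rwa [mul_assoc, h.es.sq, mul_one] at h2)
        rw [chi_eq_zero.2 hc] at h1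
        exact zero_ne_one h1
      subst hi
    · exact Or.inr (Or.inr (Or.inl e))
    · exact Or.inr (Or.inr (Or.inr e))
  have hpr0 : ∀ x ∈ CW, h.pr x 0 = 0 := by
    intro x hx
    obtain ⟨hxz, hxv⟩ := (hCWmem x).1 hx
    have hxC : x ∈ Subgroup.centralizer ({z} : Set G) := Subgroup.mem_centralizer_singleton_iff.2 hxz
    have e : x * v * x⁻¹ = v := mul_inv_eq_iff_eq_mul.2 hxv
    refine allBut_injective _ _ ?_
    rw [← h.phi_u, ← hphiv]
    rcases h.conj_u hxC 0 with e' | e' <;> rw [← hv, e] at e'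
    · rw [e']
    · rw [e', h.phi_mul (h.mem _) h.es.mem, h.phi_z, add_zero]
  -- the set `R`
  set R : Set G := {x | x ∈ CW ∧ x ^ 32 = 1} with hR
  have hRW : ∀ x, (x = 1 ∨ x = z ∨ x = v ∨ x = v * z) → x ∈ R := by
    rintro x (e | e | e | e) <;> rw [e]
    · exact ⟨one_mem _, one_pow _⟩
    · exact ⟨(hCWmem z).2 ⟨Commute.refl z, hzv⟩, by rw [pow_mul z 2 16, pow_two, h.es.sq, one_pow]⟩
    · exact ⟨(hCWmem v).2 ⟨hzv.symm, Commute.refl v⟩, by rw [pow_mul v 2 16, pow_two, hv2, one_pow]⟩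
    · refine ⟨(hCWmem _).2 ⟨hzv.symm.mul_left (Commute.refl z), (Commute.refl v).mul_left hzv⟩, ?_⟩
      rw [pow_mul (v * z) 2 16, pow_two, h.uz_mul_self 0, one_pow]
  have hpow : ∀ x ∈ CW, (x ^ 32 = 1 ↔ h.pr x * h.pr x = 1) := by
    intro x hx
    have hxC := ((Subgroup.mem_inf).1 hx).1
    constructor
    · intro e
      refine pow32 _ (h.pr_sign hxC) ?_
      rw [← HJUniq.pr_pow h hxC, e, h.pr_of_mem (one_mem Q)]
    · intro e
      have h1 : x ^ 2 ∈ Q := h.mem_of_pr (pow_mem hxC 2) (by rw [HJUniq.pr_pow h hxC, pow_two, e])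
      rw [pow_mul x 2 16, HJUniq.pow_sixteen h h1]
  set KQ := Q ⊓ Subgroup.centralizer ({v} : Set G) with hKQ
  have hKQcard : Nat.card KQ = 16 := by
    obtain ⟨r, hr, hrv⟩ := h.es.exists_conj_ne hvQ hv1 hvz
    have hrK : r ∉ KQ := fun e => h.es.ne (mul_eq_left.1 (show v * z = v by
      rw [← hrv]; exact mul_inv_eq_iff_eq_mul.2 (Subgroup.mem_centralizer_singleton_iff.1 e.2)))
    have hu : (Q : Set G) = (KQ : Set G) ∪ (fun k => r * k) '' (KQ : Set G) := by
      refine Set.Subset.antisymm (fun q hq => ?_) (Set.union_subset (fun q hq => hq.1) ?_)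
      · rcases h.es.conj q hq v hvQ with e | e
        · exact Or.inl ⟨hq, Subgroup.mem_centralizer_singleton_iff.2 (mul_inv_eq_iff_eq_mul.1 e)⟩
        · refine Or.inr ⟨r⁻¹ * q, ⟨Q.mul_mem (Q.inv_mem hr) hq, Subgroup.mem_centralizer_singleton_iff.2
            (mul_inv_eq_iff_eq_mul.1 ?_)⟩, mul_inv_cancel_left r q⟩
          calc r⁻¹ * q * v * (r⁻¹ * q)⁻¹ = r⁻¹ * (q * v * q⁻¹) * r := by group
            _ = r⁻¹ * (r * v * r⁻¹) * r := by rw [e, hrv]
            _ = v := by group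
      · rintro _ ⟨k, hk, rfl⟩
        exact mul_mem hr hk.1
    have hdis : Disjoint (KQ : Set G) ((fun k => r * k) '' (KQ : Set G)) := by
      rw [Set.disjoint_left]
      rintro x hx ⟨k, hk, rfl⟩
      exact hrK (by simpa using KQ.mul_mem hx (KQ.inv_mem hk))
    have h1 := congrArg Set.ncard hu
    rw [Set.ncard_union_eq hdis, Set.ncard_image_of_injective _ (mul_right_injective r),
      ← Nat.card_coe_set_eq, ← Nat.card_coe_set_eq, show Nat.card (Q : Set G) = 32 from h.card] at h1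
    have : Nat.card (KQ : Set G) = Nat.card KQ := rfl
    omega
  have hKQCW : ∀ q ∈ KQ, q ∈ CW := fun q hq =>
    (hCWmem q).2 ⟨h.es.comm q hq.1, Subgroup.mem_centralizer_singleton_iff.1 hq.2⟩
  have hlift : ∀ σ : Equiv.Perm (Fin 5), Equiv.Perm.sign σ = 1 → σ 0 = 0 → ∃ x ∈ CW, h.pr x = σ := by
    intro σ hσ h0
    obtain ⟨c, hc, hcσ⟩ := h.exists_lift σ hσ
    have e := h.conj_u hc 0
    rw [hcσ, h0, ← hv] at e
    rcases e with e | e
    · exact ⟨c, (hCWmem c).2 ⟨hzc hc, mul_inv_eq_iff_eq_mul.1 e⟩, hcσ⟩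
    · obtain ⟨r, hr, hrv⟩ := h.es.exists_conj_ne hvQ hv1 hvz
      refine ⟨r * c, (hCWmem _).2 ⟨(h.es.comm r hr).mul_left (hzc hc), mul_inv_eq_iff_eq_mul.1 ?_⟩,
        by rw [h.pr_mul (hQC hr) hc, h.pr_of_mem hr, hcσ, one_mul]⟩
      calc r * c * v * (r * c)⁻¹ = r * (c * v * c⁻¹) * r⁻¹ := by group
        _ = r * v * r⁻¹ * (r * z * r⁻¹) := by rw [e]; group
        _ = v * z * z := by rw [hrv, mul_inv_eq_iff_eq_mul.2 (h.es.comm r hr)]
        _ = v := h.toBase.mul_z_mul_z v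
  have hRcard : Nat.card R = 64 := by
    choose L hL1 hL2 using hlift
    let X := {σ : Equiv.Perm (Fin 5) // Equiv.Perm.sign σ = 1 ∧ σ 0 = 0 ∧ σ * σ = 1}
    let f : X × KQ → R := fun p => ⟨(p.2 : G) * L p.1.1 p.1.2.1 p.1.2.2.1, by
      have hx := mul_mem (hKQCW _ p.2.2) (hL1 p.1.1 p.1.2.1 p.1.2.2.1)
      refine ⟨hx, (hpow _ hx).2 ?_⟩
      rw [h.pr_mul (hQC p.2.2.1) (Subgroup.mem_inf.1 (hL1 _ _ _)).1, h.pr_of_mem p.2.2.1, hL2, one_mul]
      exact p.1.2.2.2⟩
    have hf : Function.Bijective f := by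
      constructor
      · rintro ⟨⟨σ, hσ⟩, k⟩ ⟨⟨τ, hτ⟩, m⟩ e
        have e' : (k : G) * L σ hσ.1 hσ.2.1 = (m : G) * L τ hτ.1 hτ.2.1 := congrArg Subtype.val e
        have e2 := congrArg h.pr e'
        rw [h.pr_mul (hQC k.2.1) (Subgroup.mem_inf.1 (hL1 _ _ _)).1, h.pr_of_mem k.2.1, hL2,
          h.pr_mul (hQC m.2.1) (Subgroup.mem_inf.1 (hL1 _ _ _)).1, h.pr_of_mem m.2.1, hL2, one_mul,
          one_mul] at e2
        subst e2
        exact Prod.ext rfl (Subtype.ext (mul_right_cancel e'))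
      · rintro ⟨x, hx, hx32⟩
        have hxC := (Subgroup.mem_inf.1 hx).1
        have hs := h.pr_sign hxC
        have h0 := hpr0 x hx
        have h2 := (hpow x hx).1 hx32
        have hl := hL1 _ hs h0
        have hk : x * (L _ hs h0)⁻¹ ∈ KQ := by
          refine ⟨h.mem_of_pr (mul_mem hxC (inv_mem (Subgroup.mem_inf.1 hl).1)) ?_, ?_⟩
          · rw [h.pr_mul hxC (inv_mem (Subgroup.mem_inf.1 hl).1), h.pr_inv (Subgroup.mem_inf.1 hl).1, hL2,
              mul_inv_cancel]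
          · exact Subgroup.mul_mem _ (Subgroup.mem_inf.1 hx).2 (Subgroup.inv_mem _ (Subgroup.mem_inf.1 hl).2)
        exact ⟨(⟨h.pr x, hs, h0, h2⟩, ⟨_, hk⟩), Subtype.ext (inv_mul_cancel_right x _)⟩
    rw [← Nat.card_eq_of_bijective f hf, Nat.card_prod, hKQcard, Nat.card_eq_fintype_card]
    show Fintype.card X * 16 = 64
    rw [four_fix]
  -- the normaliser of `W`
  let W3 : Set G := {z, v, v * z}
  let N : Subgroup G :=
    { carrier := {g | ∀ x ∈ W3, g * x * g⁻¹ ∈ W3 ∧ g⁻¹ * x * g ∈ W3}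
      one_mem' := fun x hx => by simpa using hx
      mul_mem' := fun {a b} ha hb x hx => ⟨by
          have := (ha _ (hb x hx).1).1
          simpa [mul_assoc] using this, by
          have := (hb _ (ha x hx).2).2
          simpa [mul_assoc] using this⟩
      inv_mem' := fun {a} ha x hx => ⟨by simpa using (ha x hx).2, by simpa using (ha x hx).1⟩ }
  let Φ : N →* Equiv.Perm W3 :=
    { toFun := fun g =>
        { toFun := fun x => ⟨(g : G) * x * (g : G)⁻¹, (g.2 x x.2).1⟩
          invFun := fun x => ⟨(g : G)⁻¹ * x * g, (g.2 x x.2).2⟩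
          left_inv := fun x => Subtype.ext (by simp only; group)
          right_inv := fun x => Subtype.ext (by simp only; group) }
      map_one' := Equiv.ext fun x => Subtype.ext (by simp)
      map_mul' := fun a b => Equiv.ext fun x => Subtype.ext (by
        show (a : G) * b * x * ((a : G) * b)⁻¹ = a * ((b : G) * x * (b : G)⁻¹) * (a : G)⁻¹
        group) }
  have hzW : z ∈ W3 := Or.inl rfl
  have hvW : v ∈ W3 := Or.inr (Or.inl rfl)
  have hker : ∀ g : N, Φ g = 1 ↔ (g : G) ∈ CW := by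
    intro g
    constructor
    · intro e
      have ez : (g : G) * z * (g : G)⁻¹ = z := congrArg (fun p : Equiv.Perm W3 => (p ⟨z, hzW⟩ : G)) e
      have ev : (g : G) * v * (g : G)⁻¹ = v := congrArg (fun p : Equiv.Perm W3 => (p ⟨v, hvW⟩ : G)) e
      exact (hCWmem _).2 ⟨mul_inv_eq_iff_eq_mul.1 ez, mul_inv_eq_iff_eq_mul.1 ev⟩
    · intro hg
      obtain ⟨gz, gv⟩ := (hCWmem _).1 hg
      refine Equiv.ext fun x => Subtype.ext ?_
      show (g : G) * x * (g : G)⁻¹ = x
      rcases x.2 with e | e | e <;> rw [e] <;> refine mul_inv_eq_iff_eq_mul.2 ?_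
      exacts [gz.eq, gv.eq, (gv.mul_right gz).eq]
  have hCWN : CW ≤ N := by
    intro g hg x hx
    obtain ⟨gz, gv⟩ := (hCWmem _).1 hg
    have hc : Commute g x := by
      rcases hx with e | e | e <;> rw [e]
      exacts [gz, gv, gv.mul_right gz]
    exact ⟨by rwa [mul_inv_eq_iff_eq_mul.2 hc.eq], by rwa [mul_assoc, ← hc.eq, inv_mul_cancel_left]⟩
  -- an element cycling `W`
  obtain ⟨g, hg⟩ := isConj_iff.1 (hone z v h.ord (invol_iff.2 ⟨hv2, hv1⟩))
  obtain ⟨r, hr, hrv⟩ := h.es.exists_conj_ne hvQ hv1 hvz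
  set z' := g⁻¹ * z * g with hz'
  have hz'Q : z' ∈ Q := by
    refine hno z' (Subgroup.mem_centralizer_singleton_iff.2 ?_) ?_
    · have h1 : Commute (g⁻¹ * z * g) (g⁻¹ * v * g) := by
        simpa using hzv.map (MulAut.conj g⁻¹)
      rwa [show g⁻¹ * v * g = z by rw [← hg]; group] at h1
    · rw [hz', show g⁻¹ * z * g * (g⁻¹ * z * g) = g⁻¹ * (z * z) * g by group, h.es.sq]; group
  have hz'1 : z' ≠ 1 := fun e => h.es.ne (by
    have : z = g * z' * g⁻¹ := by rw [hz']; group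
    rw [this, e]; group)
  have hz'z : z' ≠ z := fun e => hvz (by
    rw [← hg]
    nth_rewrite 2 [show z = g * z' * g⁻¹ by rw [hz']; group]
    rw [e])
  obtain ⟨r', hr', hr'z⟩ := h.es.exists_conj_ne hz'Q hz'1 hz'z
  set s := g * r' * g⁻¹ with hs
  have hsz : s * z * s⁻¹ = v * z := by
    rw [hzv.symm.eq]
    calc s * z * s⁻¹ = g * (r' * z' * r'⁻¹) * g⁻¹ := by rw [hs, hz']; group
      _ = (g * z' * g⁻¹) * (g * z * g⁻¹) := by rw [hr'z]; group
      _ = z * v := by rw [hg, hz']; group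
  have hsv : s * v * s⁻¹ = v := by
    rw [← hg]
    calc s * (g * z * g⁻¹) * s⁻¹ = g * (r' * z * r'⁻¹) * g⁻¹ := by rw [hs]; group
      _ = _ := by rw [mul_inv_eq_iff_eq_mul.2 (h.es.comm r' hr').eq]
  have hrz : r * z * r⁻¹ = z := mul_inv_eq_iff_eq_mul.2 (h.es.comm r hr).eq
  set p := s * r with hp
  have hpz : p * z * p⁻¹ = v * z := by
    rw [hp, show s * r * z * (s * r)⁻¹ = s * (r * z * r⁻¹) * s⁻¹ by group, hrz, hsz]
  have hpv : p * v * p⁻¹ = z := by
    rw [hp, show s * r * v * (s * r)⁻¹ = s * (r * v * r⁻¹) * s⁻¹ by group, hrv,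
      show s * (v * z) * s⁻¹ = (s * v * s⁻¹) * (s * z * s⁻¹) by group, hsv, hsz, ← mul_assoc, hv2, one_mul]
  have hpvz : p * (v * z) * p⁻¹ = v := by
    rw [show p * (v * z) * p⁻¹ = (p * v * p⁻¹) * (p * z * p⁻¹) by group, hpv, hpz, ← mul_assoc,
      hzv.eq, mul_assoc, h.es.sq, mul_one]
  have hpN : p ∈ N := by
    intro x hx
    refine ⟨?_, ?_⟩
    · rcases hx with e | e | e <;> rw [e]
      · rw [hpz]; exact Or.inr (Or.inr rfl)
      · rw [hpv]; exact Or.inl rfl
      · rw [hpvz]; exact Or.inr (Or.inl rfl)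
    · have i1 : p⁻¹ * z * p = v := by rw [← hpv]; group
      have i2 : p⁻¹ * v * p = v * z := by
        calc p⁻¹ * v * p = p⁻¹ * (p * (v * z) * p⁻¹) * p := by rw [hpvz]
          _ = v * z := by group
      have i3 : p⁻¹ * (v * z) * p = z := by rw [← hpz]; group
      rcases hx with e | e | e <;> rw [e]
      · rw [i1]; exact Or.inr (Or.inl rfl)
      · rw [i2]; exact Or.inr (Or.inr rfl)
      · rw [i3]; exact Or.inl rfl
  have hΦ3 : orderOf (Φ ⟨p, hpN⟩) = 3 := by
    refine orderOf_eq_prime (Equiv.ext fun x => Subtype.ext ?_) fun e => hvz.symm ?_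
    · rw [pow_succ, pow_two]
      show p * (p * (p * (x : G) * p⁻¹) * p⁻¹) * p⁻¹ = x
      rcases x.2 with e | e | e <;> rw [e]
      · rw [hpz, hpvz, hpv]
      · rw [hpv, hpz, hpvz]
      · rw [hpvz, hpv, hpz]
    · have ev : p * v * p⁻¹ = v := congrArg (fun p : Equiv.Perm W3 => (p ⟨v, hvW⟩ : G)) e
      exact hpv.symm.trans ev
  have h9 : 3 ^ 2 ∣ Nat.card N := by
    rw [← Subgroup.card_mul_index Φ.ker, Subgroup.index_ker, pow_two]
    refine mul_dvd_mul ?_ (hΦ3 ▸ Subgroup.orderOf_dvd_natCard Φ.range ⟨⟨p, hpN⟩, rfl⟩)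
    obtain ⟨hs3, hne3, hp3, h03⟩ := three_zero
    obtain ⟨x, hx, hxσ⟩ := hlift _ hs3 h03
    have hxC := (Subgroup.mem_inf.1 hx).1
    have h48 : x ^ 48 = 1 := by
      rw [show 48 = 3 * 16 by rfl, pow_mul]
      exact HJUniq.pow_sixteen h (h.mem_of_pr (pow_mem hxC 3) (by rw [HJUniq.pr_pow h hxC, hxσ, hp3]))
    set y := x ^ 16 with hy
    have hy3 : orderOf y = 3 := by
      refine orderOf_eq_prime (by rw [hy, ← pow_mul, h48]) fun e => hne3 ?_
      have := congrArg h.pr e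
      rw [hy, HJUniq.pr_pow h hxC, hxσ, h.pr_of_mem (one_mem Q), show 16 = 3 * 5 + 1 by rfl, pow_succ,
        pow_mul, hp3, one_pow, one_mul] at this
      exact this
    have hyN : y ∈ N := hCWN (pow_mem hx 16)
    have hmem : (⟨y, hyN⟩ : N) ∈ Φ.ker := (hker _).2 (pow_mem hx 16)
    have := Subgroup.orderOf_dvd_natCard Φ.ker hmem
    rwa [Subgroup.orderOf_mk, hy3] at this
  obtain ⟨P, hP⟩ := Sylow.exists_subgroup_card_pow_prime (G := N) 3 h9
  -- its action
  let T := {x : G // x ∈ R ∧ x ≠ 1 ∧ x ≠ z ∧ x ≠ v ∧ x ≠ v * z}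
  have hTcard : Nat.card T = 60 := by
    have hs : ({1, z, v, v * z} : Set G) ⊆ R := fun x hx => hRW x (by simpa using hx)
    have h4 : ({1, z, v, v * z} : Set G).ncard = 4 := by
      have n1 : (1 : G) ∉ ({z, v, v * z} : Set G) := by
        simp [Ne.symm h.es.ne, Ne.symm hv1, Ne.symm hvzne]
      have n2 : z ∉ ({v, v * z} : Set G) := by
        simp only [Set.mem_insert_iff, Set.mem_singleton_iff, not_or]
        exact ⟨Ne.symm hvz, fun e => hv1 (right_eq_mul.1 e)⟩
      have n3 : v ∉ ({v * z} : Set G) := by simp [h.es.ne]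
      rw [Set.ncard_insert_of_notMem n1, Set.ncard_insert_of_notMem n2, Set.ncard_insert_of_notMem n3,
        Set.ncard_singleton]
    have hset : {x : G | x ∈ R ∧ x ≠ 1 ∧ x ≠ z ∧ x ≠ v ∧ x ≠ v * z} = R \ {1, z, v, v * z} := by
      ext x; simp; tauto
    show Nat.card {x : G | x ∈ R ∧ x ≠ 1 ∧ x ≠ z ∧ x ≠ v ∧ x ≠ v * z} = 60
    rw [hset, Nat.card_coe_set_eq, Set.ncard_diff hs, h4, ← Nat.card_coe_set_eq, hRcard]
  have hact : ∀ (g : N) (x : G), x ∈ R → x ≠ 1 ∧ x ≠ z ∧ x ≠ v ∧ x ≠ v * z →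
      (g : G) * x * (g : G)⁻¹ ∈ R ∧ (g : G) * x * (g : G)⁻¹ ≠ 1 ∧ (g : G) * x * (g : G)⁻¹ ≠ z ∧
        (g : G) * x * (g : G)⁻¹ ≠ v ∧ (g : G) * x * (g : G)⁻¹ ≠ v * z := by
    intro g x hx hne
    have hback : ∀ w ∈ W3, (g : G) * x * (g : G)⁻¹ = w → x ∈ W3 := fun w hw e => by
      have := (g.2 w hw).2
      rwa [← e, show (g : G)⁻¹ * ((g : G) * x * (g : G)⁻¹) * g = x by group] at this
    have hnW : x ∉ W3 := by
      rintro (e | e | e)
      exacts [hne.2.1 e, hne.2.2.1 e, hne.2.2.2 e]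
    obtain ⟨xz, xv⟩ := (hCWmem x).1 hx.1
    have hcomm : ∀ w ∈ W3, Commute ((g : G) * x * (g : G)⁻¹) w := fun w hw => by
      have hw' := (g.2 w hw).2
      have hc : Commute x ((g : G)⁻¹ * w * g) := by
        rcases hw' with e | e | e <;> rw [e]
        exacts [xz, xv, xv.mul_right xz]
      have h1 := hc.map (MulAut.conj (g : G))
      simpa [mul_assoc] using h1
    refine ⟨⟨(hCWmem _).2 ⟨hcomm z hzW, hcomm v hvW⟩, by rw [conj_pow, hx.2]; group⟩,
      fun e => hne.1 (conj_eq_one_iff.1 e), fun e => hnW (hback z hzW e), fun e => hnW (hback v hvW e),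
      fun e => hnW (hback _ (Or.inr (Or.inr rfl)) e)⟩
  letI : MulAction P T :=
    { smul := fun g x => ⟨((g : N) : G) * x.1 * ((g : N) : G)⁻¹, hact g x.1 x.2.1 x.2.2⟩
      one_smul := fun x => Subtype.ext (by
        show ((1 : P) : N).1 * x.1 * ((1 : P) : N).1⁻¹ = x.1
        simp)
      mul_smul := fun a b x => Subtype.ext (by
        show ((a * b : P) : N).1 * x.1 * ((a * b : P) : N).1⁻¹ =
          ((a : N) : G) * (((b : N) : G) * x.1 * ((b : N) : G)⁻¹) * ((a : N) : G)⁻¹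
        push_cast
        group) }
  have hfree : ∀ x : T, MulAction.stabilizer P x = ⊥ := by
    intro x
    rw [eq_bot_iff]
    intro g hg
    by_contra hg1
    rw [Subgroup.mem_bot] at hg1
    have hfix : ((g : N) : G) * x.1 * ((g : N) : G)⁻¹ = x.1 := congrArg Subtype.val hg
    have hord : orderOf ((g : N) : G) ∣ 9 := by
      rw [Subgroup.orderOf_coe, Subgroup.orderOf_coe]
      have := orderOf_dvd_natCard g
      rwa [hP] at this
    by_cases hgC : ((g : N) : G) ∈ CW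
    · -- an element of order three in `C(W)`
      have hgne : ((g : N) : G) ≠ 1 := fun e => hg1 (Subtype.ext (Subtype.ext e))
      have h3 : orderOf ((g : N) : G) = 3 := by
        rcases (Nat.dvd_prime_pow Nat.prime_three (m := 2)).1 hord with ⟨i, hi, e⟩
        interval_cases i
        · exact absurd (orderOf_eq_one_iff.1 (e.trans (pow_zero 3))) hgne
        · simpa using e
        · have h1 := Subgroup.orderOf_dvd_natCard (Subgroup.centralizer ({z} : Set G))
            (Subgroup.mem_inf.1 hgC).1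
          rw [h.cent, e] at h1
          norm_num at h1
      set w := ((g : N) : G) with hw
      have hwC := (Subgroup.mem_inf.1 hgC).1
      have hσ3 : h.pr w * h.pr w * h.pr w = 1 := by
        rw [← h.pr_mul hwC hwC, ← h.pr_mul (mul_mem hwC hwC) hwC,
          show w * w * w = w ^ orderOf w by rw [h3, pow_succ, pow_two], pow_orderOf_eq_one,
          h.pr_of_mem (one_mem Q)]
      have hσ1 : h.pr w ≠ 1 := fun e => by
        have h1 := Subgroup.orderOf_dvd_natCard Q (h.mem_of_pr hwC e)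
        rw [h3, h.card] at h1
        norm_num at h1
      obtain ⟨hxC, hxv⟩ := Subgroup.mem_inf.1 x.2.1.1
      have hτ := (hpow x.1 x.2.1.1).1 x.2.1.2
      have hcomm : x.1 * w = w * x.1 := (mul_inv_eq_iff_eq_mul.1 hfix).symm
      have h1 : h.pr x.1 = 1 := three_comm _ hσ3 hσ1 _ (h.pr_sign hxC) hτ (by
        rw [← h.pr_mul hxC hwC, ← h.pr_mul hwC hxC, hcomm])
      have hxQ : x.1 ∈ Q := h.mem_of_pr hxC h1
      have hfixv : IsFix (h.pr w) (phi u x.1) := fun i => by
        have := h.phi_pr hwC hxQ i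
        rwa [hfix] at this
      have h0 : phi u x.1 0 = 0 := chi_eq_zero.2 (Subgroup.mem_centralizer_singleton_iff.1 hxv)
      rcases three_fix_vec _ hσ3 hσ1 (hpr0 w hgC) _ (h.phi_even hxQ) hfixv h0 with e | e
      · rcases h.range_card_and_ker.2.2 _ hxQ e with e' | e'
        exacts [x.2.2.1 e', x.2.2.2.1 e']
      · rw [← hphiv] at e
        rcases (h.phi_eq_iff hvQ hxQ).1 e.symm with e' | e'
        exacts [x.2.2.2.2.1 e', x.2.2.2.2.2 e']
    · -- a fixed element would give a fixed involution of `W`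
      obtain ⟨k, -, hk⟩ := (Nat.dvd_prime_pow Nat.prime_two (m := 5)).1
        (orderOf_dvd_of_pow_eq_one (show x.1 ^ 2 ^ 5 = 1 from x.2.1.2))
      rcases k with _ | k
      · exact x.2.2.1 (orderOf_eq_one_iff.1 (hk.trans (pow_zero 2)))
      set w := x.1 ^ 2 ^ k with hw
      have hw2 : w * w = 1 := by
        rw [hw, ← pow_two, ← pow_mul, ← pow_succ, ← hk, pow_orderOf_eq_one]
      have hw1 : w ≠ 1 := by
        intro e
        have := orderOf_dvd_of_pow_eq_one e
        rw [hk, Nat.pow_dvd_pow_iff_le_right (by norm_num)] at this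
        omega
      have hgw : ((g : N) : G) * w * ((g : N) : G)⁻¹ = w := by rw [hw, ← conj_pow, hfix]
      have hwW : w ∈ W3 := (hinv w (pow_mem x.2.1.1 _) hw2).resolve_left hw1
      -- a point fixed by a non-trivial element of order dividing nine
      apply hgC
      rw [← hker]
      have hσ : orderOf (Φ (g : N)) ∣ 9 := (orderOf_map_dvd Φ _).trans (by
        rw [Subgroup.orderOf_coe] at hord
        exact hord)
      by_contra hne
      haveI : Fintype W3 := Fintype.ofFinite _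
      have hcard3 : Fintype.card W3 ≤ 3 := by
        rw [← Nat.card_eq_fintype_card, Nat.card_coe_set_eq]
        refine (Set.ncard_insert_le _ _).trans ?_
        have := Set.ncard_insert_le v ({v * z} : Set G)
        rw [Set.ncard_singleton] at this
        omega
      have h9' : (Φ (g : N)) ^ 3 ^ 2 = 1 := orderOf_dvd_iff_pow_eq_one.1 hσ
      have hmod := Equiv.Perm.card_compl_support_modEq (p := 3) (n := 2) h9'
      have hlt : (Φ (g : N)).supportᶜ.card ≠ 0 := by
        rw [Finset.card_ne_zero]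
        exact ⟨⟨w, hwW⟩, by
          rw [Finset.mem_compl, Equiv.Perm.notMem_support]
          exact Subtype.ext hgw⟩
      have hne' := Equiv.Perm.card_support_ne_one (Φ (g : N))
      have hne0 : (Φ (g : N)).support.card ≠ 0 := fun e =>
        hne (Equiv.Perm.card_support_eq_zero.1 e)
      rw [Finset.card_compl] at hmod hlt
      have hle := Finset.card_le_univ (Φ (g : N)).support
      unfold Nat.ModEq at hmod
      generalize Fintype.card W3 = n at *
      generalize (Φ (g : N)).support.card = m at *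
      interval_cases n <;> omega
  have hdiv : 9 ∣ Nat.card T := by
    letI := Fintype.ofFinite (Quotient (MulAction.orbitRel P T))
    rw [Nat.card_congr (MulAction.selfEquivSigmaOrbitsQuotientStabilizer P T), Nat.card_sigma]
    refine Finset.dvd_sum fun ω _ => ?_
    rw [hfree, ← Subgroup.index_eq_card, Subgroup.index_bot, hP]
    norm_num
  rw [hTcard] at hdiv
  norm_num at hdiv

/-- Standard generators of `C(z)`. -/
theorem exists_chart [IsSimpleGroup G] (h : Five z Q u)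
    (hone : ∀ x y : G, orderOf x = 2 → orderOf y = 2 → IsConj x y) :
    ∃ a t q : G, HJUniq.Chart z a t q := by
  obtain ⟨t₀, ht₀C, ht₀2, ht₀Q⟩ := exists_outside h hone
  obtain ⟨-, -, -, -, hsT1, hsT2, hsAT, htp⟩ := HJUniq.sA_facts
  obtain ⟨a, q, haC, ha5, hap, hp, hprod⟩ := HJUniq.exists_cycle h
  obtain ⟨w, hw⟩ : ∃ w : Fin 5 → G, ∀ i : Fin 5, w i = HJUniq.pt a q i :=
    ⟨fun i => HJUniq.pt a q i, fun _ => rfl⟩
  have hwu : ∀ i, w i = u i ∨ w i = u i * z := fun i => by rw [hw]; exact hp i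
  have hwf : Five z Q w := HJUniq.modify h hwu
  have hw0 : w 0 = q := by rw [hw]; simp [HJUniq.pt]
  have hqQ : q ∈ Q := hw0 ▸ hwf.mem 0
  have hprodw : w 0 * w 1 * w 2 * w 3 * w 4 = 1 := by simp only [hw]; exact hprod
  obtain ⟨t₁, ht₁, ht₁p, ht₁v⟩ := HJUniq.exists_perm_lift h hwf hwu hprodw
  have hav : ∀ i, a * w i * a⁻¹ = w (HJUniq.sA i) := fun i => by
    have e : HJUniq.pt a q ((i : ℕ) + 1) = a * HJUniq.pt a q i * a⁻¹ := by
      rw [HJUniq.pt, HJUniq.pt, pow_succ']; group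
    rw [hw, hw, ← e, ← HJUniq.sA_next i]
    rw [HJUniq.pt, HJUniq.pt, pow_eq_pow_mod ((i : ℕ) + 1) ha5]
  have hzc : ∀ c ∈ Subgroup.centralizer ({z} : Set G), Commute c z :=
    fun c hc => h.toBase.commute_of_mem_centralizer hc
  have hQC := h.toBase.z_mem_centralizer
  have hfix : ∀ x ∈ Subgroup.centralizer ({z} : Set G), h.pr x = 1 → ∀ σ : Equiv.Perm (Fin 5), σ = 1 →
      (∀ i, x * w i * x⁻¹ = w (σ i)) → x = 1 ∨ x = z := fun x hx hx1 σ hσ hc =>
    HJUniq.eq_one_or_z hwf (h.mem_of_pr hx hx1) fun i => mul_inv_eq_iff_eq_mul.1 (by rw [hc i, hσ]; rfl)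
  have htQ : t₁ ∉ Q := fun e => hsT1 (by rw [← ht₁p, h.pr_of_mem e])
  have ht2 := (h.sq_central ht₀C ht₀2 ht₀Q ht₁ htQ (hfix (t₁ * t₁) (mul_mem ht₁ ht₁)
    (by rw [h.pr_mul ht₁ ht₁, ht₁p, hsT2]) _ hsT2 (HJUniq.conj_comp ht₁v ht₁v))).1
  have hat := mul_mem haC ht₁
  have hpat : h.pr (a * t₁) = HJUniq.sA * HJUniq.sT := by rw [h.pr_mul haC ht₁, hap, ht₁p]
  have c1 := HJUniq.conj_comp hav ht₁v
  have h3 : (a * t₁) ^ 3 = 1 ∨ (a * t₁) ^ 3 = z := by
    refine hfix _ (pow_mem hat 3) (by rw [HJUniq.pr_pow h hat, hpat, hsAT])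
      ((HJUniq.sA * HJUniq.sT) * (HJUniq.sA * HJUniq.sT) * (HJUniq.sA * HJUniq.sT))
      (by rw [← hsAT, pow_succ, pow_two]) ?_
    rw [pow_succ (a * t₁), pow_two (a * t₁)]
    exact HJUniq.conj_comp (HJUniq.conj_comp c1 c1) c1
  obtain ⟨t, htC, htpr, htv, ht22, hat3⟩ : ∃ t ∈ Subgroup.centralizer ({z} : Set G), h.pr t = HJUniq.sT ∧
      (∀ i, t * w i * t⁻¹ = w (HJUniq.sT i)) ∧ t * t = 1 ∧ (a * t) ^ 3 = 1 := by
    rcases h3 with e | e
    · exact ⟨t₁, ht₁, ht₁p, ht₁v, ht2, e⟩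
    have hzC : z ∈ Subgroup.centralizer ({z} : Set G) := hQC h.es.mem
    refine ⟨t₁ * z, mul_mem ht₁ hzC,
      by rw [h.pr_mul ht₁ hzC, ht₁p, h.pr_of_mem h.es.mem, mul_one], fun i => ?_, ?_, ?_⟩
    · rw [show t₁ * z * w i * (t₁ * z)⁻¹ = t₁ * (z * w i * z⁻¹) * t₁⁻¹ by group,
        (h.es.comm _ (hwf.mem i)).symm.eq, mul_inv_cancel_right, ht₁v]
    · rw [← pow_two, (hzc _ ht₁).mul_pow, pow_two, pow_two, ht2, h.es.sq, one_mul]
    · rw [← mul_assoc, (hzc _ hat).mul_pow, e, show (3 : ℕ) = 2 + 1 from rfl, pow_succ z,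
        pow_two, h.es.sq, one_mul, h.es.sq]
  have hrels : HJUniq.Rels z a t q :=
    { ha := ha5, ht := ht22, hq := hw0 ▸ hwf.sq 0, hat := hat3
      htu := fun i hi => by
        have := htv ⟨i, hi⟩
        rwa [hw, hw, htp ⟨i, hi⟩] at this
      hz := h.es.sq, za := (hzc a haC).symm, zt := (hzc t htC).symm
      zq := (h.es.comm _ hqQ).symm
      anti := fun i j hi hj hij => by
        have hne : (⟨i, hi⟩ : Fin 5) ≠ ⟨j, hj⟩ := fun e => hij (congrArg Fin.val e)
        have e : HJUniq.pt a q i * HJUniq.pt a q j = HJUniq.pt a q j * HJUniq.pt a q i * z := by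
          simpa only [hw] using HJUniq.five_swap hwf hne
        have si : HJUniq.pt a q i * HJUniq.pt a q i = 1 := by simpa only [hw] using hwf.sq ⟨i, hi⟩
        have sj : HJUniq.pt a q j * HJUniq.pt a q j = 1 := by simpa only [hw] using hwf.sq ⟨j, hj⟩
        calc HJUniq.pt a q i * HJUniq.pt a q j * (HJUniq.pt a q i * HJUniq.pt a q j)
            = HJUniq.pt a q i * HJUniq.pt a q j * (HJUniq.pt a q j * HJUniq.pt a q i * z) := by rw [← e]
          _ = HJUniq.pt a q i * (HJUniq.pt a q j * HJUniq.pt a q j) * HJUniq.pt a q i * z := by group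
          _ = z := by rw [sj, mul_one, si, one_mul]
      prod := hprod }
  refine ⟨a, t, q, { toRels := hrels, gen := ?_, card := h.cent }⟩
  exact HJUniq.closure_eq h hwf haC hap htC htpr hqQ hw (hrels.anti 0 1 (by omega) (by omega) (by omega))

end Cfsg.Agent.Lib.J3Order.Outside
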