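import Cfsg.Agent.Lib.J3Order.Local
import Cfsg.Agent.Lib.J3Order.Comb
import Cfsg.Agent.Lib.J1Order.Eigen
import Cfsg.Agent.Lib.H80.ClassMult
import Cfsg.Agent.Lib.BC77.PConj

/-!
# Groups of `J₃` type: the characters on the elements with root `z`, and the order
-/

set_option autoImplicit false
set_option linter.style.haveILetI false

namespace Cfsg.Agent.Lib.J3Order.Values

open Cfsg.Agent.Lib.Characters.Basic Cfsg.Agent.Lib.Characters.Complete
open Cfsg.Agent.Lib.J3Order.Local Cfsg.Agent.Lib.J3Order.Table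
open scoped ComplexConjugate

universe u

theorem dvd_six {n : ℕ} (h : n ∣ 6) (h3 : ¬ n ∣ 3) (h2 : ¬ n ∣ 2) : n = 6 := by
  have := Nat.le_of_dvd (by norm_num) h
  interval_cases n <;> omega

theorem dvd_twelve {n : ℕ} (h : n ∣ 12) (h6 : ¬ n ∣ 6) (h4 : ¬ n ∣ 4) : n = 12 := by
  have := Nat.le_of_dvd (by norm_num) h
  interval_cases n <;> omega

theorem dvd_ten {n : ℕ} (h : n ∣ 10) (h5 : ¬ n ∣ 5) (h2 : ¬ n ∣ 2) : n = 10 := by
  have := Nat.le_of_dvd (by norm_num) h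
  interval_cases n <;> omega

theorem table_facts : sqI 58 = zI ∧ cubeI 257 = zI ∧ sqI 257 ≠ 0 ∧ sqI (cubeI 20) = zI ∧
    sqI (sqI 20) ≠ 0 ∧ sqI (sqI 50) = zI ∧ mulI (sqI (sqI 17)) 17 = zI ∧ sqI 17 ≠ 0 ∧
    mulI (sqI (sqI 113)) 113 = zI ∧ sqI 113 ≠ 0 := by decide +kernel

/-- A geometric sum over roots of unity counts the trivial ones. -/
theorem geom_count {ι : Type*} [Fintype ι] {n : ℕ} (w : ι → ℂ) (hw : ∀ i, w i ^ n = 1) :
    ∃ m : ℤ, ∑ i, ∑ j ∈ Finset.range n, w i ^ j = (n : ℂ) * m := by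
  classical
  refine ⟨(Finset.univ.filter fun i => w i = 1).card, ?_⟩
  have h : ∀ i, ∑ j ∈ Finset.range n, w i ^ j = if w i = 1 then (n : ℂ) else 0 := by
    intro i
    split_ifs with e
    · simp [e]
    · rw [geom_sum_eq e, hw, sub_self, zero_div]
  simp only [h]
  rw [← Finset.sum_filter, Finset.sum_const, nsmul_eq_mul]
  push_cast
  ring

variable {G : Type u} [Group G] {z a t q : G}

/-- The value at a representative. -/
noncomputable def val (a t q : G) (χ : Cfsg.IrrCharacter G) (k : ℕ) : ℂ :=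
  (χ : G → ℂ) (el a t q (rep k))

/-- An integrality: some combination of values is a multiple. -/
theorem eig_int (χ : Cfsg.IrrCharacter G) {g : G} {n : ℕ} (hn : n ≠ 0) (hg : g ^ n = 1) {w : ℂ}
    (hw : w ^ n = 1) : ∃ m : ℤ, ∑ j ∈ Finset.range n, (χ : G → ℂ) (g ^ j) * w ^ j = (n : ℂ) * m := by
  obtain ⟨ι, _, y, hy, hv⟩ := J1Order.Eigen.exists_powers χ g hn hg
  obtain ⟨m, hm⟩ := geom_count (fun i => y i * w) fun i => by rw [mul_pow, hy, hw, one_mul]
  refine ⟨m, hm ▸ ?_⟩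
  simp only [hv, Finset.sum_mul, mul_pow]
  rw [Finset.sum_comm]

theorem pow_val (h : Ctx z a t q) (χ : Cfsg.IrrCharacter G) {x : ℕ} {l : List (ℕ × ℕ × ℕ)}
    {ks : List ℕ} (hl : (checkPow x l && beqL (l.map fun e => e.2.1) ks) = true) :
    el a t q x ^ ks.length = 1 ∧
      ∀ j (hj : j < ks.length), (χ : G → ℂ) (el a t q x ^ j) = val a t q χ ks[j] := by
  simp only [Bool.and_eq_true] at hl
  obtain ⟨-, h1, h2⟩ := h.pow_sound hl.1
  have e := beqL_eq hl.2
  subst e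
  refine ⟨by rw [List.length_map]; exact h1, fun j hj => ?_⟩
  rw [List.getElem_map]
  exact classFunction_apply_of_isConj (isClassFunction_irr χ) (h2 j (by simpa using hj))

theorem list_fiber (F : ℕ → ℂ) : ∀ l : List Ent, (∀ e ∈ l, e.2.1 < 11) →
    (l.map fun e => F e.2.1).sum =
      ∑ k ∈ Finset.range 11, ((l.filter fun e => Nat.beq e.2.1 k).length : ℂ) * F k
  | [], _ => by simp
  | e :: l, hl => by
    rw [List.map_cons, List.sum_cons, list_fiber F l fun x hx => hl x (List.mem_cons_of_mem _ hx)]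
    have hk : ∀ k, (((e :: l).filter fun x => Nat.beq x.2.1 k).length : ℂ) * F k =
        (if e.2.1 = k then F k else 0) + ((l.filter fun x => Nat.beq x.2.1 k).length : ℂ) * F k := by
      intro k
      by_cases hek : e.2.1 = k
      · have : Nat.beq e.2.1 k = true := by rw [hek]; exact Nat.beq_refl k
        rw [List.filter_cons_of_pos (p := fun x : Ent => Nat.beq x.2.1 k) this, if_pos hek]
        simp only [List.length_cons]; push_cast; ring
      · rw [List.filter_cons_of_neg (p := fun x : Ent => Nat.beq x.2.1 k)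
          (fun he => hek (Nat.eq_of_beq_eq_true he)), if_neg hek, zero_add]
    simp only [hk, Finset.sum_add_distrib, Finset.sum_ite_eq,
      Finset.mem_range.2 (hl e (List.mem_cons_self ..)), if_true]

variable [Finite G]

theorem sub_int (h : Ctx z a t q) (χ : Cfsg.IrrCharacter G) {α β : ℕ} {l : List Ent}
    {c0 c1 c2 c3 c4 c5 c6 c7 c8 c9 c10 : ℕ}
    (hl : (checkSub α β l && beqL (counts l) [c0, c1, c2, c3, c4, c5, c6, c7, c8, c9, c10]) = true) :
    ∃ m : ℤ, (c0 : ℂ) * val a t q χ 0 + c1 * val a t q χ 1 + c2 * val a t q χ 2 + c3 * val a t q χ 3 +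
      c4 * val a t q χ 4 + c5 * val a t q χ 5 + c6 * val a t q χ 6 + c7 * val a t q χ 7 +
      c8 * val a t q χ 8 + c9 * val a t q χ 9 + c10 * val a t q χ 10 =
        ((c0 + c1 + c2 + c3 + c4 + c5 + c6 + c7 + c8 + c9 + c10 : ℕ) : ℂ) * m := by
  classical
  letI := Fintype.ofFinite G
  simp only [Bool.and_eq_true] at hl
  obtain ⟨H, hcard, hsum⟩ := h.exists_subgroup hl.1
  obtain ⟨m, hm⟩ := H80.ClassMult.exists_sum_subgroup χ H
  have hk : ∀ e ∈ l, e.2.1 < 11 := by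
    have h' := hl.1
    simp only [checkSub, Bool.and_eq_true, Nat.blt_eq, List.all_eq_true] at h'
    exact fun e he => (h'.2 e he).1.1.2
  have hc := beqL_eq hl.2
  simp only [counts, List.map_cons, List.map_nil, List.cons.injEq, and_true] at hc
  obtain ⟨e0, e1, e2, e3, e4, e5, e6, e7, e8, e9, e10⟩ := hc
  have hs := hsum (fun x => (χ : G → ℂ) x)
    (fun x y hxy => classFunction_apply_of_isConj (isClassFunction_irr χ) hxy)
  change _ = (l.map fun e => val a t q χ e.2.1).sum at hs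
  rw [list_fiber _ l hk] at hs
  have hlen := list_fiber (fun _ => 1) l hk
  simp only [List.map_const', List.sum_replicate, nsmul_eq_mul, mul_one] at hlen
  simp only [Finset.sum_range_succ, Finset.sum_range_zero, zero_add, e0, e1, e2, e3, e4, e5, e6, e7, e8,
    e9, e10] at hs hlen
  refine ⟨(m : ℤ), ?_⟩
  push_cast
  rw [← hlen, ← hcard, ← hm]
  exact hs.symm

/-- Vectors of coefficients of the six functionals, on the kinds `4, …, 10`. -/
noncomputable def coef (x : Data.Row) : Fin 7 → ℂ :=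
  ![((x.c1 : ℂ) * -32 + x.cs * 32 + x.c4 * -48 + x.c5 * 48 + x.c6 * 32 + x.c7 * 32) / 1920,
    ((x.c1 : ℂ) * 8 + x.cs * 8 + x.c4 * 4 + x.c5 * 12 + x.c6 * 8 + x.c7 * -8) / 96,
    ((x.c1 : ℂ) * 4 + x.cs * 8 + x.c6 * -4 + x.c7 * 8) / 24,
    ((x.c1 : ℂ) * 2 + x.cs * -4 + x.c4 * 4 + x.c6 * 2 + x.c7 * 4) / 12,
    ((x.cs : ℂ) * -4 + x.c4 * 2 + x.c5 * 2 + x.c6 * -4) / 8,
    ((x.c1 : ℂ) * -2 + x.cs * 2 + x.c4 * 2 + x.c5 * -2 + x.c6 * 2 + x.c7 * 2) / 10,
    ((x.c1 : ℂ) * -2 + x.cs * 2 + x.c4 * 2 + x.c5 * -2 + x.c6 * 2 + x.c7 * 2) / 10]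

/-- The kinds with root `z`. -/
def rk : Fin 7 → ℕ := ![4, 5, 6, 7, 8, 9, 10]

/-- A functional. -/
noncomputable def L (a t q : G) (χ : Cfsg.IrrCharacter G) (x : Data.Row) : ℂ :=
  ∑ k, coef x k * val a t q χ (rk k)

/-- The row is that of the character. -/
def IsRow (a t q : G) (χ : Cfsg.IrrCharacter G) (r : Data.Row) : Prop :=
  ∀ x : Data.Row, (Data.dot x r : ℂ) = L a t q χ x

theorem isRow_unique {χ : Cfsg.IrrCharacter G} {r r' : Data.Row} (h : IsRow a t q χ r)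
    (h' : IsRow a t q χ r') : r = r' :=
  Data.eq_of_dot fun x => by exact_mod_cast (h x).trans (h' x).symm

theorem isRow_zeta {χ : Cfsg.IrrCharacter G} {r : Data.Row} (h : IsRow a t q χ r) :
    (Data.zeta r : ℂ) = val a t q χ 4 := by
  have e : (Data.dot ⟨-11, -2, -9, 15, 5, 10⟩ r : ℂ) = (Data.zeta r : ℂ) := by
    simp only [Data.dot, Data.zeta]; push_cast; ring
  rw [← e, h]
  simp only [L, coef, rk, Fin.sum_univ_seven, Matrix.cons_val]
  push_cast
  ring

theorem row_data (h : Ctx z a t q) (χ : Cfsg.IrrCharacter G) :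
    ∃ r, IsRow a t q χ r ∧ ∃ m : ℤ, (χ : G → ℂ) 1 - (Data.cong r : ℂ) = 128 * m := by
  obtain ⟨g3x4, q3x4⟩ := sub_int h χ h3x4_check
  obtain ⟨g4x249, q4x249⟩ := sub_int h χ h4x249_check
  obtain ⟨g4x493, q4x493⟩ := sub_int h χ h4x493_check
  obtain ⟨g1x703, q1x703⟩ := sub_int h χ h1x703_check
  obtain ⟨g0x17, q0x17⟩ := sub_int h χ h0x17_check
  obtain ⟨g0x50, q0x50⟩ := sub_int h χ h0x50_check
  obtain ⟨g0x20, q0x20⟩ := sub_int h χ h0x20_check
  obtain ⟨g6x1023, q6x1023⟩ := sub_int h χ h6x1023_check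
  obtain ⟨g3x58, q3x58⟩ := sub_int h χ h3x58_check
  obtain ⟨g3x290, q3x290⟩ := sub_int h χ h3x290_check
  obtain ⟨g3x22, q3x22⟩ := sub_int h χ h3x22_check
  obtain ⟨g4x57, q4x57⟩ := sub_int h χ h4x57_check
  obtain ⟨g4x107, q4x107⟩ := sub_int h χ h4x107_check
  obtain ⟨g3x237, q3x237⟩ := sub_int h χ h3x237_check
  obtain ⟨g4x235, q4x235⟩ := sub_int h χ h4x235_check
  obtain ⟨g3x107, q3x107⟩ := sub_int h χ h3x107_check
  obtain ⟨g0x1, q0x1⟩ := sub_int h χ h0x1_check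
  -- eigenvalues of the elements of order eight and twelve
  obtain ⟨w8, hw8⟩ := IsAlgClosed.exists_pow_nat_eq (-1 : ℂ) (show 0 < 4 by norm_num)
  obtain ⟨r3, hr3⟩ := IsAlgClosed.exists_pow_nat_eq (-3 : ℂ) (show 0 < 2 by norm_num)
  set w6 : ℂ := (1 + r3) / 2 with hw6def
  have hw6 : w6 ^ 2 - w6 + 1 = 0 := by rw [hw6def]; linear_combination hr3 / 4
  obtain ⟨w12, hw12⟩ := IsAlgClosed.exists_pow_nat_eq w6 (show 0 < 2 by norm_num)
  have hw66 : w6 ^ 3 = -1 := by linear_combination (w6 + 1) * hw6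
  obtain ⟨hp8, hv8⟩ := pow_val h χ p50_check
  obtain ⟨hp12, hv12⟩ := pow_val h χ p20_check
  obtain ⟨e8, E8⟩ := eig_int χ (n := 8) (by norm_num) hp8 (w := w8) (by
    linear_combination (w8 ^ 4 - 1) * hw8)
  obtain ⟨e12, E12⟩ := eig_int χ (n := 12) (by norm_num) hp12 (w := w12) (by
    rw [show 12 = 2 * 6 by rfl, pow_mul, hw12]; linear_combination (w6 ^ 3 - 1) * hw66)
  obtain ⟨f12, F12⟩ := eig_int χ (n := 12) (by norm_num) hp12 (w := w6) (by
    linear_combination (w6 ^ 3 - 1) * (w6 ^ 6 + 1) * hw66)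
  simp only [Finset.sum_range_succ, Finset.sum_range_zero, zero_add] at E8 E12 F12
  rw [hv8 0 (by simp), hv8 1 (by simp), hv8 2 (by simp), hv8 3 (by simp), hv8 4 (by simp), hv8 5 (by simp),
    hv8 6 (by simp), hv8 7 (by simp)] at E8
  rw [hv12 0 (by simp), hv12 1 (by simp), hv12 2 (by simp), hv12 3 (by simp), hv12 4 (by simp),
    hv12 5 (by simp), hv12 6 (by simp), hv12 7 (by simp), hv12 8 (by simp), hv12 9 (by simp),
    hv12 10 (by simp), hv12 11 (by simp)] at E12 F12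
  simp only [List.getElem_cons_zero, List.getElem_cons_succ] at E8 E12 F12
  have hd : (χ : G → ℂ) 1 = val a t q χ 0 := rfl
  push_cast at q3x4 q4x249 q4x493 q1x703 q0x17 q0x50 q0x20 q6x1023 q3x58 q3x290 q3x22 q4x57 q4x107 q3x237 q4x235 q3x107 q0x1
  generalize n0 : val a t q χ 0 = d at *
  generalize n1 : val a t q χ 1 = f1 at *
  generalize n2 : val a t q χ 2 = f4 at *
  generalize n3 : val a t q χ 3 = b at *
  generalize n5 : val a t q χ 5 = vq at *
  generalize n6 : val a t q χ 6 = v6 at *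
  generalize n7 : val a t q χ 7 = v12 at *
  generalize n8 : val a t q χ 8 = v8 at *
  generalize n9 : val a t q χ 9 = t6 at *
  generalize n10 : val a t q χ 10 = t12 at *
  generalize n4 : val a t q χ 4 = vz at *
  have A8 : d - vz = 8 * (e8 : ℂ) := by
    linear_combination E8 - (v8 * (w8 + w8 ^ 3) + vq * w8 ^ 2 + vz) * hw8
  have A12 : d - vz - b + v6 = 12 * (e12 : ℂ) := by
    rw [show w12 ^ 2 = w6 from hw12, show w12 ^ 3 = w12 * w6 by rw [← hw12]; ring,
      show w12 ^ 4 = w6 ^ 2 by rw [← hw12]; ring, show w12 ^ 5 = w12 * w6 ^ 2 by rw [← hw12]; ring,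
      show w12 ^ 6 = w6 ^ 3 by rw [← hw12]; ring, show w12 ^ 7 = w12 * w6 ^ 3 by rw [← hw12]; ring,
      show w12 ^ 8 = w6 ^ 4 by rw [← hw12]; ring, show w12 ^ 9 = w12 * w6 ^ 4 by rw [← hw12]; ring,
      show w12 ^ 10 = w6 ^ 5 by rw [← hw12]; ring, show w12 ^ 11 = w12 * w6 ^ 5 by rw [← hw12]; ring]
      at E12
    push_cast at E12
    linear_combination E12 - (v12 * w12 * (1 + w6 ^ 2) + vq * w12 * w6 + vz) * hw66
      - (b * w6 + v6 * w6 ^ 2) * hw66 - (b - v6) * hw6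
  have B12 : d + vz - 2 * vq - b - v6 + 2 * v12 = 12 * (f12 : ℂ) := by
    push_cast at F12
    linear_combination F12 - (v12 * (w6 ^ 2 + w6 ^ 4 + w6 ^ 8 - w6 - w6 ^ 5 + w6 ^ 2) +
      v6 * (w6 ^ 7 - w6 ^ 4 + w6) + b * (w6 ^ 5 - w6 ^ 2 + w6) + vq * (1 + w6 ^ 6 - w6 ^ 3 + 1) +
      vz * (w6 ^ 3 - 1)) * hw66 - (-v12 * 2 + v6 + b) * hw6
  refine ⟨⟨-g3x4 + e8 + e12 + g3x237 + g1x703 - g0x17,
    g4x249 + g4x493 - g1x703 + g0x17 - g0x50 - g0x20,
    -e8 + g6x1023 + f12 - g3x58 + g3x290 - g1x703 + g0x17,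
    -g3x22 + g4x57 - g0x17 + g1x703,
    f12 + g4x249 - g0x50 - e12 + g0x17 - g1x703,
    -e8 + g4x107 + f12 + g0x17 - g1x703⟩, fun x => ?_,
    2 * g4x57 - e12 - g4x235 - 2 * g0x17 - g3x107 + g0x1, ?_⟩
  · simp only [L, coef, rk, Fin.sum_univ_seven, Matrix.cons_val, Data.dot, n4, n5, n6, n7, n8, n9, n10]
    push_cast
    linear_combination (x.c1 : ℂ) * (q3x4 / 4 - A8 / 8 - A12 / 12 - q3x237 / 24 - q1x703 / 10 + q0x17 / 10)
      + (x.cs : ℂ) * (-q4x249 / 8 - q4x493 / 12 + q1x703 / 10 - q0x17 / 10 + q0x50 / 8 + q0x20 / 12)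
      + (x.c4 : ℂ) * (A8 / 8 - q6x1023 / 24 - B12 / 12 + q3x58 / 16 - q3x290 / 16 + q1x703 / 10 - q0x17 / 10)
      + (x.c5 : ℂ) * (q3x22 / 16 - q4x57 / 16 + q0x17 / 10 - q1x703 / 10)
      + (x.c6 : ℂ) * (-B12 / 12 - q4x249 / 8 + q0x50 / 8 + A12 / 12 - q0x17 / 10 + q1x703 / 10)
      + (x.c7 : ℂ) * (A8 / 8 - q4x107 / 24 - B12 / 12 - q0x17 / 10 + q1x703 / 10)
  · simp only [Data.cong]
    push_cast
    rw [hd]
    linear_combination
      128 * (2 * q4x57 / 16 - A12 / 12 - q4x235 / 32 - 2 * q0x17 / 10 - q3x107 / 384 + q0x1 / 5)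
      + 5 * (-q3x4 / 4 + A8 / 8 + A12 / 12 + q3x237 / 24 + q1x703 / 10 - q0x17 / 10)
      + 110 * (q4x249 / 8 + q4x493 / 12 - q1x703 / 10 + q0x17 / 10 - q0x50 / 8 - q0x20 / 12)
      + 7 * (-A8 / 8 + q6x1023 / 24 + B12 / 12 - q3x58 / 16 + q3x290 / 16 - q1x703 / 10 + q0x17 / 10)
      + 63 * (-q3x22 / 16 + q4x57 / 16 - q0x17 / 10 + q1x703 / 10)
      + 85 * (B12 / 12 + q4x249 / 8 - q0x50 / 8 - A12 / 12 + q0x17 / 10 - q1x703 / 10)
      + 122 * (-A8 / 8 + q4x107 / 24 + B12 / 12 + q0x17 / 10 - q1x703 / 10)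

/-- A Galois stable character has an even second coordinate. -/
theorem row_even (h : Ctx z a t q) (χ : Cfsg.IrrCharacter G) {r : Data.Row} (hr : IsRow a t q χ r)
    (h12 : val a t q χ 1 = val a t q χ 2) (h910 : val a t q χ 9 = val a t q χ 10) : r.cs % 2 = 0 := by
  obtain ⟨g3x22, q3x22⟩ := sub_int h χ h3x22_check
  obtain ⟨g4x57, q4x57⟩ := sub_int h χ h4x57_check
  obtain ⟨r3, hr3⟩ := IsAlgClosed.exists_pow_nat_eq (-3 : ℂ) (show 0 < 2 by norm_num)
  set w6 : ℂ := (1 + r3) / 2 with hw6def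
  have hw6 : w6 ^ 2 - w6 + 1 = 0 := by rw [hw6def]; linear_combination hr3 / 4
  obtain ⟨w12, hw12⟩ := IsAlgClosed.exists_pow_nat_eq w6 (show 0 < 2 by norm_num)
  have hw66 : w6 ^ 3 = -1 := by linear_combination (w6 + 1) * hw6
  obtain ⟨hp12, hv12⟩ := pow_val h χ p20_check
  obtain ⟨hp10, hv10⟩ := pow_val h χ p113_check
  obtain ⟨hp5, hv5⟩ := pow_val h χ p1_check
  set ρ := J1Order.Eigen.rho
  have hρ5 : ρ ^ 5 = 1 := J1Order.Eigen.rho_prim.pow_eq_one
  have hgeo : 1 + ρ + ρ ^ 2 + ρ ^ 3 + ρ ^ 4 = 0 := by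
    have := J1Order.Eigen.rho_prim.geom_sum_eq_zero (by norm_num)
    simp only [Finset.sum_range_succ, Finset.sum_range_zero, zero_add, pow_zero, pow_one] at this
    linear_combination this
  obtain ⟨e12, E12⟩ := eig_int χ (n := 12) (by norm_num) hp12 (w := w12) (by
    rw [show 12 = 2 * 6 by rfl, pow_mul, hw12]; linear_combination (w6 ^ 3 - 1) * hw66)
  obtain ⟨f12, F12⟩ := eig_int χ (n := 12) (by norm_num) hp12 (w := w6) (by
    linear_combination (w6 ^ 3 - 1) * (w6 ^ 6 + 1) * hw66)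
  obtain ⟨e10, E10⟩ := eig_int χ (n := 10) (by norm_num) hp10 (w := -ρ) (by
    linear_combination (ρ ^ 5 + 1) * hρ5)
  obtain ⟨e5, E5⟩ := eig_int χ (n := 5) (by norm_num) hp5 (w := ρ) hρ5
  simp only [Finset.sum_range_succ, Finset.sum_range_zero, zero_add] at E12 F12 E10 E5
  rw [hv12 0 (by simp), hv12 1 (by simp), hv12 2 (by simp), hv12 3 (by simp), hv12 4 (by simp),
    hv12 5 (by simp), hv12 6 (by simp), hv12 7 (by simp), hv12 8 (by simp), hv12 9 (by simp),
    hv12 10 (by simp), hv12 11 (by simp)] at E12 F12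
  rw [hv10 0 (by simp), hv10 1 (by simp), hv10 2 (by simp), hv10 3 (by simp), hv10 4 (by simp),
    hv10 5 (by simp), hv10 6 (by simp), hv10 7 (by simp), hv10 8 (by simp), hv10 9 (by simp)] at E10
  rw [hv5 0 (by simp), hv5 1 (by simp), hv5 2 (by simp), hv5 3 (by simp), hv5 4 (by simp)] at E5
  simp only [List.getElem_cons_zero, List.getElem_cons_succ] at E12 F12 E10 E5
  have hs : (r.cs : ℂ) = L a t q χ ⟨0, 1, 0, 0, 0, 0⟩ := by
    rw [← hr]; simp [Data.dot]
  simp only [L, coef, rk, Fin.sum_univ_seven, Matrix.cons_val] at hs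
  push_cast at q3x22 q4x57 hs E12 F12 E10 E5
  rw [← h12] at q3x22 q4x57 E10 E5
  rw [← h910] at q3x22 q4x57 E10 hs
  generalize val a t q χ 0 = d at *
  generalize val a t q χ 1 = f at *
  generalize val a t q χ 3 = b at *
  generalize val a t q χ 5 = vq at *
  generalize val a t q χ 6 = v6 at *
  generalize val a t q χ 7 = v12 at *
  generalize val a t q χ 8 = v8 at *
  generalize val a t q χ 9 = t6 at *
  generalize val a t q χ 4 = vz at *
  have A12 : d - vz - b + v6 = 12 * (e12 : ℂ) := by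
    rw [show w12 ^ 2 = w6 from hw12, show w12 ^ 3 = w12 * w6 by rw [← hw12]; ring,
      show w12 ^ 4 = w6 ^ 2 by rw [← hw12]; ring, show w12 ^ 5 = w12 * w6 ^ 2 by rw [← hw12]; ring,
      show w12 ^ 6 = w6 ^ 3 by rw [← hw12]; ring, show w12 ^ 7 = w12 * w6 ^ 3 by rw [← hw12]; ring,
      show w12 ^ 8 = w6 ^ 4 by rw [← hw12]; ring, show w12 ^ 9 = w12 * w6 ^ 4 by rw [← hw12]; ring,
      show w12 ^ 10 = w6 ^ 5 by rw [← hw12]; ring, show w12 ^ 11 = w12 * w6 ^ 5 by rw [← hw12]; ring]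
      at E12
    linear_combination E12 - (v12 * w12 * (1 + w6 ^ 2) + vq * w12 * w6 + vz) * hw66
      - (b * w6 + v6 * w6 ^ 2) * hw66 - (b - v6) * hw6
  have B12 : d + vz - 2 * vq - b - v6 + 2 * v12 = 12 * (f12 : ℂ) := by
    linear_combination F12 - (v12 * (w6 ^ 2 + w6 ^ 4 + w6 ^ 8 - w6 - w6 ^ 5 + w6 ^ 2) +
      v6 * (w6 ^ 7 - w6 ^ 4 + w6) + b * (w6 ^ 5 - w6 ^ 2 + w6) + vq * (1 + w6 ^ 6 - w6 ^ 3 + 1) +
      vz * (w6 ^ 3 - 1)) * hw66 - (-v12 * 2 + v6 + b) * hw6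
  have A10 : d - vz - f + t6 = 10 * (e10 : ℂ) := by
    linear_combination E10 - (f * (ρ + ρ ^ 3) - t6 * (ρ ^ 2 + ρ ^ 4) - vz) * hρ5 - (f - t6) * hgeo
  have A5 : d - f = 5 * (e5 : ℂ) := by
    linear_combination E5 - f * hgeo
  have key : r.cs = 2 * (-f12 + g3x22 - g4x57 + e12 + 2 * e10 - e5) := by
    apply Int.cast_injective (α := ℂ)
    push_cast
    rw [hs]
    linear_combination 2 * (-B12 / 12 + q3x22 / 16 - q4x57 / 16 + A12 / 12 + 2 * A10 / 10 - A5 / 5)
  omega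

section Local

variable (h : Ctx z a t q)
include h

theorem root_facts :
    (el a t q (rep 4) = z) ∧ (el a t q (rep 5) ^ 2 = z) ∧
      (el a t q (rep 6) ^ 3 = z ∧ el a t q (rep 6) ^ 2 ≠ 1) ∧
      (el a t q (rep 7) ^ 6 = z ∧ el a t q (rep 7) ^ 4 ≠ 1) ∧ (el a t q (rep 8) ^ 4 = z) ∧
      (el a t q (rep 9) ^ 5 = z ∧ el a t q (rep 9) ^ 2 ≠ 1) ∧
      (el a t q (rep 10) ^ 5 = z ∧ el a t q (rep 10) ^ 2 ≠ 1) := by
  obtain ⟨a1, a2, a3, a4, a5, a6, a7, a8, a9, a10⟩ := table_facts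
  have hz := h.el_z
  have h58 := (h.el_sq (show 58 < 1920 by omega)).2
  have h257c := (h.el_cube (show 257 < 1920 by omega)).2
  have h20s := (h.el_six (show 20 < 1920 by omega)).2
  have h50 := (h.el_four (show 50 < 1920 by omega)).2
  rw [a1, hz] at h58; rw [a2, hz] at h257c; rw [a4, hz] at h20s; rw [a6, hz] at h50
  have five : ∀ i, i < 1920 → mulI (sqI (sqI i)) i = zI → el a t q i ^ 5 = z := fun i hi e => by
    rw [pow_succ, ← (h.el_four hi).2, (h.el_mul (h.el_four hi).1 hi).2, e, hz]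
  have ne2 : ∀ i, i < 1920 → sqI i ≠ 0 → el a t q i ^ 2 ≠ 1 := fun i hi e e' =>
    e ((h.el_eq_one (h.el_sq hi).1).1 ((h.el_sq hi).2.trans e'))
  exact ⟨hz, h58.symm, ⟨h257c.symm, ne2 257 (by omega) a3⟩,
    ⟨h20s.symm, fun e => a5 ((h.el_eq_one (h.el_four (show 20 < 1920 by omega)).1).1
      ((h.el_four (show 20 < 1920 by omega)).2.trans e))⟩, h50.symm,
    ⟨five 17 (by omega) a7, ne2 17 (by omega) a8⟩, five 113 (by omega) a9, ne2 113 (by omega) a10⟩

/-- Powers prime to six of the rational representatives are conjugate to them. -/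
theorem rational {k : ℕ} (hk : 4 ≤ k ∧ k ≤ 8) {e : ℕ} (h2 : e % 2 = 1) (h3 : e % 3 ≠ 0) :
    IsConj (el a t q (rep k) ^ e) (el a t q (rep k)) := by
  obtain ⟨r4, r5, ⟨r6, r6'⟩, ⟨r7, r7'⟩, r8, -, -⟩ := root_facts h
  have hzz : z ^ 2 = 1 := by rw [← h.ord, pow_orderOf_eq_one]
  have hze : z ^ e = z := by rw [pow_eq_pow_mod e hzz, h2, pow_one]
  have hz1 : z ≠ 1 := fun e' => by have := h.ord; rw [e', orderOf_one] at this; omega
  obtain ⟨hk1, hk2⟩ := hk
  interval_cases k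
  · exact h.kind_four (by rw [r4, hze, hzz]) (by rw [r4, hze]; exact hz1)
  · refine h.kind_five ?_ ?_
    · rw [show (4 : ℕ) = 2 * 2 from rfl, pow_mul, ← pow_mul _ e 2, mul_comm e, pow_mul, r5, hze, hzz]
    · rw [← pow_mul _ e 2, mul_comm e, pow_mul, r5, hze]; exact hz1
  · have e3 : (el a t q (rep 6) ^ e) ^ 3 = z := by rw [← pow_mul, mul_comm e, pow_mul, r6, hze]
    refine h.kind_six (by rw [show (6 : ℕ) = 3 * 2 from rfl, pow_mul, e3, hzz]) (e3 ▸ hz1) fun e' => r6' ?_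
    have h6 : el a t q (rep 6) ^ 6 = 1 := by rw [show (6 : ℕ) = 3 * 2 from rfl, pow_mul, r6, hzz]
    rw [← pow_mul] at e'
    have hd : orderOf (el a t q (rep 6)) ∣ Nat.gcd 6 (e * 2) :=
      Nat.dvd_gcd (orderOf_dvd_of_pow_eq_one h6) (orderOf_dvd_of_pow_eq_one e')
    have hg : Nat.gcd 6 (e * 2) = 2 := by
      rw [mul_comm e, show (6 : ℕ) = 2 * 3 from rfl, Nat.gcd_mul_left,
        (Nat.prime_three.coprime_iff_not_dvd.2 (fun hd => h3 (Nat.mod_eq_zero_of_dvd hd))).gcd_eq_one]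
    rw [hg] at hd
    exact orderOf_dvd_iff_pow_eq_one.1 hd
  · have e6 : (el a t q (rep 7) ^ e) ^ 6 = z := by rw [← pow_mul, mul_comm e, pow_mul, r7, hze]
    refine h.kind_seven (by rw [show (12 : ℕ) = 6 * 2 from rfl, pow_mul, e6, hzz]) (e6 ▸ hz1) fun e' => r7' ?_
    have h12 : el a t q (rep 7) ^ 12 = 1 := by rw [show (12 : ℕ) = 6 * 2 from rfl, pow_mul, r7, hzz]
    rw [← pow_mul] at e'
    have hd : orderOf (el a t q (rep 7)) ∣ Nat.gcd 12 (e * 4) :=
      Nat.dvd_gcd (orderOf_dvd_of_pow_eq_one h12) (orderOf_dvd_of_pow_eq_one e')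
    have hg : Nat.gcd 12 (e * 4) = 4 := by
      rw [mul_comm e, show (12 : ℕ) = 4 * 3 from rfl, Nat.gcd_mul_left,
        (Nat.prime_three.coprime_iff_not_dvd.2 (fun hd => h3 (Nat.mod_eq_zero_of_dvd hd))).gcd_eq_one]
    rw [hg] at hd
    exact orderOf_dvd_iff_pow_eq_one.1 hd
  · have e4 : (el a t q (rep 8) ^ e) ^ 4 = z := by rw [← pow_mul, mul_comm e, pow_mul, r8, hze]
    exact h.kind_eight (by rw [show (8 : ℕ) = 4 * 2 from rfl, pow_mul, e4, hzz]) (e4 ▸ hz1)

theorem root_order (i : Fin 7) : orderOf (el a t q (rep (rk i))) = ![2, 4, 6, 12, 8, 10, 10] i := by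
  obtain ⟨r4, r5, ⟨r6, r6'⟩, ⟨r7, r7'⟩, r8, ⟨r9, r9'⟩, r10, r10'⟩ := root_facts h
  haveI : Fact (Nat.Prime 2) := ⟨Nat.prime_two⟩
  have hzz : z ^ 2 = 1 := by rw [← h.ord, pow_orderOf_eq_one]
  have hz1 : z ≠ 1 := fun e' => by have := h.ord; rw [e', orderOf_one] at this; omega
  have dv : ∀ {x : G} {n m : ℕ}, x ^ n = z → m ∣ n → ¬ orderOf x ∣ m := fun {x n m} e hm hd =>
    hz1 (e ▸ orderOf_dvd_iff_pow_eq_one.1 (hd.trans hm))
  have up : ∀ {x : G} {n : ℕ}, x ^ n = z → orderOf x ∣ n * 2 := fun {x n} e =>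
    orderOf_dvd_of_pow_eq_one (by rw [pow_mul, e, hzz])
  fin_cases i <;> simp only [rk, Fin.reduceFinMk, Fin.zero_eta, Fin.mk_one, Matrix.cons_val]
  · show orderOf (el a t q (rep 4)) = 2
    rw [r4, h.ord]
  · exact orderOf_eq_prime_pow (p := 2) (n := 1) (by rw [pow_one, r5]; exact hz1)
      (by rw [pow_succ, pow_one, pow_mul, r5, hzz])
  · exact dvd_six (up r6) (dv r6 dvd_rfl) fun hd => r6' (orderOf_dvd_iff_pow_eq_one.1 hd)
  · exact dvd_twelve (up r7) (dv r7 dvd_rfl) fun hd => r7' (orderOf_dvd_iff_pow_eq_one.1 hd)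
  · exact orderOf_eq_prime_pow (p := 2) (n := 2) (by norm_num [r8, hz1])
      (by rw [show 2 ^ (2 + 1) = 4 * 2 by rfl, pow_mul, r8, hzz])
  · exact dvd_ten (up r9) (dv r9 dvd_rfl) fun hd => r9' (orderOf_dvd_iff_pow_eq_one.1 hd)
  · exact dvd_ten (up r10) (dv r10 dvd_rfl) fun hd => r10' (orderOf_dvd_iff_pow_eq_one.1 hd)

theorem root_real (i : Fin 7) : IsConj (el a t q (rep (rk i))) (el a t q (rep (rk i)))⁻¹ := by
  have ho := root_order h i
  have hinv : ∀ {x : G} {n : ℕ}, orderOf x = n + 1 → x⁻¹ = x ^ n := fun {x n} e =>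
    (eq_inv_of_mul_eq_one_left (by rw [← pow_succ, ← e, pow_orderOf_eq_one])).symm
  fin_cases i <;> simp only [rk, Fin.reduceFinMk, Fin.zero_eta, Fin.mk_one, Matrix.cons_val] at ho ⊢
  · rw [hinv (n := 1) ho]; exact (rational h ⟨le_rfl, by omega⟩ rfl (by omega)).symm
  · rw [hinv (n := 3) ho, show el a t q (rep 5) ^ 3 = (el a t q (rep 5) ^ 7) by
      conv_rhs => rw [show 7 = 4 + 3 by rfl, pow_add, ← ho, pow_orderOf_eq_one, one_mul]]
    exact (rational h ⟨by omega, by omega⟩ rfl (by omega)).symm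
  · rw [hinv (n := 5) ho]; exact (rational h ⟨by omega, by omega⟩ rfl (by omega)).symm
  · rw [hinv (n := 11) ho]; exact (rational h ⟨by omega, by omega⟩ rfl (by omega)).symm
  · rw [hinv (n := 7) ho]; exact (rational h ⟨by omega, le_rfl⟩ rfl (by omega)).symm
  · rw [hinv (n := 9) ho]
    exact ((h.pow_sound (Bool.and_eq_true_iff.1 p17_check).1).2.2 9 (by decide)).symm
  · rw [hinv (n := 9) ho]
    exact ((h.pow_sound (Bool.and_eq_true_iff.1 p113_check).1).2.2 9 (by decide)).symm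

attribute [local irreducible] centCount pairCount in
theorem root_cent (i : Fin 7) :
    Nat.card (Subgroup.centralizer ({el a t q (rep (rk i))} : Set G)) =
      ![1920, 96, 24, 12, 8, 10, 10] i ∧
    Nat.card {y : G // y ≠ 1 ∧ y * y = 1 ∧ y * el a t q (rep (rk i)) ≠ 1 ∧
      y * el a t q (rep (rk i)) * (y * el a t q (rep (rk i))) = 1} =
      ![130, 28, 12, 12, 8, 10, 10] i := by
  obtain ⟨r4, r5, ⟨r6, -⟩, ⟨r7, -⟩, r8, ⟨r9, -⟩, r10, -⟩ := root_facts h
  fin_cases i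
  · obtain ⟨ec, ep⟩ := Bool.and_eq_true_iff.1 local1015_check
    exact ⟨(h.card_cent (x := 1015) (m := 1) (by omega) (show el a t q 1015 ^ 1 = z by rw [pow_one]; exact r4)).trans (Nat.eq_of_beq_eq_true ec),
      (h.card_pairs (x := 1015) (m := 1) (by omega) (show el a t q 1015 ^ 1 = z by rw [pow_one]; exact r4)).trans (Nat.eq_of_beq_eq_true ep)⟩
  · obtain ⟨ec, ep⟩ := Bool.and_eq_true_iff.1 local58_check
    exact ⟨(h.card_cent (x := 58) (m := 2) (by omega) r5).trans (Nat.eq_of_beq_eq_true ec),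
      (h.card_pairs (x := 58) (m := 2) (by omega) r5).trans (Nat.eq_of_beq_eq_true ep)⟩
  · obtain ⟨ec, ep⟩ := Bool.and_eq_true_iff.1 local257_check
    exact ⟨(h.card_cent (x := 257) (m := 3) (by omega) r6).trans (Nat.eq_of_beq_eq_true ec),
      (h.card_pairs (x := 257) (m := 3) (by omega) r6).trans (Nat.eq_of_beq_eq_true ep)⟩
  · obtain ⟨ec, ep⟩ := Bool.and_eq_true_iff.1 local20_check
    exact ⟨(h.card_cent (x := 20) (m := 6) (by omega) r7).trans (Nat.eq_of_beq_eq_true ec),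
      (h.card_pairs (x := 20) (m := 6) (by omega) r7).trans (Nat.eq_of_beq_eq_true ep)⟩
  · obtain ⟨ec, ep⟩ := Bool.and_eq_true_iff.1 local50_check
    exact ⟨(h.card_cent (x := 50) (m := 4) (by omega) r8).trans (Nat.eq_of_beq_eq_true ec),
      (h.card_pairs (x := 50) (m := 4) (by omega) r8).trans (Nat.eq_of_beq_eq_true ep)⟩
  · obtain ⟨ec, ep⟩ := Bool.and_eq_true_iff.1 local17_check
    exact ⟨(h.card_cent (x := 17) (m := 5) (by omega) r9).trans (Nat.eq_of_beq_eq_true ec),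
      (h.card_pairs (x := 17) (m := 5) (by omega) r9).trans (Nat.eq_of_beq_eq_true ep)⟩
  · obtain ⟨ec, ep⟩ := Bool.and_eq_true_iff.1 local113_check
    exact ⟨(h.card_cent (x := 113) (m := 5) (by omega) r10).trans (Nat.eq_of_beq_eq_true ec),
      (h.card_pairs (x := 113) (m := 5) (by omega) r10).trans (Nat.eq_of_beq_eq_true ep)⟩

theorem root_inj (i j : Fin 7) (hc : IsConj (el a t q (rep (rk i))) (el a t q (rep (rk j)))) : i = j := by
  have ho : orderOf (el a t q (rep (rk i))) = orderOf (el a t q (rep (rk j))) := by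
    obtain ⟨g, hg⟩ := isConj_iff.1 hc
    rw [← hg, Cfsg.Agent.Lib.Involutions.Basic.orderOf_conj_eq]
  rw [root_order h, root_order h] at ho
  obtain ⟨-, -, -, -, -, ⟨r9, -⟩, r10, -⟩ := root_facts h
  fin_cases i <;> fin_cases j <;> first
    | rfl
    | (exfalso; exact h.tens_not_conj r9 r10 hc)
    | (exfalso; exact h.tens_not_conj r9 r10 hc.symm)
    | (exfalso; revert ho; decide)

theorem val_inv (χ : Cfsg.IrrCharacter G) (i : Fin 7) :
    (χ : G → ℂ) (el a t q (rep (rk i)))⁻¹ = val a t q χ (rk i) :=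
  (classFunction_apply_of_isConj (isClassFunction_irr χ) (root_real h i)).symm

variable [Fintype (Cfsg.IrrCharacter G)]

theorem orth (M N : Fin 7 → ℂ) :
    ∑ χ : Cfsg.IrrCharacter G, (∑ k, M k * val a t q χ (rk k)) * (∑ k, N k * val a t q χ (rk k)) =
      1920 * M 0 * N 0 + 96 * M 1 * N 1 + 24 * M 2 * N 2 + 12 * M 3 * N 3 + 8 * M 4 * N 4 +
        10 * M 5 * N 5 + 10 * M 6 * N 6 := by
  classical
  have horth : ∀ k l : Fin 7, ∑ χ : Cfsg.IrrCharacter G, val a t q χ (rk k) * val a t q χ (rk l) =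
      if k = l then ((![1920, 96, 24, 12, 8, 10, 10] k : ℕ) : ℂ) else 0 := by
    intro k l
    have h' := sum_irr_mul_conj (el a t q (rep (rk k))) (el a t q (rep (rk l)))
    simp only [← apply_inv (isCharacter_irr _), val_inv h] at h'
    rw [← (root_cent h k).1]
    refine h'.trans (if_congr ⟨fun hc => root_inj h k l hc, fun hkl => hkl ▸ IsConj.refl _⟩ rfl rfl)
  simp only [Finset.sum_mul_sum]
  rw [Finset.sum_comm]
  simp_rw [Finset.sum_comm (γ := Cfsg.IrrCharacter G) (α := Fin 7), mul_mul_mul_comm, ← Finset.mul_sum, horth]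
  simp [Fin.sum_univ_seven]
  ring

theorem orth_one (x : Data.Row) : ∑ χ : Cfsg.IrrCharacter G, (χ : G → ℂ) 1 * L a t q χ x = 0 := by
  classical
  have hne : ∀ k : Fin 7, el a t q (rep (rk k)) ≠ 1 := fun k e => by
    have := root_order h k
    rw [e, orderOf_one] at this
    fin_cases k <;> simp at this
  simp only [L, Finset.mul_sum, val, mul_left_comm _ (coef x _)]
  rw [Finset.sum_comm]
  simp only [← Finset.mul_sum, sum_degree_mul_apply, hne, if_false, mul_zero, Finset.sum_const_zero]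

/-- The class multiplication equation. -/
theorem class_equation {g : G} {M : ℕ}
    (hM : Nat.card {x : G // x ≠ 1 ∧ x * x = 1 ∧ x * g ≠ 1 ∧ x * g * (x * g) = 1} = M) :
    (Nat.card G : ℂ) * ∑ χ : Cfsg.IrrCharacter G,
      (χ : G → ℂ) g⁻¹ * (χ : G → ℂ) z ^ 2 / (χ : G → ℂ) 1 = M * 3686400 := by
  classical
  letI := Fintype.ofFinite G
  have hG : (Nat.card G : ℂ) ≠ 0 := Nat.cast_ne_zero.2 Nat.card_pos.ne'
  have hzz : z * z = 1 := by rw [← pow_two, ← h.ord, pow_orderOf_eq_one]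
  have hz1 : z ≠ 1 := fun e' => by have := h.ord; rw [e', orderOf_one] at this; omega
  have hinv : ∀ a : G, (a * z * a⁻¹) * (a * z * a⁻¹) = 1 := fun a => by
    calc (a * z * a⁻¹) * (a * z * a⁻¹) = a * (z * z) * a⁻¹ := by group
      _ = 1 := by rw [hzz]; group
  have hne : ∀ a : G, a * z * a⁻¹ ≠ 1 := fun a e => hz1 (conj_eq_one_iff.1 e)
  have hfib : ∀ x : G, x ≠ 1 → x * x = 1 →
      (Finset.univ.filter fun a : G => a * z * a⁻¹ = x).card = 1920 := by
    intro x hx1 hxx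
    obtain ⟨c, hc⟩ := isConj_iff.1 (h.hone z x h.ord (orderOf_eq_prime (by rw [pow_two, hxx]) hx1))
    rw [← h.card, ← Fintype.card_subtype, ← Nat.card_eq_fintype_card]
    refine Nat.card_congr
      { toFun := fun a => ⟨c⁻¹ * a.1, ?_⟩
        invFun := fun k => ⟨c * k.1, ?_⟩
        left_inv := fun a => Subtype.ext (mul_inv_cancel_left _ _)
        right_inv := fun k => Subtype.ext (inv_mul_cancel_left _ _) }
    · rw [Subgroup.mem_centralizer_singleton_iff]
      calc c⁻¹ * a.1 * z = c⁻¹ * (a.1 * z * a.1⁻¹) * a.1 := by group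
        _ = c⁻¹ * (c * z * c⁻¹) * a.1 := by rw [a.2, hc]
        _ = _ := by group
    · have hk := Subgroup.mem_centralizer_singleton_iff.1 k.2
      calc c * k.1 * z * (c * k.1)⁻¹ = c * (k.1 * z) * k.1⁻¹ * c⁻¹ := by group
        _ = c * (z * k.1) * k.1⁻¹ * c⁻¹ := by rw [hk]
        _ = c * z * c⁻¹ := by group
        _ = x := hc
  set X : Finset G := Finset.univ.filter fun x => x ≠ 1 ∧ x * x = 1 ∧ x * g ≠ 1 ∧ x * g * (x * g) = 1 with hX
  have hXc : X.card = M := by rw [hX, ← Fintype.card_subtype, ← Nat.card_eq_fintype_card, hM]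
  have hcount : ∑ a : G, ∑ b : G, (if g⁻¹ * (a * z * a⁻¹) * (b * z * b⁻¹) = 1 then (1 : ℂ) else 0) =
      M * 3686400 := by
    have h1 : ∀ a : G, ∑ b : G, (if g⁻¹ * (a * z * a⁻¹) * (b * z * b⁻¹) = 1 then (1 : ℂ) else 0) =
        if a * z * a⁻¹ ∈ X then 1920 else 0 := by
      intro a
      have hiff : ∀ b : G, g⁻¹ * (a * z * a⁻¹) * (b * z * b⁻¹) = 1 ↔ b * z * b⁻¹ = a * z * a⁻¹ * g := by
        intro b
        constructor
        · intro h
          calc b * z * b⁻¹ = (a * z * a⁻¹)⁻¹ * g * (g⁻¹ * (a * z * a⁻¹) * (b * z * b⁻¹)) := by group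
            _ = _ := by rw [h, mul_one, inv_eq_of_mul_eq_one_right (hinv a)]
        · intro h
          rw [h]
          calc g⁻¹ * (a * z * a⁻¹) * (a * z * a⁻¹ * g) = g⁻¹ * ((a * z * a⁻¹) * (a * z * a⁻¹)) * g := by group
            _ = 1 := by rw [hinv]; group
      simp only [hiff]
      rw [Finset.sum_boole]
      by_cases hm : a * z * a⁻¹ ∈ X
      · rw [if_pos hm]
        have hm' := (Finset.mem_filter.1 hm).2
        rw [hfib _ hm'.2.2.1 hm'.2.2.2]
        norm_num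
      · rw [if_neg hm, Nat.cast_eq_zero, Finset.card_eq_zero, Finset.filter_eq_empty_iff]
        intro b _ hb
        exact hm (Finset.mem_filter.2 ⟨Finset.mem_univ _, hne a, hinv a, hb ▸ hne b, hb ▸ hinv b⟩)
    simp only [h1]
    rw [← Finset.sum_filter, Finset.sum_const, nsmul_eq_mul]
    have h2 : (Finset.univ.filter fun a : G => a * z * a⁻¹ ∈ X).card = M * 1920 := by
      rw [Finset.card_eq_sum_card_fiberwise (s := Finset.univ.filter fun a : G => a * z * a⁻¹ ∈ X)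
        (f := fun a : G => a * z * a⁻¹) (t := X) (fun a ha => (Finset.mem_filter.1 ha).2)]
      rw [Finset.sum_congr rfl fun x hx => ?_, Finset.sum_const, hXc, smul_eq_mul]
      have hx' := (Finset.mem_filter.1 hx).2
      rw [← hfib x hx'.1 hx'.2.1]
      congr 1
      ext a
      simp only [Finset.mem_filter, Finset.mem_univ, true_and]
      exact ⟨fun h => h.2, fun h => ⟨h ▸ hx, h⟩⟩
    rw [h2]; push_cast; ring
  have key : ∀ χ : Cfsg.IrrCharacter G,
      ∑ a : G, ∑ b : G, (χ : G → ℂ) (g⁻¹ * (a * z * a⁻¹) * (b * z * b⁻¹)) =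
        (Nat.card G : ℂ) ^ 2 * (χ : G → ℂ) g⁻¹ * (χ : G → ℂ) z ^ 2 / (χ : G → ℂ) 1 ^ 2 := by
    intro χ
    have h1 := apply_one_ne_zero χ
    simp only [Cfsg.Agent.Lib.H80.ClassMult.sum_apply_mul_conj, ← Finset.sum_div, ← Finset.sum_mul,
      ← Finset.mul_sum]
    field_simp
  apply mul_left_cancel₀ hG
  rw [← hcount]
  have hsd : ∀ h : G, (Nat.card G : ℂ) * (if h = 1 then (1 : ℂ) else 0) =
      ∑ χ : Cfsg.IrrCharacter G, (χ : G → ℂ) 1 * (χ : G → ℂ) h := fun h => by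
    rw [sum_degree_mul_apply]; split_ifs <;> simp
  rw [Finset.mul_sum]
  simp only [Finset.mul_sum, hsd]
  conv_rhs => enter [2, a]; rw [Finset.sum_comm]
  rw [Finset.sum_comm]
  refine Finset.sum_congr rfl fun χ _ => ?_
  simp only [← Finset.mul_sum, key]
  have h1 := apply_one_ne_zero χ
  field_simp

theorem class_combination (x : Data.Row) :
    ∑ χ : Cfsg.IrrCharacter G, L a t q χ x * (χ : G → ℂ) z ^ 2 / (χ : G → ℂ) 1 =
      (130 * coef x 0 + 28 * coef x 1 + 12 * coef x 2 + 12 * coef x 3 + 8 * coef x 4 + 10 * coef x 5 +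
        10 * coef x 6) * 3686400 / Nat.card G := by
  have hG : (Nat.card G : ℂ) ≠ 0 := Nat.cast_ne_zero.2 Nat.card_pos.ne'
  have h' : ∀ k : Fin 7, ∑ χ : Cfsg.IrrCharacter G,
      val a t q χ (rk k) * (χ : G → ℂ) z ^ 2 / (χ : G → ℂ) 1 =
      ((![130, 28, 12, 12, 8, 10, 10] k : ℕ) : ℂ) * 3686400 / Nat.card G := by
    intro k
    rw [eq_div_iff hG, ← class_equation h (root_cent h k).2, mul_comm]
    simp only [val_inv h]
  simp only [L, Finset.sum_mul, Finset.sum_div]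
  rw [Finset.sum_comm]
  simp only [mul_assoc, mul_div_assoc, ← Finset.mul_sum] at h' ⊢
  simp only [h', Fin.sum_univ_seven]
  simp
  ring

end Local

/-- The order of the group. -/
theorem card_eq (h : Ctx z a t q) (h256 : ¬ 2 ^ 8 ∣ Nat.card G) : Nat.card G = 50232960 := by
  classical
  letI := Fintype.ofFinite G
  letI := Fintype.ofFinite (Cfsg.IrrCharacter G)
  have hdvd : 1920 ∣ Nat.card G := h.card ▸ Subgroup.card_subgroup_dvd_card _
  have h10 : 10 ∣ Nat.card G := (by norm_num : 10 ∣ 1920).trans hdvd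
  obtain ⟨u, hu⟩ := ZMod.unitsMap_surjective h10 (ZMod.unitOfCoprime 7 (by norm_num))
  have hu7 : BC77.PConj.expo (G := G) u % 10 = 7 := by
    have h1 := congrArg (fun x : (ZMod 10)ˣ => (x : ZMod 10).val) hu
    simp only [ZMod.unitsMap_val, ZMod.coe_unitOfCoprime] at h1
    rw [BC77.PConj.expo]
    rw [ZMod.val_natCast, ← ZMod.natCast_val] at h1
    rwa [ZMod.val_natCast] at h1
  set e := BC77.PConj.expo (G := G) u with he
  have he2 : e % 2 = 1 := by omega
  have he3 : e % 3 ≠ 0 := by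
    intro h3
    exact absurd (Nat.eq_one_of_dvd_coprimes (BC77.PConj.expo_coprime u) (Nat.dvd_of_mod_eq_zero h3)
      ((by norm_num : 3 ∣ 1920).trans hdvd)) (by norm_num)
  choose row hrow m hm using fun χ => row_data h χ
  let d : Cfsg.IrrCharacter G → ℕ := fun χ => Cfsg.charDegree (χ : G → ℂ)
  have hd : ∀ χ : Cfsg.IrrCharacter G, (χ : G → ℂ) 1 = (d χ : ℂ) := fun χ => (H80.ClassMult.deg_spec χ).2
  have hz : ∀ χ : Cfsg.IrrCharacter G, (χ : G → ℂ) z = (Data.zeta (row χ) : ℂ) := fun χ => by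
    rw [isRow_zeta (hrow χ)]
    show _ = (χ : G → ℂ) (el a t q (rep 4))
    rw [(root_facts h).1]
  -- the Galois action
  let σ : Cfsg.IrrCharacter G ≃ Cfsg.IrrCharacter G := MulAction.toPerm u
  have hσv : ∀ (χ : Cfsg.IrrCharacter G) (g : G), (σ χ : G → ℂ) g = (χ : G → ℂ) (g ^ e) := fun _ _ => rfl
  have hcl : ∀ (χ : Cfsg.IrrCharacter G) {x y : G}, IsConj x y → (χ : G → ℂ) x = (χ : G → ℂ) y :=
    fun χ {x y} hxy => classFunction_apply_of_isConj (isClassFunction_irr χ) hxy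
  have hp17 := h.pow_sound (Bool.and_eq_true_iff.1 p17_check).1
  have hp113 := h.pow_sound (Bool.and_eq_true_iff.1 p113_check).1
  have hp1 := h.pow_sound (Bool.and_eq_true_iff.1 p1_check).1
  have hσk : ∀ (χ : Cfsg.IrrCharacter G) (k : ℕ), 4 ≤ k ∧ k ≤ 8 → val a t q (σ χ) k = val a t q χ k :=
    fun χ k hk => (hσv χ _).trans (hcl χ (rational h hk he2 he3))
  have hσ9 : ∀ χ : Cfsg.IrrCharacter G, val a t q (σ χ) 9 = val a t q χ 10 := fun χ => by
    refine (hσv χ _).trans ?_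
    show (χ : G → ℂ) (el a t q 17 ^ e) = _
    rw [pow_eq_pow_mod e (show el a t q 17 ^ 10 = 1 from hp17.2.1), hu7]
    exact hcl χ (hp17.2.2 7 (by decide))
  have hσ10 : ∀ χ : Cfsg.IrrCharacter G, val a t q (σ χ) 10 = val a t q χ 9 := fun χ => by
    refine (hσv χ _).trans ?_
    show (χ : G → ℂ) (el a t q 113 ^ e) = _
    rw [pow_eq_pow_mod e (show el a t q 113 ^ 10 = 1 from hp113.2.1), hu7]
    exact hcl χ (hp113.2.2 7 (by decide))
  have hσ1 : ∀ χ : Cfsg.IrrCharacter G, val a t q (σ χ) 1 = val a t q χ 2 := fun χ => by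
    refine (hσv χ _).trans ?_
    show (χ : G → ℂ) (el a t q 1 ^ e) = _
    rw [pow_eq_pow_mod e (show el a t q 1 ^ 5 = 1 from hp1.2.1), show e % 5 = 2 by omega]
    exact hcl χ (hp1.2.2 2 (by decide))
  have hσrow : ∀ χ, row (σ χ) = row χ := fun χ => by
    refine isRow_unique (hrow (σ χ)) fun x => ?_
    rw [hrow χ]
    simp only [L, rk, coef, Fin.sum_univ_seven, Matrix.cons_val, hσ9, hσ10,
      hσk χ 4 (by omega), hσk χ 5 (by omega), hσk χ 6 (by omega), hσk χ 7 (by omega), hσk χ 8 (by omega)]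
    ring
  have hσne : ∀ χ, (row χ).cs % 2 ≠ 0 → σ χ ≠ χ := fun χ hodd hfix => hodd <| by
    refine row_even h χ (hrow χ) ?_ ?_
    · rw [← hσ1 χ, hfix]
    · rw [← hσ9 χ, hfix]
  -- the trivial character
  have htriv : row (oneChar G) = Data.triv := by
    refine isRow_unique (hrow _) fun x => ?_
    simp [L, coef, rk, val, Fin.sum_univ_seven, Data.dot, Data.triv, oneChar_apply]
    ring
  have hsq : ∑ χ, d χ ^ 2 = Nat.card G := by
    apply Nat.cast_injective (R := ℂ)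
    push_cast
    have h1 := sum_degree_mul_apply (G := G) 1
    rw [if_pos rfl] at h1
    simp only [← hd, sq]
    exact h1
  have hgram : ∀ x y : Data.Row,
      ∑ χ, Data.dot x (row χ) * Data.dot y (row χ) = Data.gram x y := by
    intro x y
    apply Int.cast_injective (α := ℂ)
    push_cast
    rw [Finset.sum_congr rfl fun χ _ => by rw [hrow χ x, hrow χ y]]
    simp only [L]
    rw [orth h]
    simp only [coef, Matrix.cons_val, Data.gram, Data.gmul, Data.dot]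
    push_cast
    ring
  have horth : ∀ x : Data.Row, ∑ χ, (d χ : ℤ) * Data.dot x (row χ) = 0 := by
    intro x
    apply Int.cast_injective (α := ℂ)
    push_cast
    rw [← orth_one h x]
    exact Finset.sum_congr rfl fun χ _ => by rw [hrow χ x, hd]
  have hcls : ∀ (x : Data.Row) (v : ℚ),
      (130 * coef x 0 + 28 * coef x 1 + 12 * coef x 2 + 12 * coef x 3 + 8 * coef x 4 + 10 * coef x 5 +
        10 * coef x 6) * 3686400 = (v : ℂ) →
      ∑ χ, (Data.dot x (row χ) : ℚ) * (Data.zeta (row χ) : ℚ) ^ 2 / (d χ : ℚ) = v / (Nat.card G : ℚ) := by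
    intro x v hv
    apply Rat.cast_injective (α := ℂ)
    rw [Rat.cast_div, Rat.cast_natCast, ← hv, ← class_combination h x, Rat.cast_sum]
    refine Finset.sum_congr rfl fun χ _ => ?_
    simp only [Rat.cast_div, Rat.cast_mul, Rat.cast_pow, Rat.cast_intCast, Rat.cast_natCast]
    rw [hrow χ x, hd, hz]
  have h1 := hcls ⟨1, 0, 0, 0, 0, 0⟩ 614400 (by simp [coef]; norm_num)
  have h4 := hcls ⟨0, 0, 1, 0, 0, 0⟩ 29184000 (by simp [coef]; norm_num)
  simp [Data.dot] at h1 h4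
  let T : Data.Table (Cfsg.IrrCharacter G) (Nat.card G) :=
    { o := oneChar G, d := d, row := row, σ := σ
      d_o := by
        apply Nat.cast_injective (R := ℂ)
        rw [← hd, oneChar_apply]; norm_num
      row_o := htriv
      d_pos := fun χ => (H80.ClassMult.deg_spec χ).1
      sum_sq := hsq
      dvd := fun χ => H80.ClassMult.charDegree_dvd_card χ
      mult := hdvd
      odd := by
        have : ¬ 256 ∣ Nat.card G := h256
        omega
      cong_mod := fun χ => ⟨m χ, by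
        apply Int.cast_injective (α := ℂ)
        push_cast
        rw [← hd, hm χ]⟩
      gram_sum := hgram
      orth := horth
      eq1 := by rw [Nat.card_eq_fintype_card]; exact h1
      eq4 := by rw [Nat.card_eq_fintype_card]; exact h4
      σ_row := hσrow
      σ_ne := hσne }
  exact T.order_eq

end Cfsg.Agent.Lib.J3Order.Values
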