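import Cfsg.Prelude.Def_Sporadic
import Cfsg.Prelude.Def_SporadicB
import Cfsg.Agent.Lib.J3Order.Outside
import Cfsg.Agent.Lib.J3Order.Values
import Cfsg.Agent.Lib.HallJanko.Order

/-!
# Groups of `J₂` or `J₃` type: the orders
-/

set_option autoImplicit false
set_option linter.style.haveILetI false

namespace Cfsg.Agent.Lib.J3Order

universe u

variable {G : Type u} [Group G] [Finite G] [IsSimpleGroup G]

/-- One class of involutions: the order of `J₃`. -/
theorem card_of_one_class (hone : ∀ x y : G, orderOf x = 2 → orderOf y = 2 → IsConj x y) (t : G)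
    (ht : orderOf t = 2) (E : Subgroup (Subgroup.centralizer ({t} : Set G))) [E.Normal]
    (hE : Nat.card E = 32) (hX : Cfsg.IsExtraspecial 2 E)
    (e : (Subgroup.centralizer ({t} : Set G)) ⧸ E ≃* alternatingGroup (Fin 5)) :
    Nat.card G = 50232960 := by
  obtain ⟨Q, -, h⟩ := Prelim.exists_hyp t ht E hX hE e
  obtain ⟨v, hv⟩ := h.exists_five hone
  obtain ⟨a, s, q, hc⟩ := Outside.exists_chart hv hone
  exact Values.card_eq ⟨hc, ht, hone⟩ h.not_dvd_256

/-- Either one class of involutions and the order of `J₃`, or more and the order of `J₂`. -/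
theorem card_dichotomy (t : G) (ht : orderOf t = 2)
    (E : Subgroup (Subgroup.centralizer ({t} : Set G))) [E.Normal]
    (hE : Nat.card E = 32) (hX : Cfsg.IsExtraspecial 2 E)
    (e : (Subgroup.centralizer ({t} : Set G)) ⧸ E ≃* alternatingGroup (Fin 5)) :
    Nat.card G = 604800 ∨ Nat.card G = 50232960 := by
  classical
  by_cases hone : ∀ x y : G, orderOf x = 2 → orderOf y = 2 → IsConj x y
  · exact Or.inr (card_of_one_class hone t ht E hE hX e)
  left
  obtain ⟨Q, hQ, h⟩ := Prelim.exists_hyp t ht E hX hE e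
  have hcl : ∃ x y : G, orderOf x = 2 ∧ orderOf y = 2 ∧ ¬ IsConj x y := by
    simp only [not_forall] at hone
    obtain ⟨x, y, hx, hy, hxy⟩ := hone
    exact ⟨x, y, hx, hy, hxy⟩
  let j : E →* G := (Subgroup.centralizer ({t} : Set G)).subtype.comp E.subtype
  have hj : Function.Injective j :=
    (Subgroup.centralizer ({t} : Set G)).subtype_injective.comp E.subtype_injective
  have hjQ : ∀ x : E, j x ∈ Q := fun x => hQ ▸ ⟨x.1, x.2, rfl⟩
  have hminus : ∀ A : Subgroup E, Cfsg.IsElementaryAbelian 2 A → Nat.card A ≤ 2 ^ 2 := by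
    intro A hA
    by_contra hlt
    have hsq : ∀ x ∈ A.map j, x * x = 1 := by
      rintro _ ⟨x, hx, rfl⟩
      have := hA.2 x hx
      rw [pow_two] at this
      rw [← map_mul, this, map_one]
    have hcomm : ∀ x ∈ A.map j, ∀ y ∈ A.map j, Commute x y := by
      intro x hx y hy
      have h1 := hsq _ (mul_mem hx hy)
      calc x * y = (x * y)⁻¹ := eq_inv_of_mul_eq_one_left h1
        _ = y * x := by rw [mul_inv_rev, inv_eq_of_mul_eq_one_right (hsq y hy),
              inv_eq_of_mul_eq_one_right (hsq x hx)]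
    have hcard : 4 < Nat.card (A.map j) := by
      rw [Subgroup.card_map_of_injective hj]; omega
    have hmemQ : ∀ x ∈ A.map j, x ∈ Q := by
      rintro _ ⟨x, -, rfl⟩; exact hjQ x
    obtain ⟨x, hx, hx1, hxz⟩ : ∃ x ∈ A.map j, x ≠ 1 ∧ x ≠ t := by
      by_contra hc
      simp only [not_exists, not_and] at hc
      have hs : (A.map j : Set G) ⊆ ({1, t} : Finset G) := fun x hx => by
        simp only [Finset.coe_insert, Finset.coe_singleton, Set.mem_insert_iff, Set.mem_singleton_iff]
        by_cases h1 : x = 1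
        · exact Or.inl h1
        · exact Or.inr (of_not_not (hc x hx h1))
      have h1 := Set.ncard_le_ncard hs (Set.toFinite _)
      rw [← Nat.card_coe_set_eq, Set.ncard_coe_finset] at h1
      have h2 := (Finset.card_le_two : ({1, t} : Finset G).card ≤ 2)
      have h3 : Nat.card ((A.map j : Subgroup G) : Set G) = Nat.card (A.map j) := rfl
      omega
    obtain ⟨y, hy, hy'⟩ : ∃ y ∈ A.map j, y ≠ 1 ∧ y ≠ t ∧ y ≠ x ∧ y ≠ x * t := by
      by_contra hc
      simp only [not_exists, not_and] at hc
      have hs : (A.map j : Set G) ⊆ ({1, t, x, x * t} : Finset G) := fun y hy => by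
        simp only [Finset.coe_insert, Finset.coe_singleton, Set.mem_insert_iff, Set.mem_singleton_iff]
        by_cases h1 : y = 1
        · exact Or.inl h1
        by_cases h2 : y = t
        · exact Or.inr (Or.inl h2)
        by_cases h3 : y = x
        · exact Or.inr (Or.inr (Or.inl h3))
        · exact Or.inr (Or.inr (Or.inr (of_not_not (hc y hy h1 h2 h3))))
      have h1 := Set.ncard_le_ncard hs (Set.toFinite _)
      rw [← Nat.card_coe_set_eq, Set.ncard_coe_finset] at h1
      have h2 := (Finset.card_le_four : ({1, t, x, x * t} : Finset G).card ≤ 4)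
      have h3 : Nat.card ((A.map j : Subgroup G) : Set G) = Nat.card (A.map j) := rfl
      omega
    have hxinv : x⁻¹ = x := inv_eq_of_mul_eq_one_right (hsq x hx)
    refine h.minus h.self (hmemQ x hx) (hmemQ y hy) (hsq x hx) (hsq y hy) (hcomm x hx y hy) hx1 hxz
      hy'.1 hy'.2.1 (fun e' => hy'.2.2.1 ?_) fun e' => hy'.2.2.2 ?_
    · rw [← inv_eq_of_mul_eq_one_right e', hxinv]
    · rw [← inv_mul_cancel_left x y, e', hxinv]
  have hzE : (⟨t, Subgroup.mem_centralizer_singleton_iff.2 rfl⟩ : Subgroup.centralizer ({t} : Set G)) ∈ E := by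
    have h1 := h.es.mem
    rw [hQ] at h1
    obtain ⟨x, hx, hxt⟩ := h1
    have hxe : x = ⟨t, Subgroup.mem_centralizer_singleton_iff.2 rfl⟩ := Subtype.ext hxt
    exact hxe ▸ hx
  have h2c : Subgroup.centralizer (E : Set (Subgroup.centralizer ({t} : Set G))) ≤ E := by
    intro c hc
    rcases h.self (c : G) (fun q hq => by
      rw [hQ] at hq
      obtain ⟨x, hx, rfl⟩ := hq
      exact (congrArg Subtype.val (Subgroup.mem_centralizer_iff.1 hc x hx)).symm) with e' | e'
    · exact (show c = 1 from Subtype.ext e') ▸ one_mem E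
    · have hce : c = ⟨t, Subgroup.mem_centralizer_singleton_iff.2 rfl⟩ := Subtype.ext e'
      exact hce ▸ hzE
  obtain ⟨Q', u, s, hs⟩ := HJUniq.exists_setting_of_simple t ht E hX hE hminus h2c e hcl
  exact hs.card_group

end Cfsg.Agent.Lib.J3Order
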