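import Cfsg.Agent.Lib.J3Order.Prelim

/-!
# Groups of `J₃` type: `Q` is of minus type, and with one class of involutions it carries five points
-/

set_option autoImplicit false
set_option linter.style.haveILetI false

namespace Cfsg.Agent.Lib.J3Order.Prelim

open Cfsg.Agent.Lib.LargeExtraspecial.Basic Cfsg.Agent.Lib.HallJanko
open Cfsg.Agent.Lib.Involutions.Basic (invol_iff)

variable {G : Type*} [Group G]

/-- `x` to a power in `ZMod 2`. -/
def pw (e : ZMod 2) (x : G) : G := if e = 0 then 1 else x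

/-- The square class of `a ^ i * b ^ j * c ^ k * d ^ l`. -/
def quad (sc sd g : ZMod 2) (v : Fin 5 → ZMod 2) : ZMod 2 :=
  v 2 * sc + v 3 * sd + v 0 * v 2 + v 1 * v 3 + v 2 * v 3 * g

theorem count_singular : ∀ sc sd g : ZMod 2,
    Fintype.card {v : Fin 5 → ZMod 2 // quad sc sd g v = 0 ∧ ¬ (v 0 = 0 ∧ v 1 = 0 ∧ v 2 = 0 ∧ v 3 = 0)} = 18 := by
  decide +kernel

theorem zmod2_cases : ∀ e : ZMod 2, e = 0 ∨ e = 1 := by decide

namespace Hyp

variable {z : G} {Q : Subgroup G}

open Classical in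
/-- The square class. -/
noncomputable def sqc (x : G) : ZMod 2 := if x * x = 1 then 0 else 1

theorem sqc_eq_zero {x : G} : sqc x = 0 ↔ x * x = 1 := by
  unfold sqc
  split_ifs with h <;> simp [h]

theorem sqc_mul (h : Hyp z Q) {x y : G} (hx : x ∈ Q) (hy : y ∈ Q) :
    sqc (x * y) = sqc x + sqc y + chi x y := by
  have hchi : (chi x y = 0 ∧ x * y = y * x) ∨ (chi x y = 1 ∧ x * y = y * x * z) := by
    rcases zmod2_cases (chi x y) with e | e
    · exact Or.inl ⟨e, (chi_eq_zero.1 e).eq⟩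
    · refine Or.inr ⟨e, (h.swap_cases hx hy).resolve_left fun e' => ?_⟩
      rw [chi_eq_zero.2 e'] at e; exact zero_ne_one e
  have hzy : Commute z y := (h.es.comm y hy).symm
  have key : x * y * (x * y) = x * x * (y * y) ∧ chi x y = 0 ∨
      x * y * (x * y) = x * x * (y * y) * z ∧ chi x y = 1 := by
    rcases hchi with ⟨e, e'⟩ | ⟨e, e'⟩
    · refine Or.inl ⟨?_, e⟩
      calc x * y * (x * y) = x * (y * x) * y := by group
        _ = _ := by rw [← e']; group
    · refine Or.inr ⟨?_, e⟩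
      have e'' : y * x = x * y * z := by
        rw [e', mul_assoc (y * x), h.es.sq, mul_one]
      calc x * y * (x * y) = x * (y * x) * y := by group
        _ = x * x * y * (z * y) := by rw [e'']; group
        _ = _ := by rw [hzy.eq]; group
  have hxs : (x * x = 1 ∧ sqc x = 0) ∨ (x * x = z ∧ sqc x = 1) := by
    rcases h.es.sq_cases hx with e | e
    · exact Or.inl ⟨e, sqc_eq_zero.2 e⟩
    · exact Or.inr ⟨e, by rw [sqc, if_neg (e ▸ h.es.ne)]⟩
  have hys : (y * y = 1 ∧ sqc y = 0) ∨ (y * y = z ∧ sqc y = 1) := by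
    rcases h.es.sq_cases hy with e | e
    · exact Or.inl ⟨e, sqc_eq_zero.2 e⟩
    · exact Or.inr ⟨e, by rw [sqc, if_neg (e ▸ h.es.ne)]⟩
  have hne : ¬ z = 1 := h.es.ne
  rcases key with ⟨k, e⟩ | ⟨k, e⟩ <;> rcases hxs with ⟨a, ea⟩ | ⟨a, ea⟩ <;>
    rcases hys with ⟨b, eb⟩ | ⟨b, eb⟩ <;> rw [e, ea, eb, sqc, k, a, b] <;>
    simp [h.es.sq, hne] <;> decide

theorem exists_chi (h : Hyp z Q) {a : G} (ha : a ∈ Q) (h1 : a ≠ 1) (hz : a ≠ z) :
    ∃ p ∈ Q, chi a p = 1 := by
  obtain ⟨q, hq, e⟩ := h.es.exists_conj_ne ha h1 hz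
  refine ⟨q, hq, (zmod2_cases _).resolve_left fun e0 => h.es.ne ?_⟩
  have hc := (chi_eq_zero.1 e0)
  rw [mul_inv_eq_iff_eq_mul.2 hc.symm.eq] at e
  exact mul_eq_left.1 e.symm

theorem exists_dual (h : Hyp z Q) {a b : G} (ha : a ∈ Q) (hb : b ∈ Q) (ha1 : a ≠ 1) (haz : a ≠ z)
    (hb1 : b ≠ 1) (hbz : b ≠ z) (hab1 : a * b ≠ 1) (habz : a * b ≠ z) :
    ∃ c ∈ Q, chi a c = 1 ∧ chi b c = 0 := by
  obtain ⟨p, hp, ep⟩ := h.exists_chi ha ha1 haz
  rcases zmod2_cases (chi b p) with e | e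
  · exact ⟨p, hp, ep, e⟩
  obtain ⟨r, hr, er⟩ := h.exists_chi (mul_mem ha hb) hab1 habz
  rw [h.es.chi_mul_left ha hb hr] at er
  rcases zmod2_cases (chi b r) with e' | e'
  · exact ⟨r, hr, by rwa [e', add_zero] at er, e'⟩
  · refine ⟨p * r, mul_mem hp hr, ?_, ?_⟩
    · rw [h.es.chi_mul_right ha hp hr, ep]
      rw [e'] at er
      have : ∀ x : ZMod 2, x + 1 = 1 → 1 + x = 1 := by decide
      exact this _ er
    · rw [h.es.chi_mul_right hb hp hr, e, e']; rfl

theorem pw_mem (_h : Hyp z Q) {x : G} (hx : x ∈ Q) (e : ZMod 2) : pw e x ∈ Q := by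
  unfold pw; split_ifs
  exacts [one_mem _, hx]

theorem chi_pw (h : Hyp z Q) {x y : G} (hx : x ∈ Q) (hy : y ∈ Q) (e : ZMod 2) :
    chi y (pw e x) = e * chi y x := by
  rcases zmod2_cases e with rfl | rfl
  · rw [pw, if_pos rfl, zero_mul]; exact chi_eq_zero.2 (Commute.one_right y)
  · rw [pw, if_neg one_ne_zero, one_mul]

theorem sqc_pw (e : ZMod 2) (x : G) : sqc (pw e x) = e * sqc x := by
  rcases zmod2_cases e with rfl | rfl
  · rw [pw, if_pos rfl, zero_mul]; exact sqc_eq_zero.2 (mul_one 1)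
  · rw [pw, if_neg one_ne_zero, one_mul]

/-- An element of order five fixes only the centre. -/
theorem fixed [Finite G] (h : Hyp z Q) (hself : ∀ c : G, (∀ q ∈ Q, Commute c q) → c = 1 ∨ c = z)
    {f : G} (hf : orderOf f = 5) (hfz : Commute f z) :
    ∀ q ∈ Q, f * q * f⁻¹ = q → q = 1 ∨ q = z := by
  classical
  haveI : Fact (Nat.Prime 5) := ⟨by norm_num⟩
  have hfQ : ∀ q ∈ Q, f * q * f⁻¹ ∈ Q := h.norm f hfz
  set Q₀ := Q ⊓ Subgroup.centralizer ({f} : Set G) with hQ₀
  have hdiv : 5 ∣ Nat.card Q - Nat.card Q₀ := by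
    let φ : Q → Q := fun q => ⟨f * q * f⁻¹, hfQ q q.2⟩
    let σ : Equiv.Perm Q := Equiv.ofBijective φ (Finite.injective_iff_bijective.1 fun a b hab =>
      Subtype.ext (mul_left_cancel (mul_right_cancel (congrArg Subtype.val hab))))
    have hσ : ∀ (k : ℕ) (q : Q), ((σ ^ k) q : G) = f ^ k * q * (f ^ k)⁻¹ := by
      intro k
      induction k with
      | zero => intro q; simp
      | succ k ih =>
        intro q
        rw [pow_succ', Equiv.Perm.mul_apply]
        show f * ((σ ^ k) q : G) * f⁻¹ = _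
        rw [ih, pow_succ']; group
    have hσ5 : σ ^ 5 = 1 := Equiv.ext fun q => Subtype.ext (by
      rw [hσ, ← hf, pow_orderOf_eq_one]; simp)
    haveI : Fintype Q := Fintype.ofFinite _
    have hmod := Equiv.Perm.card_compl_support_modEq (p := 5) (n := 1) (σ := σ) (by rw [pow_one]; exact hσ5)
    have hfix : (σ.supportᶜ).card = Nat.card Q₀ := by
      rw [← Fintype.card_coe, ← Nat.card_eq_fintype_card]
      refine Nat.card_congr
        { toFun := fun q => ⟨q.1.1, q.1.2, Subgroup.mem_centralizer_singleton_iff.2 ?_⟩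
          invFun := fun q => ⟨⟨q.1, q.2.1⟩, ?_⟩
          left_inv := fun q => rfl
          right_inv := fun q => rfl }
      · have h1 := q.2
        rw [Finset.mem_compl, Equiv.Perm.notMem_support] at h1
        exact (mul_inv_eq_iff_eq_mul.1 (congrArg Subtype.val h1)).symm
      · rw [Finset.mem_compl, Equiv.Perm.notMem_support]
        exact Subtype.ext (mul_inv_eq_iff_eq_mul.2 (Subgroup.mem_centralizer_singleton_iff.1 q.2.2).symm)
    rw [hfix, ← Nat.card_eq_fintype_card] at hmod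
    exact (Nat.modEq_iff_dvd' (Subgroup.card_le_of_le inf_le_left)).1 hmod
  have hzQ₀ : z ∈ Q₀ := ⟨h.es.mem, Subgroup.mem_centralizer_singleton_iff.2 hfz.eq.symm⟩
  have hne : Q₀ ≠ Q := by
    intro he
    rcases hself f (fun q hq => ((Subgroup.mem_centralizer_singleton_iff.1
      (he.symm ▸ hq : q ∈ Q₀).2)).symm) with e | e
    · rw [e, orderOf_one] at hf; omega
    · rw [e, h.ord] at hf; omega
  have h2 : 2 ∣ Nat.card Q₀ := by
    have := Subgroup.orderOf_dvd_natCard _ hzQ₀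
    rwa [h.ord] at this
  have hcard : Nat.card Q₀ = 2 := by
    have hd : Nat.card Q₀ ∣ 32 := h.card ▸ Subgroup.card_dvd_of_le inf_le_left
    have h32 : Nat.card Q₀ ≠ 32 := fun e =>
      hne (Subgroup.eq_of_le_of_card_ge inf_le_left (by rw [h.card, e]))
    rw [h.card] at hdiv
    have hle := Nat.le_of_dvd (by norm_num) hd
    generalize Nat.card Q₀ = n at h2 hd h32 hdiv hle ⊢
    interval_cases n <;> omega
  intro q hq hfix
  have hmem : q ∈ Q₀ := ⟨hq, Subgroup.mem_centralizer_singleton_iff.2 (mul_inv_eq_iff_eq_mul.1 hfix).symm⟩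
  have he : Subgroup.zpowers z = Q₀ := Subgroup.eq_of_le_of_card_ge (Subgroup.zpowers_le.2 hzQ₀)
    (by rw [hcard, Nat.card_zpowers, h.ord])
  rw [← he] at hmem
  obtain ⟨k, rfl⟩ := Subgroup.mem_zpowers_iff.1 hmem
  rcases Int.even_or_odd k with ⟨m, rfl⟩ | ⟨m, rfl⟩
  · left; rw [← two_mul, zpow_mul, zpow_two, h.es.sq, one_zpow]
  · right; rw [zpow_add, zpow_mul, zpow_two, h.es.sq, one_zpow, zpow_one, one_mul]

/-- `Q` is of minus type. -/
theorem minus [Finite G] (h : Hyp z Q) (hself : ∀ c : G, (∀ q ∈ Q, Commute c q) → c = 1 ∨ c = z)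
    {a b : G} (ha : a ∈ Q) (hb : b ∈ Q) (ha2 : a * a = 1) (hb2 : b * b = 1) (hab : Commute a b)
    (ha1 : a ≠ 1) (haz : a ≠ z) (hb1 : b ≠ 1) (hbz : b ≠ z) (hab1 : a * b ≠ 1) (habz : a * b ≠ z) :
    False := by
  classical
  haveI : Fact (Nat.Prime 5) := ⟨by norm_num⟩
  obtain ⟨c, hc, hac, hbc⟩ := h.exists_dual ha hb ha1 haz hb1 hbz hab1 habz
  obtain ⟨d, hd, hbd, had⟩ := h.exists_dual hb ha hb1 hbz ha1 haz (hab.eq ▸ hab1) (hab.eq ▸ habz)
  have hab0 : chi a b = 0 := chi_eq_zero.2 hab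
  have hcd : chi c d = chi d c := h.es.chi_comm
  have cself : ∀ x : G, chi x x = 0 := fun x => chi_eq_zero.2 (Commute.refl x)
  have hz' : z ∈ Q := h.es.mem
  let el : (Fin 5 → ZMod 2) → G := fun v =>
    pw (v 0) a * pw (v 1) b * pw (v 2) c * pw (v 3) d * pw (v 4) z
  have m0 := fun v : Fin 5 → ZMod 2 => h.pw_mem ha (v 0)
  have m1 := fun v : Fin 5 → ZMod 2 => h.pw_mem hb (v 1)
  have m2 := fun v : Fin 5 → ZMod 2 => h.pw_mem hc (v 2)
  have m3 := fun v : Fin 5 → ZMod 2 => h.pw_mem hd (v 3)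
  have m4 := fun v : Fin 5 → ZMod 2 => h.pw_mem hz' (v 4)
  have hel : ∀ v, el v ∈ Q := fun v => mul_mem (mul_mem (mul_mem (mul_mem (m0 v) (m1 v)) (m2 v)) (m3 v)) (m4 v)
  have hchi : ∀ (y : G) (v : Fin 5 → ZMod 2), y ∈ Q → chi y (el v) =
      v 0 * chi y a + v 1 * chi y b + v 2 * chi y c + v 3 * chi y d := by
    intro y v hy
    simp only [el]
    rw [h.es.chi_mul_right hy (mul_mem (mul_mem (mul_mem (m0 v) (m1 v)) (m2 v)) (m3 v)) (m4 v),
      h.es.chi_mul_right hy (mul_mem (mul_mem (m0 v) (m1 v)) (m2 v)) (m3 v),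
      h.es.chi_mul_right hy (mul_mem (m0 v) (m1 v)) (m2 v), h.es.chi_mul_right hy (m0 v) (m1 v),
      h.chi_pw ha hy, h.chi_pw hb hy, h.chi_pw hc hy, h.chi_pw hd hy, h.chi_pw hz' hy,
      h.es.chi_center_right hy, mul_zero, add_zero]
  have hinj : Function.Injective el := by
    intro v w e
    have ea := congrArg (chi a) e
    have eb := congrArg (chi b) e
    have ec := congrArg (chi c) e
    have ed := congrArg (chi d) e
    rw [hchi a v ha, hchi a w ha, cself, hab0, hac, had] at ea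
    rw [hchi b v hb, hchi b w hb, cself, h.es.chi_comm (q := b) (v := a), hab0, hbc, hbd] at eb
    rw [hchi c v hc, hchi c w hc, cself, h.es.chi_comm (q := c) (v := a), hac,
      h.es.chi_comm (q := c) (v := b), hbc] at ec
    rw [hchi d v hd, hchi d w hd, cself, h.es.chi_comm (q := d) (v := a), had,
      h.es.chi_comm (q := d) (v := b), hbd, ← hcd] at ed
    have key : ∀ g a0 a1 a2 a3 b0 b1 b2 b3 : ZMod 2, a2 = b2 → a3 = b3 →
        a0 + a3 * g = b0 + b3 * g → a1 + a2 * g = b1 + b2 * g → a0 = b0 ∧ a1 = b1 := by decide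
    simp only [mul_zero, mul_one, zero_add, add_zero] at ea eb ec ed
    obtain ⟨e0, e1⟩ := key (chi c d) (v 0) (v 1) (v 2) (v 3) (w 0) (w 1) (w 2) (w 3) ea eb ec ed
    simp only [el] at e
    rw [e0, e1, ea, eb, mul_right_inj] at e
    have e4 : v 4 = w 4 := by
      rcases zmod2_cases (v 4) with a' | a' <;> rcases zmod2_cases (w 4) with b' | b' <;>
        rw [a', b'] at e ⊢ <;> simp [pw, h.es.ne, Ne.symm h.es.ne] at e
    funext i; fin_cases i
    exacts [e0, e1, ea, eb, e4]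
  have hsq : ∀ v, sqc (el v) = quad (sqc c) (sqc d) (chi c d) v := by
    intro v
    have cp : ∀ {x y : G} (e e' : ZMod 2), x ∈ Q → y ∈ Q → chi (pw e x) (pw e' y) = e' * (e * chi x y) := by
      intro x y e e' hx hy
      rw [h.chi_pw hy (h.pw_mem hx e), h.es.chi_comm, h.chi_pw hx hy, h.es.chi_comm (q := y)]
    have cz : ∀ {x : G}, x ∈ Q → chi x (pw (v 4) z) = 0 := fun {x} hx => by
      rw [h.chi_pw hz' hx, h.es.chi_center_right hx, mul_zero]
    simp only [el]
    rw [h.sqc_mul (mul_mem (mul_mem (mul_mem (m0 v) (m1 v)) (m2 v)) (m3 v)) (m4 v),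
      cz (mul_mem (mul_mem (mul_mem (m0 v) (m1 v)) (m2 v)) (m3 v)), add_zero,
      h.sqc_mul (mul_mem (mul_mem (m0 v) (m1 v)) (m2 v)) (m3 v),
      h.es.chi_mul_left (mul_mem (m0 v) (m1 v)) (m2 v) (m3 v), h.es.chi_mul_left (m0 v) (m1 v) (m3 v),
      h.sqc_mul (mul_mem (m0 v) (m1 v)) (m2 v), h.es.chi_mul_left (m0 v) (m1 v) (m2 v),
      h.sqc_mul (m0 v) (m1 v), cp _ _ ha hb, cp _ _ ha hc, cp _ _ hb hc, cp _ _ ha hd, cp _ _ hb hd,
      cp _ _ hc hd, hab0, hac, hbc, had, hbd, sqc_pw, sqc_pw, sqc_pw, sqc_pw, sqc_pw,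
      sqc_eq_zero.2 ha2, sqc_eq_zero.2 hb2, sqc_eq_zero.2 h.es.sq, quad]
    ring
  -- eighteen non-central involutions, permuted freely by an element of order five
  haveI : Fintype Q := Fintype.ofFinite _
  let S := {q : Q // (q : G) * q = 1 ∧ (q : G) ≠ 1 ∧ (q : G) ≠ z}
  let F : (Fin 5 → ZMod 2) → Q := fun v => ⟨el v, hel v⟩
  have hF : Function.Bijective F := (Fintype.bijective_iff_injective_and_card F).2
    ⟨fun v w e => hinj (congrArg Subtype.val e), by
      rw [← Nat.card_eq_fintype_card (α := Q), h.card]; simp⟩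
  have hcentral : ∀ v, (el v = 1 ∨ el v = z) ↔ (v 0 = 0 ∧ v 1 = 0 ∧ v 2 = 0 ∧ v 3 = 0) := by
    intro v
    constructor
    · intro e
      have z0 : ∀ y ∈ Q, chi y (el v) = 0 := fun y hy => by
        rcases e with e | e <;> rw [e]
        exacts [chi_eq_zero.2 (Commute.one_right y), h.es.chi_center_right hy]
      have ea := z0 a ha; have eb := z0 b hb; have ec := z0 c hc; have ed := z0 d hd
      rw [hchi a v ha, cself, hab0, hac, had] at ea
      rw [hchi b v hb, cself, h.es.chi_comm (q := b) (v := a), hab0, hbc, hbd] at eb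
      rw [hchi c v hc, cself, h.es.chi_comm (q := c) (v := a), hac,
        h.es.chi_comm (q := c) (v := b), hbc] at ec
      rw [hchi d v hd, cself, h.es.chi_comm (q := d) (v := a), had,
        h.es.chi_comm (q := d) (v := b), hbd, ← hcd] at ed
      simp only [mul_zero, mul_one, zero_add, add_zero] at ea eb ec ed
      rw [eb, zero_mul, add_zero] at ec
      rw [ea, zero_mul, add_zero] at ed
      exact ⟨ec, ed, ea, eb⟩
    · rintro ⟨e0, e1, e2, e3⟩
      simp only [el, e0, e1, e2, e3, pw, if_true, one_mul]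
      split_ifs
      exacts [Or.inl rfl, Or.inr rfl]
  have hS : Fintype.card S = 18 := by
    rw [← count_singular (sqc c) (sqc d) (chi c d)]
    refine (Fintype.card_congr ((Equiv.ofBijective F hF).subtypeEquiv fun v => ?_)).symm
    show _ ↔ el v * el v = 1 ∧ el v ≠ 1 ∧ el v ≠ z
    rw [← sqc_eq_zero, hsq, ← hcentral, not_or]
  obtain ⟨f', hf'⟩ := exists_prime_orderOf_dvd_card' (G := Subgroup.centralizer ({z} : Set G)) 5
    (by rw [h.cent]; norm_num)
  set f : G := f'.1 with hfdef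
  have hf : orderOf f = 5 := by rw [hfdef, Subgroup.orderOf_coe]; exact hf'
  have hfz : Commute f z := Subgroup.mem_centralizer_singleton_iff.1 f'.2
  have hfree := h.fixed hself hf hfz
  let φ : S → S := fun q => ⟨⟨f * q.1.1 * f⁻¹, h.norm f hfz _ q.1.2⟩, by
    obtain ⟨h1, h2, h3⟩ := q.2
    refine ⟨?_, fun e => h2 (conj_eq_one_iff.1 e), fun e => h3 ?_⟩
    · show f * q.1.1 * f⁻¹ * (f * q.1.1 * f⁻¹) = 1
      rw [show f * q.1.1 * f⁻¹ * (f * q.1.1 * f⁻¹) = f * (q.1.1 * q.1.1) * f⁻¹ by group, h1]; group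
    · have e' : f * q.1.1 * f⁻¹ = f * z * f⁻¹ := e.trans (mul_inv_eq_iff_eq_mul.2 hfz).symm
      exact mul_left_cancel (mul_right_cancel e')⟩
  let σ : Equiv.Perm S := Equiv.ofBijective φ (Finite.injective_iff_bijective.1 fun p q e =>
    Subtype.ext (Subtype.ext (mul_left_cancel (mul_right_cancel (congrArg (fun s : S => (s.1 : G)) e)))))
  have hσ : ∀ (k : ℕ) (q : S), (((σ ^ k) q).1 : G) = f ^ k * q.1 * (f ^ k)⁻¹ := by
    intro k
    induction k with
    | zero => intro q; simp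
    | succ k ih =>
      intro q
      rw [pow_succ', Equiv.Perm.mul_apply]
      show f * (((σ ^ k) q).1 : G) * f⁻¹ = _
      rw [ih, pow_succ']; group
  have hσ5 : σ ^ 5 = 1 := Equiv.ext fun q => Subtype.ext (Subtype.ext (by
    rw [hσ, ← hf, pow_orderOf_eq_one]; simp))
  have hmod := Equiv.Perm.card_compl_support_modEq (p := 5) (n := 1) (σ := σ) (by rw [pow_one]; exact hσ5)
  have h0 : (σ.supportᶜ).card = 0 := by
    rw [Finset.card_eq_zero, Finset.eq_empty_iff_forall_notMem]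
    intro q hq
    rw [Finset.mem_compl, Equiv.Perm.notMem_support] at hq
    have e : f * (q.1 : G) * f⁻¹ = q.1 := congrArg (fun s : S => (s.1 : G)) hq
    rcases hfree _ q.1.2 e with e' | e'
    exacts [q.2.2.1 e', q.2.2.2 e']
  rw [h0, hS] at hmod
  exact absurd hmod (by decide)

/-- With one class of involutions, `Q` carries five points. -/
theorem exists_five [Finite G] [IsSimpleGroup G] (h : Hyp z Q)
    (hone : ∀ x y : G, orderOf x = 2 → orderOf y = 2 → IsConj x y) :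
    ∃ u : Fin 5 → G, Five z Q u := by
  classical
  suffices hv : ∃ v ∈ Q, v * v = 1 ∧ v ≠ 1 ∧ v ≠ z by
    obtain ⟨v, hvQ, hv2, hv1, hvz⟩ := hv
    obtain ⟨g, hg⟩ := isConj_iff.1 (hone z v h.ord (invol_iff.2 ⟨hv2, hv1⟩))
    exact Base.exists_five ⟨h.ord, h.es, h.card, h.cent, h.norm, h.self, g, hg ▸ hvQ, hg ▸ hvz⟩
  by_contra hno
  simp only [not_exists, not_and] at hno
  have hsq : ∀ q ∈ Q, q = 1 ∨ q = z ∨ q * q = z := fun q hq => by
    rcases h.es.sq_cases hq with e | e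
    · by_cases h1 : q = 1
      · exact Or.inl h1
      · exact Or.inr (Or.inl (of_not_not (hno q hq e h1)))
    · exact Or.inr (Or.inr e)
  obtain ⟨a, ha, ha'⟩ : ∃ a ∈ Q, a ≠ 1 ∧ a ≠ z := by
    by_contra hc
    simp only [not_exists, not_and] at hc
    have hs : (Q : Set G) ⊆ ({1, z} : Finset G) := fun q hq => by
      simp only [Finset.coe_insert, Finset.coe_singleton, Set.mem_insert_iff, Set.mem_singleton_iff]
      by_cases h1 : q = 1
      · exact Or.inl h1
      · exact Or.inr (of_not_not (hc q hq h1))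
    have h1 := Set.ncard_le_ncard hs (Set.toFinite _)
    rw [← Nat.card_coe_set_eq, Set.ncard_coe_finset, show Nat.card (Q : Set G) = 32 from h.card] at h1
    have := (Finset.card_le_two : ({1, z} : Finset G).card ≤ 2)
    omega
  have haa : a * a = z := ((hsq a ha).resolve_left ha'.1).resolve_left ha'.2
  set K := Q ⊓ Subgroup.centralizer ({a} : Set G) with hK
  obtain ⟨r, hr, hra⟩ := h.es.exists_conj_ne ha ha'.1 ha'.2
  have hsub : (Q : Set G) ⊆ (K : Set G) ∪ (fun k => r * k) '' (K : Set G) := by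
    intro q hq
    rcases h.es.conj q hq a ha with e | e
    · exact Or.inl ⟨hq, Subgroup.mem_centralizer_singleton_iff.2 (mul_inv_eq_iff_eq_mul.1 e)⟩
    · refine Or.inr ⟨r⁻¹ * q, ⟨Q.mul_mem (Q.inv_mem hr) hq, Subgroup.mem_centralizer_singleton_iff.2
        (mul_inv_eq_iff_eq_mul.1 ?_)⟩, mul_inv_cancel_left r q⟩
      calc r⁻¹ * q * a * (r⁻¹ * q)⁻¹ = r⁻¹ * (q * a * q⁻¹) * r := by group
        _ = r⁻¹ * (r * a * r⁻¹) * r := by rw [e, hra]
        _ = a := by group
  obtain ⟨b, hb, hb'⟩ : ∃ b ∈ K, b ≠ 1 ∧ b ≠ z ∧ b ≠ a ∧ b ≠ a * z := by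
    by_contra hc
    simp only [not_exists, not_and] at hc
    have hs : (K : Set G) ⊆ ({1, z, a, a * z} : Finset G) := fun q hq => by
      simp only [Finset.coe_insert, Finset.coe_singleton, Set.mem_insert_iff, Set.mem_singleton_iff]
      by_cases h1 : q = 1
      · exact Or.inl h1
      by_cases h2 : q = z
      · exact Or.inr (Or.inl h2)
      by_cases h3 : q = a
      · exact Or.inr (Or.inr (Or.inl h3))
      · exact Or.inr (Or.inr (Or.inr (of_not_not (hc q hq h1 h2 h3))))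
    have h1 := Set.ncard_le_ncard hs (Set.toFinite _)
    rw [← Nat.card_coe_set_eq, Set.ncard_coe_finset] at h1
    have h2 := (Set.ncard_le_ncard hsub (Set.toFinite _)).trans (Set.ncard_union_le _ _)
    rw [Set.ncard_image_of_injective _ (mul_right_injective r), ← Nat.card_coe_set_eq,
      ← Nat.card_coe_set_eq, show Nat.card (Q : Set G) = 32 from h.card] at h2
    have := (Finset.card_le_four : ({1, z, a, a * z} : Finset G).card ≤ 4)
    omega
  have hbb : b * b = z := ((hsq b hb.1).resolve_left hb'.1).resolve_left hb'.2.1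
  have hbc : b * a = a * b := Subgroup.mem_centralizer_singleton_iff.1 hb.2
  have e : a * b * (a * b) = 1 := by
    rw [show a * b * (a * b) = a * (b * a) * b by group, hbc,
      show a * (a * b) * b = (a * a) * (b * b) by group, haa, hbb, h.es.sq]
  rcases hsq _ (mul_mem ha hb.1) with e1 | e1 | e1
  · apply hb'.2.2.2
    rw [← inv_eq_of_mul_eq_one_right e1]
    exact inv_eq_of_mul_eq_one_right (by rw [← mul_assoc, haa, h.es.sq])
  · apply hb'.2.2.1
    exact mul_left_cancel (e1.trans haa.symm)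
  · exact h.es.ne (e1.symm.trans e)

end Hyp

end Cfsg.Agent.Lib.J3Order.Prelim
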