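import Cfsg.Agent.Lib.J3Order.Values
import Cfsg.Agent.Lib.J3Order.Fourier57
import Cfsg.Agent.Lib.J3Order.Cyclic57

/-!
# Groups of `J₃` type: a subgroup of order `19` has normaliser of order `171` and abelian centraliser

Characters exclude a centraliser of order `57`.
-/

set_option autoImplicit false
set_option linter.style.haveILetI false

namespace Cfsg.Agent.Lib.J3Order.NoThree

open Cfsg.Agent.Lib.Characters.Basic Cfsg.Agent.Lib.Characters.Complete
open Cfsg.Agent.Lib.J3Order.Local Cfsg.Agent.Lib.J3Order.Table Cfsg.Agent.Lib.J3Order.Values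
open Cfsg.Agent.Lib.J3Order.Residues Cfsg.Agent.Lib.J3Order.Fourier57 Cfsg.Agent.Lib.J3Order.Cyclic57
open scoped ComplexConjugate

universe u

/-- Exponents acting as the multipliers. -/
def expn : Fin 6 → ℕ := ![1, 44945281, 34369921, 13219201, 21150721, 37013761]

theorem expn_facts : ∀ i, expn i < 50232960 ∧ Nat.gcd (expn i) 50232960 = 1 ∧
    expn i % 2643840 = 1 ∧ (expn i : ZMod 57) = mu i := by decide +kernel

theorem small_degree {k : ℕ} (hk : k ≤ 22) (hd : k ∣ 392445) :
    ∀ B : ℤ, (128 * k : ℤ) ≠ 19 * B + 3 ∧ (128 * k : ℤ) ≠ 19 * B - 3 := by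
  intro B
  interval_cases k <;> norm_num at hd <;> omega

theorem row_zero {r : Data.Row} (h : ∀ x, 6 * Data.dot x r ^ 2 ≤ Data.gram x x) :
    r = ⟨0, 0, 0, 0, 0, 0⟩ := by
  have a1 := h ⟨1, 0, 0, 0, 0, 0⟩
  have a2 := h ⟨0, 1, 0, 0, 0, 0⟩
  have a4 := h ⟨0, 0, 1, 0, 0, 0⟩
  have a5 := h ⟨0, 0, 0, 1, 0, 0⟩
  have a6 := h ⟨0, 0, 0, 0, 1, 0⟩
  have a7 := h ⟨0, 0, 0, 0, 0, 1⟩
  have a8 := h (Data.dual r)
  obtain ⟨c1, cs, c4, c5, c6, c7⟩ := r
  simp [Data.dot, Data.gram, Data.gmul, Data.dual] at a1 a2 a4 a5 a6 a7 a8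
  have b : ∀ {x : ℤ}, 6 * x ^ 2 ≤ 5 → x = 0 := fun {x} hx => by
    have h1 : x < 1 := by nlinarith
    have h2 : -1 < x := by nlinarith
    omega
  obtain rfl := b (x := c1) (by linarith)
  obtain rfl := b (x := c4) (by linarith)
  obtain rfl := b (x := c5) (by linarith)
  obtain rfl := b (x := c6) (by linarith)
  have h2a : cs ≤ 1 := by nlinarith
  have h2b : -1 ≤ cs := by nlinarith
  obtain ⟨h7b, h7a⟩ := abs_le.1 a7
  interval_cases cs <;> interval_cases c7 <;> first | rfl | (norm_num at a8)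

variable {G : Type u} [Group G] [Finite G] {z a t q g : G}

/-- The excluded case for `19`. -/
theorem no_cyc (h : Ctx z a t q) (hn : Nat.card G = 50232960) (hc : Cyc g) : False := by
  classical
  letI := Fintype.ofFinite G
  letI := Fintype.ofFinite (Cfsg.IrrCharacter G)
  have hg := hc.pow
  have hcl : ∀ (χ : Cfsg.IrrCharacter G) {x y : G}, IsConj x y → (χ : G → ℂ) x = (χ : G → ℂ) y :=
    fun χ {x y} hxy => classFunction_apply_of_isConj (isClassFunction_irr χ) hxy
  let U : Fin 6 → (ZMod (Nat.card G))ˣ := fun i =>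
    ZMod.unitOfCoprime (expn i) (by rw [hn]; exact (expn_facts i).2.1)
  let σ : Fin 6 → Cfsg.IrrCharacter G → Cfsg.IrrCharacter G := fun i χ => U i • χ
  have hσ : ∀ i (χ : Cfsg.IrrCharacter G) (x : G), (σ i χ : G → ℂ) x = (χ : G → ℂ) (x ^ expn i) := by
    intro i χ x
    show (χ : G → ℂ) (x ^ BC77.PConj.expo (G := G) (U i)) = _
    rw [BC77.PConj.expo, ZMod.coe_unitOfCoprime, ZMod.val_natCast, Nat.mod_eq_of_lt (hn ▸ (expn_facts i).1)]
  have hσg : ∀ i χ k, (σ i χ : G → ℂ) (pwr g k) = (χ : G → ℂ) (pwr g (mu i * k)) := fun i χ k => by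
    rw [hσ, pwr_mul hg, (expn_facts i).2.2.2]
  have hfix : ∀ (i : Fin 6) (x : G), orderOf x ∣ 2643840 → x ^ expn i = x := fun i x hx => by
    conv_rhs => rw [← pow_one x]
    refine pow_eq_pow_iff_modEq.2 ((Nat.ModEq.of_dvd hx ?_))
    show expn i % 2643840 = 1 % 2643840
    rw [(expn_facts i).2.2.1]
  have hprime : ∀ x : G, ¬ 19 ∣ orderOf x → orderOf x ∣ 2643840 := fun x hx => by
    have hd := orderOf_dvd_natCard x
    rw [hn, show 50232960 = 19 * 2643840 by rfl] at hd
    exact Nat.Coprime.dvd_of_dvd_mul_left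
      (((Nat.Prime.coprime_iff_not_dvd (by norm_num)).2 hx).symm) hd
  -- multiplicities
  choose m hm using fun χ : Cfsg.IrrCharacter G => exists_mult χ hg
  have hF : ∀ (χ : Cfsg.IrrCharacter G) (k : ZMod 57), (χ : G → ℂ) (pwr g k) = ∑ j, (m χ j : ℂ) * psi (j * k) := hm
  have h49 : ∀ χ j, m χ (49 * j) = m χ j := fun χ => congrFun (coeff_unique (c := fun j => m χ (49 * j))
    fun k => by
      rw [← reindex (m χ) (w := 7) (v := 49) (by decide), ← hF, ← hF]
      refine hcl χ ?_
      obtain ⟨d, hd⟩ := isConj_iff.1 hc.seven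
      refine (isConj_iff.2 ⟨d, ?_⟩).symm
      rw [pwr, ← conj_pow, hd, pwr_mul hg, ZMod.natCast_zmod_val, mul_comm])
  let Φ : Cfsg.IrrCharacter G → ℤ := fun χ => phi (m χ)
  -- the total
  have hΦsum : ∑ χ, Φ χ = 342 := by
    apply Int.cast_injective (α := ℂ)
    push_cast
    have e1 : ∑ χ : Cfsg.IrrCharacter G, ∑ k ∈ S, (χ : G → ℂ) (pwr g k) * (χ : G → ℂ) (pwr g (-k)) = 54 * 57 := by
      rw [Finset.sum_comm]
      have : ∀ k ∈ S, ∑ χ : Cfsg.IrrCharacter G, (χ : G → ℂ) (pwr g k) * (χ : G → ℂ) (pwr g (-k)) = 57 := by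
        intro k hk
        have hk' := (Finset.mem_filter.1 hk).2
        simp only [pwr_neg hg, apply_inv (isCharacter_irr _)]
        rw [sum_irr_mul_conj, if_pos (IsConj.refl _), hc.cent k hk']
        norm_num
      rw [Finset.sum_congr rfl this, Finset.sum_const, S_card]
      norm_num
    simp only [hF, square_sum (h49 _)] at e1
    push_cast at e1
    rw [← Finset.mul_sum] at e1
    linear_combination e1 / 9
  have hΦone : Φ (oneChar G) = 6 := by
    have e := square_sum (h49 (oneChar G))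
    simp only [← hF, oneChar_apply, mul_one, Finset.sum_const, S_card] at e
    have e' : ((54 : ℤ) : ℂ) = ((9 * Φ (oneChar G) : ℤ) : ℂ) := by
      rw [← e]; norm_num
    have := Int.cast_injective e'
    omega
  -- the moved characters
  let M := (Finset.univ : Finset (Cfsg.IrrCharacter G)).filter fun χ => σ 1 χ ≠ χ
  have hMcard : 18 ≤ M.card := by
    let T : Finset G := Finset.univ.filter fun x => ¬ IsConj x (x ^ expn 1)
    have hfixc : ∀ χ : Cfsg.IrrCharacter G, ∑ x : G, (χ : G → ℂ) x * conj ((σ 1 χ : G → ℂ) x) =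
        if χ = σ 1 χ then (Nat.card G : ℂ) else 0 := fun χ => by
      have h1 := classInner_irr χ (σ 1 χ)
      rw [Cfsg.classInner, inv_mul_eq_iff_eq_mul₀ (Nat.cast_ne_zero.2 Nat.card_pos.ne')] at h1
      rw [h1, mul_ite, mul_one, mul_zero]
    have hallc : ∀ χ : Cfsg.IrrCharacter G, ∑ x : G, (χ : G → ℂ) x * conj ((χ : G → ℂ) x) =
        (Nat.card G : ℂ) := fun χ => by
      have h1 := classInner_self_irr χ
      rw [Cfsg.classInner, inv_mul_eq_iff_eq_mul₀ (Nat.cast_ne_zero.2 Nat.card_pos.ne'), mul_one] at h1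
      exact h1
    have hcount : M.card * Nat.card G =
        ∑ x ∈ T, Nat.card (Subgroup.centralizer ({x} : Set G)) := by
      apply Nat.cast_injective (R := ℂ)
      push_cast
      calc (M.card : ℂ) * Nat.card G
          = ∑ χ : Cfsg.IrrCharacter G, (∑ x : G, (χ : G → ℂ) x * conj ((χ : G → ℂ) x) -
              ∑ x : G, (χ : G → ℂ) x * conj ((σ 1 χ : G → ℂ) x)) := by
            rw [← nsmul_eq_mul, ← Finset.sum_const, Finset.sum_filter]
            refine Finset.sum_congr rfl fun χ _ => ?_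
            rw [hallc, hfixc]
            by_cases e : σ 1 χ = χ
            · rw [if_neg (not_not.2 e), if_pos e.symm, sub_self]
            · rw [if_pos e, if_neg (Ne.symm e), sub_zero]
        _ = ∑ x : G, ((Nat.card (Subgroup.centralizer ({x} : Set G)) : ℂ) -
              if IsConj x (x ^ expn 1) then (Nat.card (Subgroup.centralizer ({x} : Set G)) : ℂ) else 0) := by
            simp only [Finset.sum_sub_distrib, hσ]
            rw [Finset.sum_comm]
            conv_lhs => enter [2]; rw [Finset.sum_comm]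
            simp only [sum_irr_mul_conj, IsConj.refl, if_true]
            congr!
        _ = _ := by
            rw [Finset.sum_filter]
            refine Finset.sum_congr rfl fun x _ => ?_
            split_ifs <;> simp
    let r : Fin 3 × Fin 6 → G := fun p => pwr g (idx p.1 (pw p.2))
    have hr0 : ∀ p : Fin 3 × Fin 6, 3 * idx p.1 (pw p.2) ≠ 0 := by decide +kernel
    have hdis : (↑(Finset.univ : Finset (Fin 3 × Fin 6)) : Set _).PairwiseDisjoint
        fun p => Finset.univ.filter fun x : G => IsConj (r p) x := by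
      intro p _ p' _ hne
      refine Finset.disjoint_left.2 fun x hx hx' => hne ?_
      obtain ⟨w, hw, e⟩ := hc.fuse _ _ (hr0 p)
        (((Finset.mem_filter.1 hx).2.trans (Finset.mem_filter.1 hx').2.symm))
      obtain ⟨e1, e2⟩ := conj_reps _ _ _ _ w hw e
      exact Prod.ext e1 e2
    have hle : ∑ p : Fin 3 × Fin 6, ∑ x ∈ Finset.univ.filter (fun x : G => IsConj (r p) x),
        Nat.card (Subgroup.centralizer ({x} : Set G)) ≤
          ∑ x ∈ T, Nat.card (Subgroup.centralizer ({x} : Set G)) := by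
      rw [← Finset.sum_biUnion hdis]
      refine Finset.sum_le_sum_of_subset fun x hx => ?_
      obtain ⟨p, -, hp⟩ := Finset.mem_biUnion.1 hx
      refine Finset.mem_filter.2 ⟨Finset.mem_univ _, fun hxx => ?_⟩
      have hp' := (Finset.mem_filter.1 hp).2
      have h2 : IsConj (r p ^ expn 1) (x ^ expn 1) := by
        obtain ⟨d, hd⟩ := isConj_iff.1 hp'
        exact isConj_iff.2 ⟨d, by rw [← conj_pow, hd]⟩
      have h3 := hp'.trans (hxx.trans h2.symm)
      rw [show r p ^ expn 1 = pwr g (mu 1 * idx p.1 (pw p.2)) by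
        rw [pwr_mul hg, (expn_facts 1).2.2.2]] at h3
      obtain ⟨w, hw, e⟩ := hc.fuse _ _ (hr0 p) h3
      exact conj_moved _ _ w hw e
    have hclass : ∀ p : Fin 3 × Fin 6, ∑ x ∈ Finset.univ.filter (fun x : G => IsConj (r p) x),
        Nat.card (Subgroup.centralizer ({x} : Set G)) = Nat.card G := by
      intro p
      rw [Finset.sum_congr rfl fun x hx => (SylowLocal.cent_conj (Finset.mem_filter.1 hx).2).symm,
        Finset.sum_const, smul_eq_mul, ← card_conjugates_mul_centralizer (r p),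
        ← Fintype.card_subtype, ← Nat.card_eq_fintype_card]
    rw [Finset.sum_congr rfl fun p _ => hclass p, Finset.sum_const, smul_eq_mul, ← hcount,
      Finset.card_univ, Fintype.card_prod, Fintype.card_fin, Fintype.card_fin] at hle
    exact Nat.le_of_mul_le_mul_right hle Nat.card_pos
  obtain ⟨χ, hχM, hχ⟩ : ∃ χ ∈ M, Φ χ ≤ 18 := by
    by_contra hall
    simp only [not_exists, not_and, not_le] at hall
    have h1 : (M.card : ℤ) * 19 ≤ ∑ χ ∈ M, Φ χ := by
      have := Finset.card_nsmul_le_sum M Φ 19 fun χ hχ => by have := hall χ hχ; omega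
      rwa [nsmul_eq_mul] at this
    have hone : oneChar G ∉ M := fun e => (Finset.mem_filter.1 e).2 (Subtype.ext (funext fun x => by
      rw [hσ, oneChar_apply, oneChar_apply]))
    have h2 : ∑ χ ∈ M, Φ χ + Φ (oneChar G) ≤ ∑ χ, Φ χ := by
      rw [add_comm, ← Finset.sum_insert hone]
      exact Finset.sum_le_sum_of_subset_of_nonneg (Finset.subset_univ _) fun χ _ _ => phi_nonneg _
    rw [hΦsum, hΦone] at h2
    omega
  have hmv := (Finset.mem_filter.1 hχM).2
  obtain ⟨l, k, hk, hk', hl⟩ : ∃ l k, (diff (m χ) l k = 1 ∨ diff (m χ) l k = -1) ∧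
      (∀ i, i ≠ k → diff (m χ) l i = 0) ∧ ∀ l', l' ≠ l → ∀ i, diff (m χ) l' i = 0 := by
    refine (forms_small hχ).resolve_left fun hconst => hmv (Subtype.ext (funext fun x => ?_))
    rw [hσ]
    by_cases hx : 19 ∣ orderOf x
    · obtain ⟨j, hj⟩ := hc.cover x hx
      obtain ⟨d, hd⟩ := isConj_iff.1 hj
      rw [hcl χ hj, hcl χ (isConj_iff.2 ⟨d, by rw [← conj_pow, hd]⟩ : IsConj (x ^ expn 1) (pwr g j ^ expn 1)),
        pwr_mul hg, (expn_facts 1).2.2.2, hF, hF, reindex (m χ) (mu_nu 1)]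
      refine Finset.sum_congr rfl fun i _ => ?_
      rw [← constant (h49 χ) hconst 1 (nu 1 * i), ← mul_assoc, mu_nu, one_mul]
    · rw [hfix 1 x (hprime x hx)]
  have hinj : Function.Injective fun i => σ i χ := by
    intro i i' e
    refine separates (h49 χ) (by rcases hk with e | e <;> omega) hk' ?_
    refine congrFun (coeff_unique (c := fun x => m χ (nu i * x)) (d := fun x => m χ (nu i' * x)) fun x => ?_)
    rw [← reindex (m χ) (mu_nu i), ← reindex (m χ) (mu_nu i'), ← hF, ← hF, ← hσg, ← hσg]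
    exact congrArg (fun ψ : Cfsg.IrrCharacter G => (ψ : G → ℂ) (pwr g x)) e
  -- six characters with the same row and degree
  choose row hrow c hcong using fun χ => row_data h χ
  have hval : ∀ i j, val a t q (σ i χ) (rk j) = val a t q χ (rk j) := fun i j => by
    refine (hσ i χ _).trans ?_
    rw [hfix i _ (by rw [root_order h j]; fin_cases j <;> norm_num)]
    rfl
  have hdeg : ∀ i, (σ i χ : G → ℂ) 1 = (χ : G → ℂ) 1 := fun i => by rw [hσ, one_pow]
  have hrow6 : ∀ x i, Data.dot x (row (σ i χ)) = Data.dot x (row χ) := fun x i => by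
    apply Int.cast_injective (α := ℂ)
    rw [hrow (σ i χ) x, hrow χ x]
    exact Finset.sum_congr rfl fun j _ => by rw [hval]
  have six : ∀ f : Cfsg.IrrCharacter G → ℤ, (∀ ψ, 0 ≤ f ψ) → (∀ i, f (σ i χ) = f χ) →
      6 * f χ ≤ ∑ ψ, f ψ := by
    intro f hf he
    have h1 : ∑ ψ ∈ Finset.univ.image (fun i => σ i χ), f ψ = 6 * f χ := by
      rw [Finset.sum_image fun i _ i' _ e => hinj e]
      simp [he]
    exact h1 ▸ Finset.sum_le_sum_of_subset_of_nonneg (Finset.subset_univ _) fun ψ _ _ => hf ψ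
  have hgram : ∀ x : Data.Row, ∑ ψ, Data.dot x (row ψ) ^ 2 = Data.gram x x := by
    intro x
    apply Int.cast_injective (α := ℂ)
    push_cast
    rw [Finset.sum_congr rfl fun ψ _ => by rw [hrow ψ x, sq]]
    simp only [L]
    rw [orth h]
    simp only [coef, Matrix.cons_val, Data.gram, Data.gmul, Data.dot]
    push_cast
    ring
  have hr : row χ = ⟨0, 0, 0, 0, 0, 0⟩ := row_zero fun x =>
    (six (fun ψ => Data.dot x (row ψ) ^ 2) (fun ψ => sq_nonneg _) fun i => by rw [hrow6]).trans (hgram x).le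
  let d : Cfsg.IrrCharacter G → ℕ := fun ψ => Cfsg.charDegree (ψ : G → ℂ)
  have hd : ∀ ψ : Cfsg.IrrCharacter G, (ψ : G → ℂ) 1 = (d ψ : ℂ) := fun ψ => (H80.ClassMult.deg_spec ψ).2
  have hsq : ∑ ψ, (d ψ : ℤ) ^ 2 = 50232960 := by
    apply Int.cast_injective (α := ℂ)
    push_cast
    have h1 := sum_degree_mul_apply (G := G) 1
    rw [if_pos rfl, hn] at h1
    simp only [← hd, sq]
    push_cast at h1
    exact h1
  have hd6 : 6 * (d χ : ℤ) ^ 2 ≤ 50232960 := hsq ▸ six (fun ψ => (d ψ : ℤ) ^ 2) (fun ψ => sq_nonneg _)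
    fun i => by
      have : (d (σ i χ) : ℂ) = (d χ : ℂ) := by rw [← hd, ← hd, hdeg]
      rw [Nat.cast_injective this]
  have hdc : (d χ : ℤ) = 128 * c χ := by
    apply Int.cast_injective (α := ℂ)
    have := hcong χ
    rw [hr, hd, show Data.cong (⟨0, 0, 0, 0, 0, 0⟩ : Data.Row) = 0 from rfl, Int.cast_zero, sub_zero] at this
    push_cast
    exact this
  have hdvd : d χ ∣ 50232960 := hn ▸ H80.ClassMult.charDegree_dvd_card χ
  obtain ⟨B, hB⟩ := total (h49 χ)
  have hdB : (d χ : ℤ) = 19 * B + 3 * ∑ l', ∑ i, diff (m χ) l' i := by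
    rw [← hB]
    apply Int.cast_injective (α := ℂ)
    push_cast
    rw [← hd, ← pwr_zero hg, hF]
    simp
  rw [Finset.sum_eq_single l (fun l' _ e => Finset.sum_eq_zero fun i _ => hl l' e i)
    (fun e => absurd (Finset.mem_univ l) e),
    Finset.sum_eq_single k (fun i _ e => hk' i e) (fun e => absurd (Finset.mem_univ k) e)] at hdB
  obtain ⟨K, hK⟩ : 128 ∣ d χ := by omega
  have hKd : K ∣ 392445 := by
    rw [hK, show 50232960 = 128 * 392445 by rfl] at hdvd
    exact Nat.dvd_of_mul_dvd_mul_left (by norm_num) hdvd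
  rw [hK] at hd6 hdB
  push_cast at hd6 hdB
  have hK22 : K ≤ 22 := by nlinarith
  have hbad := small_degree hK22 hKd B
  rcases hk with e | e <;> rw [e] at hdB
  · exact hbad.1 (by linarith)
  · exact hbad.2 (by linarith)

end Cfsg.Agent.Lib.J3Order.NoThree
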