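import Cfsg.Agent.Lib.HJUniq.FromSimple

/-!
# Groups of `J₃` type: the large extraspecial subgroup

`Hyp z Q` records the hypotheses; `Q` then contains its centralizer, is of minus type and, when the
group is simple with one class of involutions, carries five points as in the Hall-Janko setting.
-/

set_option autoImplicit false
set_option linter.style.haveILetI false

namespace Cfsg.Agent.Lib.J3Order.Prelim

open Cfsg.Agent.Lib.LargeExtraspecial.Basic Cfsg.Agent.Lib.HallJanko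

variable {G : Type*} [Group G]

/-- The hypotheses inside the ambient group. -/
structure Hyp (z : G) (Q : Subgroup G) : Prop where
  ord : orderOf z = 2
  es : ES Q z
  card : Nat.card Q = 32
  cent : Nat.card (Subgroup.centralizer ({z} : Set G)) = 1920
  norm : ∀ c : G, Commute c z → ∀ q ∈ Q, c * q * c⁻¹ ∈ Q
  quot : ∃ π : Subgroup.centralizer ({z} : Set G) →* alternatingGroup (Fin 5),
    Function.Surjective π ∧ ∀ c, π c = 1 ↔ (c : G) ∈ Q

theorem alt_five_center : ∀ p : alternatingGroup (Fin 5), (∀ q, p * q = q * p) → p = 1 := by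
  decide +kernel

/-- The hypotheses from those of the statements. -/
theorem exists_hyp [Finite G] (z : G) (hz : orderOf z = 2)
    (E : Subgroup (Subgroup.centralizer ({z} : Set G))) [E.Normal] (hX : Cfsg.IsExtraspecial 2 E)
    (hE : Nat.card E = 32) (e : (Subgroup.centralizer ({z} : Set G)) ⧸ E ≃* alternatingGroup (Fin 5)) :
    ∃ Q : Subgroup G, Q = E.map (Subgroup.centralizer ({z} : Set G)).subtype ∧ Hyp z Q := by
  haveI : Fact (Nat.Prime 2) := ⟨Nat.prime_two⟩
  have hzC : z ∈ (Subgroup.centralizer ({z} : Set G)) := Subgroup.mem_centralizer_singleton_iff.2 rfl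
  set π : (Subgroup.centralizer ({z} : Set G)) →* alternatingGroup (Fin 5) := e.toMonoidHom.comp (QuotientGroup.mk' E) with hπ
  have hsur : Function.Surjective π := e.surjective.comp (QuotientGroup.mk'_surjective E)
  have hker : ∀ c, π c = 1 ↔ c ∈ E := fun c => by
    show e (QuotientGroup.mk' E c) = 1 ↔ _
    rw [e.map_eq_one_iff, QuotientGroup.mk'_apply, QuotientGroup.eq_one_iff]
  have hzQ : (⟨z, hzC⟩ : (Subgroup.centralizer ({z} : Set G))) ∈ E := by
    refine (hker _).1 (alt_five_center _ fun p => ?_)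
    obtain ⟨c, rfl⟩ := hsur p
    rw [← map_mul, ← map_mul]
    exact congrArg π (Subtype.ext (Subgroup.mem_centralizer_singleton_iff.1 c.2).symm)
  set Q := E.map (Subgroup.centralizer ({z} : Set G)).subtype with hQ
  have hQC : Q ≤ (Subgroup.centralizer ({z} : Set G)) := Subgroup.map_subtype_le _
  have hEs : Cfsg.IsExtraspecial 2 Q :=
    Cfsg.Agent.Lib.FusionP3.GenExtra.isExtraspecial_congr (E.equivMapOfInjective _ (Subgroup.centralizer ({z} : Set G)).subtype_injective) hX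
  have hcen : (Subgroup.center ↥Q).map Q.subtype = Subgroup.zpowers z := by
    refine (Subgroup.eq_of_le_of_card_ge (Subgroup.zpowers_le.2 ?_) ?_).symm
    · exact Cfsg.Agent.Lib.LargeExtra.Basic.mem_centerMap.2 ⟨⟨_, hzQ, rfl⟩, fun y hy =>
        Subgroup.mem_centralizer_singleton_iff.1 (hQC hy)⟩
    · rw [Cfsg.Agent.Lib.LargeExtra.Basic.card_centerMap hEs, Nat.card_zpowers, hz]
  refine ⟨Q, rfl, hz, (Cfsg.Agent.Lib.LargeExtra.TwoConjugate.es_of hEs hcen).1, ?_, ?_, ?_,
    π, hsur, fun c => (hker c).trans ⟨fun h => ⟨c, h, rfl⟩, ?_⟩⟩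
  · rw [hQ, Subgroup.card_map_of_injective (Subgroup.centralizer ({z} : Set G)).subtype_injective, hE]
  · rw [← Subgroup.card_mul_index E, Subgroup.index_eq_card, Nat.card_congr e.toEquiv, hE,
      Nat.card_eq_fintype_card]
    rfl
  · rintro c hc q ⟨q', hq', rfl⟩
    exact ⟨⟨c, Subgroup.mem_centralizer_singleton_iff.2 hc⟩ * q' *
      ⟨c, Subgroup.mem_centralizer_singleton_iff.2 hc⟩⁻¹,
      Subgroup.Normal.conj_mem inferInstance q' hq' _, rfl⟩
  · rintro ⟨c', hc', hcc⟩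
    exact (Subgroup.centralizer ({z} : Set G)).subtype_injective hcc ▸ hc'

namespace Hyp

variable {z : G} {Q : Subgroup G}

theorem le_cent (h : Hyp z Q) : Q ≤ Subgroup.centralizer ({z} : Set G) := fun q hq =>
  Subgroup.mem_centralizer_singleton_iff.2 (h.es.comm q hq)

theorem swap_cases (h : Hyp z Q) {a b : G} (ha : a ∈ Q) (hb : b ∈ Q) :
    a * b = b * a ∨ a * b = b * a * z := by
  rcases h.es.conj a ha b hb with e | e
  · exact Or.inl (mul_inv_eq_iff_eq_mul.1 e)
  · right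
    rw [mul_inv_eq_iff_eq_mul.1 e, mul_assoc, ← (h.es.comm a ha).eq, ← mul_assoc]

/-- Two elements of `Q` commuting with a given element of `C(z)` fail to commute. -/
theorem exists_pair [Finite G] (h : Hyp z Q) {w : G} (hw : ∀ p ∈ Q, p * w = w * p ∨ p * w = w * p * z) :
    ∃ a ∈ Q, ∃ b ∈ Q, Commute a w ∧ Commute b w ∧ a * b = b * a * z := by
  classical
  by_contra hno
  simp only [not_exists, not_and] at hno
  set K := Q ⊓ Subgroup.centralizer ({w} : Set G) with hK
  have hKab : ∀ a ∈ K, ∀ b ∈ K, Commute a b := fun a ha b hb =>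
    (h.swap_cases ha.1 hb.1).resolve_right (hno a ha.1 b hb.1
      (Subgroup.mem_centralizer_singleton_iff.1 ha.2) (Subgroup.mem_centralizer_singleton_iff.1 hb.2))
  have hcomb : ∀ r₁ ∈ Q, ∀ r₂ ∈ Q, r₁ ∉ K → r₂ ∉ K → r₁⁻¹ * r₂ ∈ K := by
    intro r₁ h1 r₂ h2 n1 n2
    have e1 := (hw r₁ h1).resolve_left fun e => n1 ⟨h1, Subgroup.mem_centralizer_singleton_iff.2 e⟩
    have e2 := (hw r₂ h2).resolve_left fun e => n2 ⟨h2, Subgroup.mem_centralizer_singleton_iff.2 e⟩
    refine ⟨Q.mul_mem (Q.inv_mem h1) h2, Subgroup.mem_centralizer_singleton_iff.2 ?_⟩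
    have hz1 : Commute r₁ z := h.es.comm r₁ h1
    have hz2 : Commute r₂ z := h.es.comm r₂ h2
    calc r₁⁻¹ * r₂ * w = r₁⁻¹ * (w * r₂ * z) := by rw [mul_assoc, e2]
      _ = r₁⁻¹ * (w * r₁ * z) * (r₁⁻¹ * r₂) := by
          rw [show w * r₁ * z = w * (r₁ * z) by group, hz1.eq, show w * r₂ * z = w * (r₂ * z) by group,
            hz2.eq]
          group
      _ = r₁⁻¹ * (r₁ * w) * (r₁⁻¹ * r₂) := by rw [e1]
      _ = w * (r₁⁻¹ * r₂) := by group
  obtain ⟨r, hr, hsub⟩ : ∃ r ∈ Q, (Q : Set G) ⊆ (K : Set G) ∪ (fun k => r * k) '' (K : Set G) := by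
    by_cases hall : ∀ q ∈ Q, q ∈ K
    · exact ⟨1, one_mem _, fun q hq => Or.inl (hall q hq)⟩
    · simp only [not_forall] at hall
      obtain ⟨r, hr, hrK⟩ := hall
      refine ⟨r, hr, fun q hq => ?_⟩
      by_cases hqK : q ∈ K
      · exact Or.inl hqK
      · exact Or.inr ⟨r⁻¹ * q, hcomb r hr q hq hrK hqK, mul_inv_cancel_left r q⟩
  have hKcard : Nat.card K ≤ 4 := by
    -- `k ↦ [r, k]` is a homomorphism with central kernel
    have hcen : ∀ k ∈ K, Commute r k → k = 1 ∨ k = z := by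
      intro k hk hrk
      refine h.es.center k hk.1 fun p hp => ?_
      rcases hsub hp with hpK | ⟨k', hk', rfl⟩
      · exact hKab p hpK k hk
      · exact hrk.mul_left (hKab k' hk' k hk)
    have hcap : ∀ k₀ ∈ K, ¬ Commute r k₀ → ∀ k ∈ K, k = 1 ∨ k = z ∨ k = k₀ ∨ k = k₀ * z := by
      intro k₀ hk₀ hn k hk
      by_cases hc : Commute r k
      · exact (hcen k hk hc).imp id Or.inl
      have e0 := (h.swap_cases hr hk₀.1).resolve_left hn
      have e1 := (h.swap_cases hr hk.1).resolve_left hc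
      have hzk : Commute z k := (h.es.comm k hk.1).symm
      have hc' : Commute r (k₀⁻¹ * k) := by
        have e0' : r * k₀⁻¹ = k₀⁻¹ * r * z := by
          have hzk0 : Commute k₀ z := h.es.comm k₀ hk₀.1
          have hzr : Commute r z := h.es.comm r hr
          calc r * k₀⁻¹ = k₀⁻¹ * (k₀ * r * z) * z * k₀⁻¹ := by
                rw [show k₀⁻¹ * (k₀ * r * z) * z = r * (z * z) by group, h.es.sq, mul_one]
            _ = k₀⁻¹ * (r * k₀) * z * k₀⁻¹ := by rw [e0]
            _ = k₀⁻¹ * r * (k₀ * z) * k₀⁻¹ := by group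
            _ = _ := by rw [hzk0.eq]; group
        calc r * (k₀⁻¹ * k) = k₀⁻¹ * r * z * k := by rw [← mul_assoc, e0']
          _ = k₀⁻¹ * (r * k) * z := by rw [mul_assoc _ z k, hzk.eq]; group
          _ = k₀⁻¹ * k * r * (z * z) := by rw [e1]; group
          _ = k₀⁻¹ * k * r := by rw [h.es.sq, mul_one]
      rcases hcen _ (mul_mem (inv_mem hk₀) hk) hc' with e | e
      · exact Or.inr (Or.inr (Or.inl (inv_mul_eq_one.1 e).symm))
      · exact Or.inr (Or.inr (Or.inr (inv_mul_eq_iff_eq_mul.1 e)))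
    by_cases hex : ∃ k₀ ∈ K, ¬ Commute r k₀
    · obtain ⟨k₀, hk₀, hn⟩ := hex
      have hs : (K : Set G) ⊆ ({1, z, k₀, k₀ * z} : Finset G) := fun k hk => by
        simpa using hcap k₀ hk₀ hn k hk
      have h1 := Set.ncard_le_ncard hs (Set.toFinite _)
      rw [← Nat.card_coe_set_eq, Set.ncard_coe_finset] at h1
      exact h1.trans Finset.card_le_four
    · simp only [not_exists, not_and, not_not] at hex
      have hs : (K : Set G) ⊆ ({1, z} : Finset G) := fun k hk => by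
        simpa using hcen k hk (hex k hk)
      have h1 := Set.ncard_le_ncard hs (Set.toFinite _)
      rw [← Nat.card_coe_set_eq, Set.ncard_coe_finset] at h1
      exact h1.trans (Finset.card_le_two.trans (by norm_num))
  have h1 := (Set.ncard_le_ncard hsub (Set.toFinite _)).trans (Set.ncard_union_le _ _)
  rw [Set.ncard_image_of_injective _ (mul_right_injective r), ← Nat.card_coe_set_eq,
    ← Nat.card_coe_set_eq, show Nat.card (Q : Set G) = 32 from h.card] at h1
  have : Nat.card (K : Set G) ≤ 4 := hKcard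
  omega

theorem two_group_comm {X : Subgroup (alternatingGroup (Fin 5))} (hX : IsPGroup 2 X)
    {a b : alternatingGroup (Fin 5)} (ha : a ∈ X) (hb : b ∈ X) : a * b = b * a := by
  haveI : Fact (Nat.Prime 2) := ⟨Nat.prime_two⟩
  obtain ⟨k, hk⟩ := IsPGroup.iff_card.1 hX
  have hd : Nat.card X ∣ 60 := by
    have := Subgroup.card_subgroup_dvd_card X
    rwa [show Nat.card (alternatingGroup (Fin 5)) = 60 by rw [Nat.card_eq_fintype_card]; rfl] at this
  have hk2 : k ≤ 2 := by
    by_contra hc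
    have : (2 : ℕ) ^ 3 ∣ 60 := (pow_dvd_pow 2 (by omega : 3 ≤ k)).trans (hk ▸ hd)
    norm_num at this
  rcases (show k = 0 ∨ k = 1 ∨ k = 2 by omega) with rfl | rfl | rfl
  · rw [pow_zero, Subgroup.card_eq_one] at hk
    rw [hk, Subgroup.mem_bot] at ha
    simp [ha]
  · rw [pow_one] at hk
    haveI := isCyclic_of_prime_card hk
    exact congrArg Subtype.val (IsCyclic.commGroup.mul_comm ⟨a, ha⟩ ⟨b, hb⟩)
  · exact congrArg Subtype.val (IsPGroup.commutative_of_card_eq_prime_sq hk ⟨a, ha⟩ ⟨b, hb⟩)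

/-- `Q` contains its centralizer. -/
theorem self [Finite G] [IsSimpleGroup G] (h : Hyp z Q) :
    ∀ c : G, (∀ q ∈ Q, Commute c q) → c = 1 ∨ c = z := by
  classical
  intro c₀ hc₀
  by_contra hcne
  haveI : Fact (Nat.Prime 2) := ⟨Nat.prime_two⟩
  obtain ⟨π, hsur, hker⟩ := h.quot
  have hc₀C : c₀ ∈ (Subgroup.centralizer ({z} : Set G)) := Subgroup.mem_centralizer_singleton_iff.2 (hc₀ z h.es.mem).eq
  let K : Subgroup (Subgroup.centralizer ({z} : Set G)) :=
    { carrier := {c | ∀ q ∈ Q, Commute (c : G) q}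
      one_mem' := fun q _ => Commute.one_left q
      mul_mem' := fun {a b} ha hb q hq => (ha q hq).mul_left (hb q hq)
      inv_mem' := fun {a} ha q hq => (ha q hq).inv_left }
  have hKn : K.Normal := ⟨fun k hk d q hq => by
    have h1 := hk ((d : G)⁻¹ * q * d) (by
      have := h.norm ((d : G)⁻¹) (Commute.inv_left (Subgroup.mem_centralizer_singleton_iff.1 d.2)) q hq
      rwa [inv_inv] at this)
    have h2 := h1.map (MulAut.conj (d : G))
    simpa [mul_assoc] using h2⟩
  have hπc : π ⟨c₀, hc₀C⟩ ≠ 1 := fun e =>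
    hcne (h.es.center c₀ ((hker ⟨c₀, hc₀C⟩).1 e) fun p hp => (hc₀ p hp).symm)
  have htop : K.map π = ⊤ := by
    haveI : IsSimpleGroup (alternatingGroup (Fin 5)) := alternatingGroup.isSimpleGroup (by simp)
    refine (IsSimpleGroup.eq_bot_or_eq_top_of_normal _ (hKn.map π hsur)).resolve_left fun e => hπc ?_
    have : π ⟨c₀, hc₀C⟩ ∈ K.map π := ⟨⟨c₀, hc₀C⟩, hc₀, rfl⟩
    rwa [e, Subgroup.mem_bot] at this
  -- a Sylow subgroup of `C(z)` has derived subgroup `⟨z⟩`
  obtain ⟨S⟩ : Nonempty (Sylow 2 (Subgroup.centralizer ({z} : Set G))) := inferInstance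
  have hQn : (Q.subgroupOf (Subgroup.centralizer ({z} : Set G))).Normal := ⟨fun q hq d => h.norm d.1
    (Subgroup.mem_centralizer_singleton_iff.1 d.2) q.1 hq⟩
  have hQS : Q.subgroupOf (Subgroup.centralizer ({z} : Set G)) ≤ (S : Subgroup (Subgroup.centralizer ({z} : Set G))) :=
    IsPGroup.le_sylow_of_normal ((IsPGroup.of_card (n := 5) (by rw [h.card]; norm_num)).of_equiv
      (Subgroup.subgroupOfEquivOfLe h.le_cent).symm) S
  have hdec : ∀ x ∈ S, ∃ q : (Subgroup.centralizer ({z} : Set G)), (q : G) ∈ Q ∧ ∃ k ∈ S, k ∈ K ∧ x = q * k := by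
    intro x hx
    obtain ⟨k, hk, hkx⟩ : π x ∈ K.map π := htop ▸ Subgroup.mem_top _
    have hq : ((x * k⁻¹ : (Subgroup.centralizer ({z} : Set G))) : G) ∈ Q := (hker _).1 (by rw [map_mul, map_inv, hkx, mul_inv_cancel])
    refine ⟨x * k⁻¹, hq, k, ?_, hk, by rw [inv_mul_cancel_right]⟩
    show k ∈ (S : Subgroup (Subgroup.centralizer ({z} : Set G)))
    have := mul_mem (inv_mem (hQS (Subgroup.mem_subgroupOf.2 hq))) hx
    simpa using this
  have hcomm : ∀ x ∈ S, ∀ y ∈ S, (x : G) * y = y * x ∨ (x : G) * y = y * x * z := by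
    intro x hx y hy
    obtain ⟨q₁, hq₁, k₁, hk₁S, hk₁, rfl⟩ := hdec x hx
    obtain ⟨q₂, hq₂, k₂, hk₂S, hk₂, rfl⟩ := hdec y hy
    have hπ12 : π k₁ * π k₂ = π k₂ * π k₁ :=
      two_group_comm (S.2.map π) ⟨k₁, hk₁S, rfl⟩ ⟨k₂, hk₂S, rfl⟩
    have hkk : (k₁ : G) * k₂ = k₂ * k₁ ∨ (k₁ : G) * k₂ = k₂ * k₁ * z := by
      have hd : ((((k₂ * k₁)⁻¹ * (k₁ * k₂)) : (Subgroup.centralizer ({z} : Set G))) : G) ∈ Q := (hker _).1 (by
        rw [map_mul, map_inv, map_mul, map_mul, hπ12, inv_mul_cancel])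
      have hdK : (k₂ * k₁)⁻¹ * (k₁ * k₂) ∈ K := mul_mem (inv_mem (mul_mem hk₂ hk₁)) (mul_mem hk₁ hk₂)
      rcases h.es.center _ hd (fun p hp => (hdK p hp).symm) with e | e
      · left
        have e' : ((k₂ : G) * k₁)⁻¹ * ((k₁ : G) * k₂) = 1 := e
        exact (inv_mul_eq_one.1 e').symm
      · right
        have e' : ((k₂ : G) * k₁)⁻¹ * ((k₁ : G) * k₂) = z := e
        rw [← inv_mul_eq_iff_eq_mul, e']
    have hzk : Commute z ((k₂ : G) * k₁) :=
      ((Subgroup.mem_centralizer_singleton_iff.1 (mul_mem k₂.2 k₁.2) :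
        Commute ((k₂ : G) * k₁) z)).symm
    have e12 : ((q₁ * k₁ : (Subgroup.centralizer ({z} : Set G))) : G) * ((q₂ * k₂ : (Subgroup.centralizer ({z} : Set G))) : G) = (q₁ * q₂ : G) * (k₁ * k₂) := by
      push_cast
      calc (q₁ : G) * k₁ * (q₂ * k₂) = q₁ * ((k₁ : G) * q₂) * k₂ := by group
        _ = _ := by rw [(hk₁ _ hq₂).eq]; group
    have e21 : ((q₂ * k₂ : (Subgroup.centralizer ({z} : Set G))) : G) * ((q₁ * k₁ : (Subgroup.centralizer ({z} : Set G))) : G) = (q₂ * q₁ : G) * (k₂ * k₁) := by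
      push_cast
      calc (q₂ : G) * k₂ * (q₁ * k₁) = q₂ * ((k₂ : G) * q₁) * k₁ := by group
        _ = _ := by rw [(hk₂ _ hq₁).eq]; group
    rw [e12, e21]
    rcases h.swap_cases hq₁ hq₂ with a | a <;> rcases hkk with b | b <;> rw [a, b]
    · exact Or.inl rfl
    · right; group
    · right
      rw [show (q₂ : G) * q₁ * z * (k₂ * k₁) = q₂ * q₁ * (z * ((k₂ : G) * k₁)) by group, hzk.eq]
      group
    · left
      rw [show (q₂ : G) * q₁ * z * (k₂ * k₁ * z) = q₂ * q₁ * (z * ((k₂ : G) * k₁)) * z by group, hzk.eq,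
        show (q₂ : G) * q₁ * (k₂ * k₁ * z) * z = q₂ * q₁ * (k₂ * k₁) * (z * z) by group, h.es.sq, mul_one]
  obtain ⟨a, haQ, b, hbQ, -, -, hab⟩ :=
    h.exists_pair (w := 1) fun p _ => Or.inl (by rw [mul_one, one_mul])
  -- it is a Sylow subgroup of the group
  set T := (S : Subgroup (Subgroup.centralizer ({z} : Set G))).map (Subgroup.centralizer ({z} : Set G)).subtype with hT
  have hQT : Q ≤ T := fun q hq => ⟨⟨q, h.le_cent hq⟩, hQS (Subgroup.mem_subgroupOf.2 hq), rfl⟩
  have hTC : T ≤ (Subgroup.centralizer ({z} : Set G)) := Subgroup.map_subtype_le _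
  have hTcomm : ∀ x ∈ T, ∀ y ∈ T, x * y = y * x ∨ x * y = y * x * z := by
    rintro _ ⟨x, hx, rfl⟩ _ ⟨y, hy, rfl⟩
    exact hcomm x hx y hy
  obtain ⟨P, hP⟩ := (S.2.map (Subgroup.centralizer ({z} : Set G)).subtype).exists_le_sylow
  have hPT : (P : Subgroup G) ≤ T := by
    haveI : Group.IsNilpotent (P : Subgroup G) := P.2.isNilpotent
    by_contra hne
    have hlt : T.subgroupOf (P : Subgroup G) < ⊤ :=
      lt_top_iff_ne_top.2 fun e => hne (Subgroup.subgroupOf_eq_top.1 e)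
    obtain ⟨y, hyN, hy⟩ := SetLike.exists_of_lt
      (normalizerCondition_of_isNilpotent (T.subgroupOf (P : Subgroup G)) hlt)
    have hyc : ∀ x ∈ T, (y : G) * x * (y : G)⁻¹ ∈ T := fun x hx =>
      (Subgroup.mem_normalizer_iff.1 hyN ⟨x, hP hx⟩).1 hx
    have e : ((y : G) * a * (y : G)⁻¹) * ((y : G) * b * (y : G)⁻¹) =
        ((y : G) * b * (y : G)⁻¹) * ((y : G) * a * (y : G)⁻¹) * ((y : G) * z * (y : G)⁻¹) := by
      calc _ = (y : G) * (a * b) * (y : G)⁻¹ := by group
        _ = _ := by rw [hab]; group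
    rcases hTcomm _ (hyc a (hQT haQ)) _ (hyc b (hQT hbQ)) with e' | e' <;> rw [e'] at e
    · exact h.es.ne (conj_eq_one_iff.1 (mul_eq_left.1 e.symm))
    · have hyC : (y : G) ∈ (Subgroup.centralizer ({z} : Set G)) := Subgroup.mem_centralizer_singleton_iff.2
        (mul_inv_eq_iff_eq_mul.1 (mul_left_cancel e).symm)
      have hle : (S : Subgroup (Subgroup.centralizer ({z} : Set G))) ≤ ((P : Subgroup G) ⊓ (Subgroup.centralizer ({z} : Set G))).subgroupOf (Subgroup.centralizer ({z} : Set G)) := fun x hx =>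
        ⟨hP ⟨x, hx, rfl⟩, x.2⟩
      have hp : IsPGroup 2 (((P : Subgroup G) ⊓ (Subgroup.centralizer ({z} : Set G))).subgroupOf (Subgroup.centralizer ({z} : Set G))) :=
        (P.2.to_le inf_le_left).comap_of_injective _ (Subgroup.centralizer ({z} : Set G)).subtype_injective
      have he := S.3 hp hle
      exact hy ⟨⟨y, hyC⟩, he ▸ (⟨y.2, hyC⟩ : (⟨y, hyC⟩ : (Subgroup.centralizer ({z} : Set G))) ∈ ((P : Subgroup G) ⊓ (Subgroup.centralizer ({z} : Set G))).subgroupOf (Subgroup.centralizer ({z} : Set G))), rfl⟩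
  -- a further conjugate of `z` in it
  obtain ⟨g, hgP, hgz⟩ : ∃ g : G, g * z * g⁻¹ ∈ P ∧ g * z * g⁻¹ ≠ z := by
    by_contra hiso
    simp only [not_exists, not_and, not_not] at hiso
    obtain ⟨N, hN, hodd, hc⟩ := Cfsg.Agent.S0215.result P z h.ord (hP (hQT h.es.mem)) hiso
    rcases IsSimpleGroup.eq_bot_or_eq_top_of_normal N hN with e | e
    · have hcen : ∀ x : G, Commute x z := fun x => by
        have h1 := hc x
        rw [e, Subgroup.mem_bot] at h1
        exact (mul_inv_eq_iff_eq_mul.1 (mul_inv_eq_one.1 h1)).symm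
      have hnorm : (Subgroup.zpowers z).Normal := ⟨fun x hx y => by
        obtain ⟨k, rfl⟩ := Subgroup.mem_zpowers_iff.1 hx
        rw [((hcen y).zpow_right k).eq, mul_inv_cancel_right]
        exact Subgroup.mem_zpowers_iff.2 ⟨k, rfl⟩⟩
      rcases IsSimpleGroup.eq_bot_or_eq_top_of_normal _ hnorm with e' | e'
      · exact h.es.ne (Subgroup.zpowers_eq_bot.1 e')
      · have hG : Nat.card G = 2 := by rw [← Subgroup.card_top, ← e', Nat.card_zpowers, h.ord]
        have := Subgroup.card_le_card_group Q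
        rw [h.card, hG] at this
        omega
    · rw [e, Subgroup.card_top] at hodd
      exact Nat.not_even_iff_odd.2 hodd (even_iff_two_dvd.2 (h.ord ▸ orderOf_dvd_natCard z))
  set w := g * z * g⁻¹ with hw
  obtain ⟨a', ha', b', hb', haw, hbw, hab'⟩ :=
    h.exists_pair (w := w) fun p hp => hTcomm p (hQT hp) w (hPT hgP)
  set φ : G →* G := (MulAut.conj g⁻¹).toMonoidHom with hφ
  have hφw : φ w = z := by simp [hφ, hw, mul_assoc]
  set X := (T ⊓ Subgroup.centralizer ({w} : Set G)).map φ with hX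
  have hXC : X ≤ (Subgroup.centralizer ({z} : Set G)) := by
    rintro _ ⟨x, hx, rfl⟩
    have h1 : Commute x w := Subgroup.mem_centralizer_singleton_iff.1 hx.2
    have h2 : Commute (φ x) (φ w) := h1.map φ
    exact Subgroup.mem_centralizer_singleton_iff.2 (hφw ▸ h2)
  have hXp : IsPGroup 2 (X.subgroupOf (Subgroup.centralizer ({z} : Set G))) :=
    ((((S.2.map (Subgroup.centralizer ({z} : Set G)).subtype).to_le inf_le_left).map φ)).of_equiv (Subgroup.subgroupOfEquivOfLe hXC).symm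
  obtain ⟨S', hS'⟩ := hXp.exists_le_sylow
  obtain ⟨d, hd⟩ := MulAction.exists_smul_eq (Subgroup.centralizer ({z} : Set G)) S' S
  have hmem : ∀ x : G, x ∈ T → Commute x w → (d : G) * φ x * (d : G)⁻¹ ∈ T := by
    intro x hx hxw
    have hxX : φ x ∈ X := ⟨x, ⟨hx, Subgroup.mem_centralizer_singleton_iff.2 hxw⟩, rfl⟩
    refine ⟨d * ⟨φ x, hXC hxX⟩ * d⁻¹, ?_, rfl⟩
    show d * ⟨φ x, hXC hxX⟩ * d⁻¹ ∈ (S : Subgroup (Subgroup.centralizer ({z} : Set G)))
    rw [← hd, Sylow.coe_subgroup_smul]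
    exact ⟨⟨φ x, hXC hxX⟩, hS' (Subgroup.mem_subgroupOf.2 hxX), rfl⟩
  set ψ : G →* G := (MulAut.conj (d : G)).toMonoidHom with hψ
  have hψz : ψ z = z := mul_inv_eq_iff_eq_mul.2 (Subgroup.mem_centralizer_singleton_iff.1 d.2)
  have e1 : ψ (φ a') * ψ (φ b') = ψ (φ b') * ψ (φ a') * ψ (φ z) := by
    simp only [← map_mul, hab']
  have hzz : ψ (φ z) = z := by
    rcases hTcomm _ (hmem a' (hQT ha') haw) _ (hmem b' (hQT hb') hbw) with e | e
    · have e' : ψ (φ a') * ψ (φ b') = ψ (φ b') * ψ (φ a') := e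
      rw [e1] at e'
      exact absurd ((MulAut.conj g⁻¹).injective (((MulAut.conj (d : G)).injective
        ((mul_eq_left.1 e').trans (map_one ψ).symm)).trans (map_one φ).symm)) h.es.ne
    · have e' : ψ (φ a') * ψ (φ b') = ψ (φ b') * ψ (φ a') * z := e
      exact mul_left_cancel (e1.symm.trans e')
  refine hgz ?_
  have e2 : ψ (φ z) = ψ (φ w) := by rw [hφw, hψz, hzz]
  exact ((MulAut.conj g⁻¹).injective ((MulAut.conj (d : G)).injective e2)).symm

/-- A Sylow `2`-subgroup of the group has order at most `2 ^ 7`. -/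
theorem not_dvd_256 [Finite G] [IsSimpleGroup G] (h : Hyp z Q) : ¬ 2 ^ 8 ∣ Nat.card G := by
  intro hdvd
  haveI : Fact (Nat.Prime 2) := ⟨Nat.prime_two⟩
  obtain ⟨P, hP⟩ :=
    (IsPGroup.of_card (p := 2) (n := 5) (show Nat.card Q = 2 ^ 5 by rw [h.card]; norm_num)).exists_le_sylow
  haveI : Nontrivial (P : Subgroup G) :=
    ⟨⟨⟨z, hP h.es.mem⟩, 1, fun e => h.es.ne (congrArg Subtype.val e)⟩⟩
  obtain ⟨n, hn1⟩ : ∃ n : Subgroup.center (P : Subgroup G), n ≠ 1 := by
    haveI := P.2.center_nontrivial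
    exact exists_ne 1
  have hnz : ((n : (P : Subgroup G)) : G) = z :=
    (h.self _ fun q hq => (show Commute ((n : (P : Subgroup G)) : G) q from
      (congrArg Subtype.val (Subgroup.mem_center_iff.1 n.2 ⟨q, hP hq⟩)).symm)).resolve_left
      fun e => hn1 (Subtype.ext (Subtype.ext e))
  have hPC : (P : Subgroup G) ≤ Subgroup.centralizer ({z} : Set G) := fun x hx => by
    have := congrArg Subtype.val (Subgroup.mem_center_iff.1 n.2 ⟨x, hx⟩)
    rw [Subgroup.coe_mul, Subgroup.coe_mul, hnz] at this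
    exact Subgroup.mem_centralizer_singleton_iff.2 this
  have h1 : 2 ^ 8 ∣ Nat.card (P : Subgroup G) := P.pow_dvd_card_of_pow_dvd_card hdvd
  have := h1.trans (Subgroup.card_dvd_of_le hPC)
  rw [h.cent] at this
  norm_num at this

end Hyp

end Cfsg.Agent.Lib.J3Order.Prelim
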