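import Mathlib

/-!
# Groups of `J₃` type: residues modulo `57` and short vectors

A multiplicity function on `ZMod 57` invariant under `7` is given on each of the three residues modulo `3`
by seven integers; a quadratic form of small value forces one of the six cosets to stand out.
-/

set_option autoImplicit false

namespace Cfsg.Agent.Lib.J3Order.Residues

/-- The element congruent to `r` modulo `19` and to `l` modulo `3`. -/
def idx (l : Fin 3) (r : ℕ) : ZMod 57 := 39 * (r : ZMod 57) + 19 * ((l : ℕ) : ZMod 57)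

/-- The representatives of the six cosets. -/
def pw : Fin 6 → ℕ := ![1, 2, 4, 8, 16, 13]

/-- The multiplier congruent to `2 ^ i` modulo `19` and to `1` modulo `3`. -/
def mu : Fin 6 → ZMod 57 := ![1, 40, 4, 46, 16, 13]

/-- Its inverse. -/
def nu : Fin 6 → ZMod 57 := ![1, 10, 43, 31, 25, 22]

theorem mu_nu : ∀ i, mu i * nu i = 1 := by decide +kernel

theorem mu_eq : ∀ i, mu i = idx 1 (pw i) := by decide +kernel

theorem idx_bij : Function.Bijective fun p : Fin 3 × Fin 19 => idx p.1 p.2 := by decide +kernel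

theorem idx_split : ∀ (l : Fin 3) (r : Fin 19), r = 0 ∨ ∃ i : Fin 6,
    idx l r = idx l (pw i) ∨ idx l r = 49 * idx l (pw i) ∨ idx l r = 49 * (49 * idx l (pw i)) := by
  decide +kernel

theorem idx_orbits : ∀ l : Fin 3,
    49 * idx l 1 = idx l 11 ∧ 49 * idx l 11 = idx l 7 ∧
    49 * idx l 2 = idx l 3 ∧ 49 * idx l 3 = idx l 14 ∧
    49 * idx l 4 = idx l 6 ∧ 49 * idx l 6 = idx l 9 ∧
    49 * idx l 8 = idx l 12 ∧ 49 * idx l 12 = idx l 18 ∧
    49 * idx l 16 = idx l 5 ∧ 49 * idx l 5 = idx l 17 ∧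
    49 * idx l 13 = idx l 10 ∧ 49 * idx l 10 = idx l 15 := by decide +kernel

theorem mu_idx : ∀ (i : Fin 6) (l : Fin 3), mu i * idx l 0 = idx l 0 := by decide +kernel

theorem mu_step : ∀ (i : Fin 6) (l : Fin 3) (k : Fin 6), ∃ k' : Fin 6, mu i * idx l (pw k) = idx l (pw k') ∨
    mu i * idx l (pw k) = 49 * idx l (pw k') ∨ mu i * idx l (pw k) = 49 * (49 * idx l (pw k')) := by
  decide +kernel

theorem conj_reps : ∀ (l l' : Fin 3) (i i' : Fin 6), ∀ t ∈ ([1, 7, 49] : List (ZMod 57)),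
    t * idx l (pw i) = idx l' (pw i') → l = l' ∧ i = i' := by decide +kernel

theorem conj_moved : ∀ (l : Fin 3) (i : Fin 6), ∀ t ∈ ([1, 7, 49] : List (ZMod 57)),
    t * idx l (pw i) ≠ mu 1 * idx l (pw i) := by decide +kernel

theorem reps_ne : ∀ (l : Fin 3) (i : Fin 6),
    idx l (pw i) ≠ 0 ∧ idx l (pw i) ≠ 19 ∧ idx l (pw i) ≠ 38 := by decide +kernel

theorem nu_separates : ∀ (l : Fin 3) (k i i' : Fin 6), ∀ t ∈ ([1, 49, 7] : List (ZMod 57)),
    nu i' * (mu i * idx l (pw k)) = t * idx l (pw k) → i = i' := by decide +kernel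

theorem nu_lands : ∀ (l : Fin 3) (k i i' : Fin 6), ∃ j : Fin 6, ∃ t ∈ ([1, 49, 7] : List (ZMod 57)),
    nu i' * (mu i * idx l (pw k)) = t * idx l (pw j) := by decide +kernel

/-- The quadratic form of a residue modulo `3`. -/
def form (a : Fin 6 → ℤ) : ℤ :=
  19 * (a 0 ^ 2 + a 1 ^ 2 + a 2 ^ 2 + a 3 ^ 2 + a 4 ^ 2 + a 5 ^ 2) -
    3 * (a 0 + a 1 + a 2 + a 3 + a 4 + a 5) ^ 2

theorem form_ge (a : Fin 6 → ℤ) (i : Fin 6) :
    4 * form a ≥ 19 * a i ^ 2 ∧ 0 ≤ form a := by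
  have key : ∀ x b c d e f : ℤ,
      4 * (19 * (x ^ 2 + b ^ 2 + c ^ 2 + d ^ 2 + e ^ 2 + f ^ 2) - 3 * (x + b + c + d + e + f) ^ 2) ≥
        19 * x ^ 2 := by
    intro x b c d e f
    nlinarith [sq_nonneg (3 * x - 4 * b), sq_nonneg (3 * x - 4 * c), sq_nonneg (3 * x - 4 * d),
      sq_nonneg (3 * x - 4 * e), sq_nonneg (3 * x - 4 * f), sq_nonneg (b - c), sq_nonneg (b - d),
      sq_nonneg (b - e), sq_nonneg (b - f), sq_nonneg (c - d), sq_nonneg (c - e), sq_nonneg (c - f),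
      sq_nonneg (d - e), sq_nonneg (d - f), sq_nonneg (e - f)]
  have h : 4 * form a ≥ 19 * a i ^ 2 := by
    unfold form
    fin_cases i
    · have := key (a 0) (a 1) (a 2) (a 3) (a 4) (a 5); simp; linarith
    · have := key (a 1) (a 0) (a 2) (a 3) (a 4) (a 5); simp; linarith
    · have := key (a 2) (a 1) (a 0) (a 3) (a 4) (a 5); simp; linarith
    · have := key (a 3) (a 1) (a 2) (a 0) (a 4) (a 5); simp; linarith
    · have := key (a 4) (a 1) (a 2) (a 3) (a 0) (a 5); simp; linarith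
    · have := key (a 5) (a 1) (a 2) (a 3) (a 4) (a 0); simp; linarith
  exact ⟨h, by nlinarith [sq_nonneg (a i)]⟩

theorem form_small_box : ∀ a b c d e f : Fin 3,
    let v : Fin 6 → ℤ := ![(a : ℤ) - 1, (b : ℤ) - 1, (c : ℤ) - 1, (d : ℤ) - 1, (e : ℤ) - 1, (f : ℤ) - 1]
    form v ≤ 18 → (∀ i, v i = v 0) ∧ (form v = 0 → ∀ i, v i = 0) ∧ (form v = 0 ∨ 3 ≤ form v) ∨
      16 ≤ form v ∧ ∃ k, (v k = 1 ∨ v k = -1) ∧ ∀ i, i ≠ k → v i = 0 := by decide +kernel

/-- A vector of small form is constant or a signed unit vector. -/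
theorem form_small {a : Fin 6 → ℤ} (h : form a ≤ 18) :
    (∀ i, a i = a 0) ∧ (form a = 0 → ∀ i, a i = 0) ∧ (form a = 0 ∨ 3 ≤ form a) ∨
      16 ≤ form a ∧ ∃ k, (a k = 1 ∨ a k = -1) ∧ ∀ i, i ≠ k → a i = 0 := by
  have hb : ∀ i, ∃ x : Fin 3, a i = (x : ℤ) - 1 := by
    intro i
    have h1 := (form_ge a i).1
    have h2 : -1 ≤ a i := by nlinarith
    have h3 : a i ≤ 1 := by nlinarith
    exact ⟨⟨(a i + 1).toNat, by omega⟩, by simp; omega⟩
  choose x hx using hb
  have e : a = ![(x 0 : ℤ) - 1, (x 1 : ℤ) - 1, (x 2 : ℤ) - 1, (x 3 : ℤ) - 1, (x 4 : ℤ) - 1, (x 5 : ℤ) - 1] := by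
    funext i; fin_cases i <;> simp [hx]
  rw [e] at h ⊢
  exact form_small_box _ _ _ _ _ _ h

/-- The three residues together. -/
theorem forms_small {a : Fin 3 → Fin 6 → ℤ} (h : form (a 0) + form (a 1) + form (a 2) ≤ 18) :
    (∀ l i, a l i = a l 0) ∨ ∃ l k, (a l k = 1 ∨ a l k = -1) ∧ (∀ i, i ≠ k → a l i = 0) ∧
      ∀ l', l' ≠ l → ∀ i, a l' i = 0 := by
  have hn := fun l => (form_ge (a l) 0).2
  have hs : ∀ l, form (a l) ≤ 18 := fun l => by
    have := hn 0; have := hn 1; have := hn 2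
    fin_cases l <;> simp <;> omega
  by_cases hall : ∀ l i, a l i = a l 0
  · exact Or.inl hall
  refine Or.inr ?_
  simp only [not_forall] at hall
  obtain ⟨l, i, hi⟩ := hall
  obtain ⟨h16, k, hk, hk'⟩ := (form_small (hs l)).resolve_left fun hc => hi (hc.1 i)
  refine ⟨l, k, hk, hk', fun l' hl' => ?_⟩
  have hle : form (a l') ≤ 2 := by
    have h0 := Finset.sum_le_sum_of_subset_of_nonneg (f := fun j => form (a j))
      (Finset.subset_univ {l, l'}) (fun j _ _ => hn j)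
    rw [Finset.sum_pair (Ne.symm hl'), Fin.sum_univ_three] at h0
    omega
  rcases form_small (hs l') with ⟨-, h0, h3⟩ | ⟨h16', -⟩
  · exact h0 (h3.resolve_right fun h3 => by omega)
  · omega

end Cfsg.Agent.Lib.J3Order.Residues
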