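import Mathlib

/-!
# Groups of `J₃` type: the finite search for the degrees

Three signed degrees `A, B, C` with `A + B + C = -1` and weights `za, zb, zc` determine the order `g` by
`g * (1 + za / A + zb / B + zc / C) = 29184000`.  The two of equal sign are `|A| ≤ |B|`; the conditions
`A ^ 2 + B ^ 2 + C ^ 2 < g` bound both, so a scan decides which triples are left.
-/

set_option autoImplicit false

namespace Cfsg.Agent.Lib.J3Order.Scan

/-- The constant of the class equation. -/
def W : ℕ := 29184000

/-- The third absolute value. -/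
def third (pos : Bool) (a b : ℕ) : ℕ := cond pos (a + b + 1) (a + b - 1)

/-- The positive part of the denominator. -/
def denP (pos : Bool) (za zb zc a b c : ℕ) : ℕ :=
  cond pos (b * c * (a + za) + zb * (a * c)) (a * b * c + zc * (a * b))

/-- The negative part of the denominator. -/
def denM (pos : Bool) (za zb zc a b c : ℕ) : ℕ :=
  cond pos (zc * (a * b)) (za * (b * c) + zb * (a * c))

/-- A possible order together with the two smaller degrees satisfies `f`. -/
def hit (f : ℕ → ℕ → ℕ → Bool) (pos : Bool) (za zb zc a b : ℕ) : Bool :=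
  let c := third pos a b
  let D := denP pos za zb zc a b c - denM pos za zb zc a b c
  let n := W * (a * b * c)
  Nat.beq D 0 || !(Nat.beq (n % D) 0) ||
    (let g := n / D
     Nat.ble g (a * a + b * b + c * c) || !(Nat.beq (g % 1920) 0) || Nat.beq (g / 128 % 2) 0 ||
       !(Nat.beq (g % a) 0) || !(Nat.beq (g % b) 0) || !(Nat.beq (g % c) 0) || f g a b)

/-- Beyond this value of `b` there is no solution. -/
def stopB (pos : Bool) (za zb zc a b : ℕ) : Bool :=
  cond pos
    (Nat.ble (a * (zc - zb)) ((a + za) * b) &&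
      Nat.ble (W * a) (2 * b * ((a + za) * b - a * (zc - zb))))
    (cond (Nat.blt za a)
      (Nat.ble (a * zb) ((a - za) * b) && Nat.ble (W * a) (2 * b * ((a - za) * b - a * zb)))
      (Nat.blt a za && Nat.ble (a * zc) (b * (za - a))))

/-- Beyond this value of `a` there is no solution. -/
def stopA (za zb zc a : ℕ) : Bool :=
  Nat.ble (2 * (za + zb + zc)) a && Nat.ble (2 * W) (5 * a * a)

/-- The scan in `b`. -/
def loopB (f : ℕ → ℕ → ℕ → Bool) (pos : Bool) (za zb zc a : ℕ) : ℕ → ℕ → Bool
  | 0, _ => false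
  | n + 1, b => stopB pos za zb zc a b || (hit f pos za zb zc a b && loopB f pos za zb zc a n (b + 128))

/-- The least number from `a` on congruent to `r` modulo `128`. -/
def start (a r : ℕ) : ℕ := a + (r + 128 - a % 128) % 128

/-- The scan in `a`. -/
def loopA (f : ℕ → ℕ → ℕ → Bool) (pos : Bool) (za zb zc rb : ℕ) : ℕ → ℕ → Bool
  | 0, _ => false
  | n + 1, a => stopA za zb zc a ||
      (loopB f pos za zb zc a 1000 (start a rb) && loopA f pos za zb zc rb n (a + 128))

/-- The whole scan for one sign. -/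
def scan (f : ℕ → ℕ → ℕ → Bool) (pos : Bool) (za zb zc ra rb : ℕ) : Bool :=
  loopA f pos za zb zc rb 40 (start 1 ra)

theorem start_spec (a r : ℕ) {x : ℕ} (hx : a ≤ x) (hr : x % 128 = r % 128) :
    ∃ k, x = start a r + 128 * k := by
  refine ⟨(x - start a r) / 128, ?_⟩
  unfold start
  omega

/-- The conditions on a triple of absolute values. -/
structure Sol (pos : Bool) (za zb zc a b : ℕ) (g : ℕ) : Prop where
  apos : 0 < a
  le : a ≤ b
  eq : g * denP pos za zb zc a b (third pos a b) =
    g * denM pos za zb zc a b (third pos a b) + W * (a * b * third pos a b)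
  big : a * a + b * b + third pos a b * third pos a b < g
  mod1920 : g % 1920 = 0
  odd : g / 128 % 2 = 1
  dvda : a ∣ g
  dvdb : b ∣ g
  dvdc : third pos a b ∣ g

variable {pos : Bool} {za zb zc a b g : ℕ}

theorem Sol.c_ge (h : Sol pos za zb zc a b g) : b ≤ third pos a b := by
  have := h.apos; have := h.le
  cases pos <;> simp only [third, cond] <;> omega

theorem Sol.c_le (h : Sol pos za zb zc a b g) : a + b ≤ third pos a b + 1 ∧ third pos a b ≤ a + b + 1 := by
  cases pos <;> simp only [third, cond] <;> omega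

theorem Sol.lt (h : Sol pos za zb zc a b g) : denM pos za zb zc a b (third pos a b) <
    denP pos za zb zc a b (third pos a b) := by
  have hb := h.big
  have hpos : 0 < W * (a * b * third pos a b) := by
    have := h.apos; have := h.le; have := h.c_ge
    have : 0 < a * b * third pos a b := Nat.mul_pos (Nat.mul_pos (by omega) (by omega)) (by omega)
    unfold W; omega
  by_contra hc
  have := Nat.mul_le_mul_left g (Nat.le_of_not_lt hc)
  have := h.eq
  omega

theorem hit_sound {f : ℕ → ℕ → ℕ → Bool} (h : Sol pos za zb zc a b g)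
    (ht : hit f pos za zb zc a b = true) : f g a b = true := by
  have hlt := h.lt
  have he := h.eq
  simp only [hit] at ht
  set c := third pos a b with hc
  set P := denP pos za zb zc a b c
  set M := denM pos za zb zc a b c
  have hD : W * (a * b * c) = g * (P - M) := by rw [Nat.mul_sub]; omega
  have hdiv : W * (a * b * c) / (P - M) = g := by
    rw [hD, Nat.mul_div_cancel g (by omega)]
  rw [hdiv] at ht
  have h0 : Nat.beq (P - M) 0 = false := Bool.eq_false_iff.2 fun e => by
    have := Nat.eq_of_beq_eq_true e; omega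
  have h1 : Nat.beq (W * (a * b * c) % (P - M)) 0 = true := by
    rw [hD, Nat.mul_mod_left]; rfl
  have h2 : Nat.ble g (a * a + b * b + c * c) = false := Bool.eq_false_iff.2 fun e => by
    have := Nat.le_of_ble_eq_true e
    have := h.big
    rw [← hc] at this; omega
  have h3 : Nat.beq (g % 1920) 0 = true := by rw [h.mod1920]; rfl
  have h4 : Nat.beq (g / 128 % 2) 0 = false := by rw [h.odd]; rfl
  have h5 : Nat.beq (g % a) 0 = true := by rw [Nat.mod_eq_zero_of_dvd h.dvda]; rfl
  have h6 : Nat.beq (g % b) 0 = true := by rw [Nat.mod_eq_zero_of_dvd h.dvdb]; rfl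
  have h7 : Nat.beq (g % c) 0 = true := by rw [Nat.mod_eq_zero_of_dvd h.dvdc]; rfl
  simpa [h0, h1, h2, h3, h4, h5, h6, h7] using ht

theorem W_pos : 0 < W := by norm_num [W]

/-- The common end of the bound on `b`. -/
theorem end_bound {a b c g R : ℕ} (ha : 0 < a) (hb : 0 < b) (hbc : b ≤ c) (hbig : a * a + b * b + c * c < g)
    (e1 : g * R * c ≤ W * a * b * c) (t : W * a ≤ 2 * b * R) : False := by
  have hc : 0 < c := by omega
  have e2 : g * R ≤ W * a * b := Nat.le_of_mul_le_mul_right e1 hc
  have hR : 0 < R := by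
    rcases Nat.eq_zero_or_pos R with rfl | hR
    · have := Nat.mul_pos W_pos ha; omega
    · exact hR
  have e3 : g * R ≤ 2 * b * b * R := e2.trans ((Nat.mul_le_mul_right b t).trans (le_of_eq (by ring)))
  have e4 : g ≤ 2 * b * b := Nat.le_of_mul_le_mul_right e3 hR
  have e5 : b * b ≤ c * c := Nat.mul_le_mul hbc hbc
  have e6 : 2 * b * b = b * b + b * b := by ring
  have := Nat.zero_le (a * a)
  omega

theorem stopB_sound (h : Sol pos za zb zc a b g) {b₀ : ℕ} (hb : b₀ ≤ b)
    (ht : stopB pos za zb zc a b₀ = true) : False := by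
  obtain ⟨ha, hab, he, hbig, -, -, -, -, -⟩ := h
  have hbp : 0 < b := by omega
  cases pos <;> simp only [third, denP, denM, stopB, cond] at he hbig ht
  · -- both negative
    obtain ⟨c, hc⟩ : ∃ c, c = a + b - 1 := ⟨_, rfl⟩
    rw [← hc] at he hbig
    have hbc : b ≤ c := by omega
    rcases Nat.lt_trichotomy za a with hlt | hlt | hlt
    · rw [show Nat.blt za a = true from Nat.ble_eq ▸ hlt] at ht
      simp only [Bool.and_eq_true, Nat.ble_eq] at ht
      obtain ⟨t1, t2⟩ := ht
      obtain ⟨N, hN⟩ : ∃ N, a = za + N := ⟨a - za, by omega⟩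
      rw [show a - za = N by omega] at t1 t2
      have t1' : a * zb ≤ N * b := t1.trans (Nat.mul_le_mul_left _ hb)
      have t2' : W * a ≤ 2 * b * (N * b - a * zb) :=
        t2.trans (Nat.mul_le_mul (by omega) (Nat.sub_le_sub_right (Nat.mul_le_mul_left _ hb) _))
      obtain ⟨R, hR⟩ := Nat.exists_eq_add_of_le t1'
      rw [hR, Nat.add_sub_cancel_left] at t2'
      refine end_bound (R := R) ha hbp hbc hbig ?_ t2'
      zify at he hR hN ⊢
      have e : (g : ℤ) * R * c + g * zc * a * b = W * a * b * c := by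
        linear_combination he - (g : ℤ) * c * hR - (g : ℤ) * b * c * hN
      have : (0 : ℤ) ≤ g * zc * a * b := by positivity
      linarith
    · subst hlt
      rw [show Nat.blt za za = false from Bool.eq_false_iff.2 fun e => by
        have := Nat.le_of_ble_eq_true e; omega] at ht
      simp at ht
    · rw [show Nat.blt za a = false from Bool.eq_false_iff.2 fun e => by
        have := Nat.le_of_ble_eq_true e; omega] at ht
      simp only [Bool.and_eq_true, Nat.ble_eq] at ht
      obtain ⟨-, t1⟩ := ht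
      obtain ⟨N, hN⟩ : ∃ N, za = a + N := ⟨za - a, by omega⟩
      rw [show za - a = N by omega] at t1
      have t1' : a * zc ≤ b * N := t1.trans (Nat.mul_le_mul_right _ hb)
      have k := Nat.mul_le_mul_left g ((Nat.mul_le_mul_right b t1').trans (Nat.mul_le_mul_left (b * N) hbc))
      have hw : 0 < W * (a * b * c) := Nat.mul_pos W_pos (Nat.mul_pos (Nat.mul_pos ha hbp) (by omega))
      zify at he hN k hw
      have e : (g : ℤ) * zc * a * b = g * N * b * c + g * zb * a * c + W * (a * b * c) := by
        linear_combination he + (g : ℤ) * b * c * hN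
      have : (0 : ℤ) ≤ g * zb * a * c := by positivity
      linarith
  · -- both positive
    obtain ⟨c, hc⟩ : ∃ c, c = a + b + 1 := ⟨_, rfl⟩
    rw [← hc] at he hbig
    have hbc : b ≤ c := by omega
    simp only [Bool.and_eq_true, Nat.ble_eq] at ht
    obtain ⟨t1, t2⟩ := ht
    obtain ⟨L, hL⟩ : ∃ L, L = zc - zb := ⟨_, rfl⟩
    rw [← hL] at t1 t2
    have hzc : zc ≤ L + zb := by omega
    have t1' : a * L ≤ (a + za) * b := t1.trans (Nat.mul_le_mul_left _ hb)
    have t2' : W * a ≤ 2 * b * ((a + za) * b - a * L) :=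
      t2.trans (Nat.mul_le_mul (by omega) (Nat.sub_le_sub_right (Nat.mul_le_mul_left _ hb) _))
    obtain ⟨R, hR⟩ := Nat.exists_eq_add_of_le t1'
    rw [hR, Nat.add_sub_cancel_left] at t2'
    refine end_bound (R := R) ha hbp hbc hbig ?_ t2'
    have k1 : g * (zc * (a * b)) ≤ g * ((L + zb) * (a * c)) :=
      Nat.mul_le_mul_left g (Nat.mul_le_mul hzc (Nat.mul_le_mul_left a hbc))
    zify at he hR k1 ⊢
    have e : (g : ℤ) * R * c + g * (L + zb) * (a * c) = g * (zc * (a * b)) + W * a * b * c := by
      linear_combination he - (g : ℤ) * c * hR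
    linarith

theorem stopA_sound (h : Sol pos za zb zc a b g) {a₀ : ℕ} (ha₀ : a₀ ≤ a)
    (ht : stopA za zb zc a₀ = true) : False := by
  obtain ⟨ha, hab, he, hbig, -, -, -, -, -⟩ := h
  simp only [stopA, Bool.and_eq_true, Nat.ble_eq] at ht
  have t1 : 2 * (za + zb + zc) ≤ a := ht.1.trans ha₀
  have t2 : 2 * W ≤ 5 * a * a := ht.2.trans (Nat.mul_le_mul (Nat.mul_le_mul_left 5 ha₀) ha₀)
  have h10 : 10 ≤ a := by
    by_contra hc
    have : a * a ≤ 9 * 9 := Nat.mul_le_mul (by omega) (by omega)
    have hW : W = 29184000 := rfl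
    have : 5 * a * a = 5 * (a * a) := Nat.mul_assoc _ _ _
    omega
  suffices h2 : ∀ c, b ≤ c → 2 * a ≤ c + 1 → a * a + b * b + c * c < g → g * (a * b * c) ≤ 2 * W * (a * b * c) → False by
    cases pos <;> simp only [third, denP, denM, cond] at he hbig
    · obtain ⟨c, hc⟩ : ∃ c, c = a + b - 1 := ⟨_, rfl⟩
      rw [← hc] at he hbig
      refine h2 c (by omega) (by omega) hbig ?_
      have k0 : a * c ≤ b * c := Nat.mul_le_mul_right c hab
      have k1 : g * (2 * (za + zb) * (b * c)) ≤ g * (a * (b * c)) :=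
        Nat.mul_le_mul_left g (Nat.mul_le_mul_right _ (by omega))
      have k2 : g * (zb * (a * c)) ≤ g * (zb * (b * c)) := Nat.mul_le_mul_left g (Nat.mul_le_mul_left zb k0)
      zify at he k1 k2 ⊢
      have : (0 : ℤ) ≤ g * (zc * (a * b)) := by positivity
      linarith
    · obtain ⟨c, hc⟩ : ∃ c, c = a + b + 1 := ⟨_, rfl⟩
      rw [← hc] at he hbig
      refine h2 c (by omega) (by omega) hbig ?_
      have k1 : g * (2 * zc * (a * b)) ≤ g * (c * (a * b)) :=
        Nat.mul_le_mul_left g (Nat.mul_le_mul_right _ (by omega))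
      zify at he k1 ⊢
      have : (0 : ℤ) ≤ g * (za * (b * c)) := by positivity
      have : (0 : ℤ) ≤ g * (zb * (a * c)) := by positivity
      linarith
  intro c hbc hc2 hbig2 e1
  have e2 : g ≤ 2 * W := Nat.le_of_mul_le_mul_right e1
    (Nat.mul_pos (Nat.mul_pos ha (by omega)) (by omega))
  have h3 : 3 * (a * a) ≤ c * c := by
    zify at hc2 h10 ⊢
    nlinarith [mul_nonneg (sub_nonneg.2 hc2) (by positivity : (0 : ℤ) ≤ (c : ℤ) + 2 * a)]
  have h4 : a * a ≤ b * b := Nat.mul_le_mul hab hab
  have : 5 * a * a = 5 * (a * a) := Nat.mul_assoc _ _ _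
  omega

theorem loopB_sound {f : ℕ → ℕ → ℕ → Bool} (h : Sol pos za zb zc a b g) :
    ∀ n b₀, loopB f pos za zb zc a n b₀ = true → (∃ k, b = b₀ + 128 * k) → f g a b = true
  | 0, b₀, ht, _ => by simp [loopB] at ht
  | n + 1, b₀, ht, ⟨k, hk⟩ => by
    simp only [loopB, Bool.or_eq_true, Bool.and_eq_true] at ht
    rcases ht with ht | ⟨h1, h2⟩
    · exact (stopB_sound h (by omega) ht).elim
    · rcases k with _ | k
      · obtain rfl : b = b₀ := by omega
        exact hit_sound h h1
      · exact loopB_sound h n _ h2 ⟨k, by omega⟩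

theorem loopA_sound {f : ℕ → ℕ → ℕ → Bool} (h : Sol pos za zb zc a b g) {rb : ℕ} (hb : b % 128 = rb % 128) :
    ∀ n a₀, loopA f pos za zb zc rb n a₀ = true → (∃ k, a = a₀ + 128 * k) → f g a b = true
  | 0, a₀, ht, _ => by simp [loopA] at ht
  | n + 1, a₀, ht, ⟨k, hk⟩ => by
    simp only [loopA, Bool.or_eq_true, Bool.and_eq_true] at ht
    rcases ht with ht | ⟨h1, h2⟩
    · exact (stopA_sound h (by omega) ht).elim
    · rcases k with _ | k
      · obtain rfl : a = a₀ := by omega
        exact loopB_sound h _ _ h1 (start_spec _ _ h.le hb)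
      · exact loopA_sound h hb n _ h2 ⟨k, by omega⟩

theorem scan_sound {f : ℕ → ℕ → ℕ → Bool} {ra rb : ℕ} (h : Sol pos za zb zc a b g)
    (ha : a % 128 = ra % 128) (hb : b % 128 = rb % 128) (ht : scan f pos za zb zc ra rb = true) :
    f g a b = true :=
  loopA_sound h hb _ _ ht (start_spec _ _ h.apos ha)

end Cfsg.Agent.Lib.J3Order.Scan
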