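import Cfsg.Agent.Lib.J3Order.Local
import Cfsg.Agent.Lib.Characters.Complete

/-!
# Groups of `J₃` type: the Sylow subgroups for `17` and `19`

Sylow counting leaves one possibility for `17` and two for `19`.
-/

set_option autoImplicit false
set_option linter.style.haveILetI false

namespace Cfsg.Agent.Lib.J3Order.SylowLocal

open Cfsg.Agent.Lib.CosetEnum
open Cfsg.Agent.Lib.J3Order.Local Cfsg.Agent.Lib.J3Order.Table

theorem sixteen_check : (allBelow 1920 fun i => !(Nat.beq (sqI (sqI (sqI i))) zI)) = true := by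
  decide +kernel

theorem key19 : ∀ u ∈ Nat.divisors 243, ∀ v ∈ Nat.divisors 85, ∀ e ∈ Nat.divisors 18,
    e ≠ 1 → 2643840 % (u * v * e) = 0 → 2643840 / (u * v * e) % 19 = 1 →
      (u * v = 3 ∧ e = 3) ∨ (u * v = 1 ∧ e = 9) ∨ (u * v = 459 ∧ e = 3) ∨ (u * v = 153 ∧ e = 9) := by
  decide +kernel

theorem key17 : ∀ u ∈ Nat.divisors 243, ∀ v ∈ Nat.divisors 95, ∀ e ∈ Nat.divisors 16,
    e ≠ 1 → 2954880 % (u * v * e) = 0 → 2954880 / (u * v * e) % 17 = 1 →
      (u * v = 1 ∧ e = 8) ∨ (u * v = 19 ∧ e = 4) ∨ (u * v = 171 ∧ e = 8) ∨ e = 16 := by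
  decide +kernel

theorem odd_split {c m v : ℕ} (hc : c % 2 = 1) (h : c ∣ m) (hm : m = 2 ^ 7 * (243 * v)) :
    ∃ u w, u ∣ 243 ∧ w ∣ v ∧ u * w = c := by
  have h2 : Nat.Coprime c (2 ^ 7) :=
    Nat.Coprime.pow_right _ (Nat.prime_two.coprime_iff_not_dvd.2 (by omega)).symm
  exact Nat.dvd_mul.1 (h2.dvd_of_dvd_mul_left (hm ▸ h))

variable {G : Type*} [Group G]

/-- The orders attached to a subgroup of prime order. -/
structure Inv (X : Subgroup G) (p c e : ℕ) : Prop where
  card : Nat.card X = p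
  cent : Nat.card (Subgroup.centralizer (X : Set G)) = p * c
  range : Nat.card X.normalizerMonoidHom.range = e
  norm : Nat.card (Subgroup.normalizer (X : Set G)) = p * c * e
  cyc : IsCyclic X.normalizerMonoidHom.range

theorem cent_conj [Finite G] {x y : G} (hxy : IsConj x y) :
    Nat.card (Subgroup.centralizer ({x} : Set G)) = Nat.card (Subgroup.centralizer ({y} : Set G)) := by
  have h1 := Characters.Complete.card_conjugates_mul_centralizer x
  have h2 := Characters.Complete.card_conjugates_mul_centralizer y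
  rw [Nat.card_congr (_root_.Equiv.subtypeEquivRight fun w => ⟨hxy.symm.trans, hxy.trans⟩)] at h1
  haveI : Nonempty {w : G // IsConj y w} := ⟨⟨y, IsConj.refl y⟩⟩
  exact Nat.eq_of_mul_eq_mul_left Nat.card_pos (h1.trans h2.symm)

variable {z a t q : G}

theorem cent_odd [Finite G] (h : Ctx z a t q) (X : Subgroup G) (hX : ¬ Nat.card X ∣ 1920) :
    Nat.card (Subgroup.centralizer (X : Set G)) % 2 = 1 := by
  by_contra hodd
  haveI : Fact (Nat.Prime 2) := ⟨Nat.prime_two⟩
  obtain ⟨w, hw⟩ := exists_prime_orderOf_dvd_card' (G := Subgroup.centralizer (X : Set G)) 2 (by omega)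
  have hwo : orderOf (w : G) = 2 := by rw [Subgroup.orderOf_coe]; exact hw
  have hle : X ≤ Subgroup.centralizer ({(w : G)} : Set G) := fun x hx =>
    Subgroup.mem_centralizer_singleton_iff.2 (Subgroup.mem_centralizer_iff.1 w.2 x hx)
  have := Subgroup.card_dvd_of_le hle
  rw [cent_conj (h.hone _ _ hwo h.ord), h.card] at this
  exact hX this

theorem no_sixteen (h : Ctx z a t q) (x : G) : orderOf x ≠ 16 := by
  intro ho
  obtain ⟨g, hg⟩ := h.conj_invol (x := x ^ 8) (by rw [← pow_mul]; show x ^ 16 = 1; rw [← ho, pow_orderOf_eq_one])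
    (pow_ne_one_of_lt_orderOf (by norm_num) (by omega))
  have hp : (g * x * g⁻¹) ^ 8 = z := by rw [conj_pow, hg]
  obtain ⟨i, hi, e⟩ := h.surj (c := g * x * g⁻¹) (hp ▸ (Commute.refl (g * x * g⁻¹)).pow_right 8)
  have h1 := h.el_four hi
  have h2 := h.el_sq h1.1
  have e2 : el a t q (sqI (sqI (sqI i))) = el a t q zI := by
    rw [h2.2, h1.2, ← pow_mul, ← e, hp, h.el_z]
  have := allBelow_iff.1 sixteen_check i hi
  rw [h.el_inj h2.1 (by decide) e2] at this
  simp at this

variable [Finite G]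

theorem exists_inv [IsSimpleGroup G] (h : Ctx z a t q) (hn : Nat.card G = 50232960) {p : ℕ}
    [Fact p.Prime] (hp : p = 17 ∨ p = 19) (X : Sylow p G) :
    ∃ c e s, Inv (X : Subgroup G) p c e ∧ c % 2 = 1 ∧ e ∣ p - 1 ∧ e ≠ 1 ∧ e ≠ 16 ∧
      p * c * e * s = 50232960 ∧ s % p = 1 := by
  have hpn : p ∣ Nat.card G := by rw [hn]; rcases hp with rfl | rfl <;> norm_num
  have hcard : Nat.card X = p := by
    obtain ⟨k, hk⟩ := X.isPGroup'.exists_card_eq
    have hd : p ^ k ∣ Nat.card G := hk ▸ Subgroup.card_subgroup_dvd_card _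
    rcases k with _ | _ | k
    · exact absurd (Subgroup.card_eq_one.1 (by simpa using hk)) (X.ne_bot_of_dvd_card hpn)
    · simpa using hk
    · exfalso
      have h2 := (pow_dvd_pow p (show 2 ≤ k + 1 + 1 by omega)).trans hd
      rw [hn] at h2
      rcases hp with rfl | rfl <;> norm_num at h2
  haveI : Fact (Nat.card X).Prime := ⟨hcard.symm ▸ Fact.out⟩
  haveI : IsCyclic X := isCyclic_of_prime_card hcard
  set φ := (X : Subgroup G).normalizerMonoidHom with hφ
  haveI : IsCyclic (MulAut X) := by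
    have e := IsCyclic.mulAutMulEquiv ↥(X : Subgroup G)
    exact isCyclic_of_surjective e.symm.toMonoidHom e.symm.surjective
  haveI hcyc : IsCyclic φ.range := Subgroup.isCyclic _
  have hXC : (X : Subgroup G) ≤ Subgroup.centralizer ((X : Subgroup G) : Set G) := by
    intro x hx
    refine Subgroup.mem_centralizer_iff.2 fun y hy => ?_
    exact congrArg Subtype.val (IsCyclic.commGroup.mul_comm (⟨y, hy⟩ : (X : Subgroup G)) ⟨x, hx⟩)
  obtain ⟨c, hc⟩ := hcard ▸ Subgroup.card_dvd_of_le hXC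
  have hCN : Subgroup.centralizer ((X : Subgroup G) : Set G) ≤
      Subgroup.normalizer ((X : Subgroup G) : Set G) := Subgroup.centralizer_le_normalizer _
  have hN : Nat.card (Subgroup.normalizer ((X : Subgroup G) : Set G)) = p * c * Nat.card φ.range := by
    rw [← Subgroup.card_mul_index φ.ker, Subgroup.index_ker, hφ, Subgroup.normalizerMonoidHom_ker,
      Nat.card_congr (Subgroup.subgroupOfEquivOfLe hCN).toEquiv, hc]
  have hodd : c % 2 = 1 := by
    have := cent_odd h (X : Subgroup G)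
      (by rw [hcard]; rcases hp with rfl | rfl <;> norm_num)
    rw [hc, Nat.mul_mod] at this
    rcases Nat.mod_two_eq_zero_or_one c with e | e
    · simp [e] at this
    · exact e
  refine ⟨c, Nat.card φ.range, (Subgroup.normalizer ((X : Subgroup G) : Set G)).index,
    ⟨hcard, hc, rfl, hN, hcyc⟩, hodd, ?_, ?_, ?_, ?_, ?_⟩
  · have := Subgroup.card_subgroup_dvd_card φ.range
    rwa [IsCyclic.card_mulAut, hcard, Nat.totient_prime Fact.out] at this
  · intro he
    have hNC : Subgroup.normalizer ((X : Subgroup G) : Set G) ≤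
        Subgroup.centralizer ((X : Subgroup G) : Set G) := by
      intro g hg
      have hk : (⟨g, hg⟩ : Subgroup.normalizer ((X : Subgroup G) : Set G)) ∈ φ.ker := by
        have hb := Subgroup.card_eq_one.1 he
        exact (Subgroup.mem_bot.1 (hb ▸ ⟨⟨g, hg⟩, rfl⟩ : φ ⟨g, hg⟩ ∈ (⊥ : Subgroup (MulAut X))))
      rw [hφ, Subgroup.normalizerMonoidHom_ker] at hk
      exact hk
    have hc' := MonoidHom.ker_transferSylow_isComplement' X hNC
    have hm := hc'.card_mul_card
    rcases IsSimpleGroup.eq_bot_or_eq_top_of_normal _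
      (MonoidHom.normal_ker (MonoidHom.transferSylow X hNC)) with e | e
    · rw [e, Subgroup.card_bot, one_mul, hcard, hn] at hm
      rcases hp with rfl | rfl <;> omega
    · rw [e, Subgroup.card_top, hcard, hn] at hm
      rcases hp with rfl | rfl <;> omega
  · intro he
    obtain ⟨r, hr⟩ := hcyc.exists_generator
    obtain ⟨⟨r', hr'⟩, rfl⟩ : ∃ r' : φ.range, r' = r := ⟨r, rfl⟩
    obtain ⟨g, rfl⟩ := hr'
    have ho : orderOf (φ g) = 16 := by
      rw [← he, ← orderOf_eq_card_of_forall_mem_zpowers hr, ← Subgroup.orderOf_coe]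
    have hd : 16 ∣ orderOf (g : G) := by
      rw [← ho, Subgroup.orderOf_coe]; exact orderOf_map_dvd φ g
    exact no_sixteen h _ (orderOf_pow_orderOf_div (orderOf_pos (g : G)).ne' hd)
  · rw [← hn, ← hN, Subgroup.card_mul_index]
  · have := card_sylow_modEq_one p G
    rw [X.card_eq_index_normalizer] at this
    change (Subgroup.normalizer ((X : Subgroup G) : Set G)).index % p = 1 % p at this
    rw [this]
    exact Nat.mod_eq_of_lt (Fact.out : p.Prime).one_lt

/-- An element of order dividing `p` centralising a Sylow subgroup lies in it. -/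
theorem mem_of_pow {p : ℕ} [Fact p.Prime] (X : Sylow p G) {x : G}
    (hc : x ∈ Subgroup.centralizer ((X : Subgroup G) : Set G)) (hx : x ^ p = 1) :
    x ∈ (X : Subgroup G) := by
  have hle : Subgroup.zpowers x ≤ Subgroup.normalizer ((X : Subgroup G) : Set G) :=
    Subgroup.zpowers_le.2 (Subgroup.centralizer_le_normalizer _ hc)
  have hp : IsPGroup p (Subgroup.zpowers x) := by
    obtain ⟨k, -, hk⟩ := (Nat.dvd_prime_pow Fact.out).1
      (show orderOf x ∣ p ^ 1 by rw [pow_one]; exact orderOf_dvd_of_pow_eq_one hx)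
    exact IsPGroup.of_card (n := k) (by rw [Nat.card_zpowers, hk])
  rw [← X.is_maximal' (hp.to_sup_of_normal_right' X.isPGroup' hle) le_sup_right]
  exact Subgroup.mem_sup_left (Subgroup.mem_zpowers x)

/-- A subgroup of order `p` is a Sylow subgroup. -/
theorem exists_sylow {p : ℕ} [Fact p.Prime] (hp : ¬ p ^ 2 ∣ Nat.card G) (Y : Subgroup G)
    (hY : Nat.card Y = p) : ∃ P : Sylow p G, (P : Subgroup G) = Y := by
  obtain ⟨P, hP⟩ := (IsPGroup.of_card (n := 1) (by rw [pow_one, hY])).exists_le_sylow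
  refine ⟨P, (Subgroup.eq_of_le_of_card_ge hP ?_).symm⟩
  obtain ⟨k, hk⟩ := P.isPGroup'.exists_card_eq
  rw [hY, hk]
  rcases Nat.lt_or_ge k 2 with h2 | h2
  · exact (Nat.pow_le_pow_right (Fact.out : p.Prime).pos (by omega : k ≤ 1)).trans (pow_one p).le
  · exact absurd ((pow_dvd_pow p h2).trans (hk ▸ Subgroup.card_subgroup_dvd_card _)) hp

/-- An element of order `17` centralising `X` is centralised by the whole centraliser. -/
theorem le_cent_seventeen [Fact (Nat.Prime 17)] [Fact (Nat.Prime 19)] (hn : Nat.card G = 50232960)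
    (X : Subgroup G) {k : ℕ} (hX : Nat.card X = 19) (hk : k = 9 ∨ k = 27)
    (hC : Nat.card (Subgroup.centralizer (X : Set G)) = 19 * 17 * k) :
    ∃ Y : Sylow 17 G, Subgroup.centralizer (X : Set G) ≤ Subgroup.centralizer ((Y : Subgroup G) : Set G) := by
  set K := Subgroup.centralizer (X : Set G) with hK
  haveI : IsCyclic X := isCyclic_of_prime_card hX
  have hXK : X ≤ K := fun x hx => Subgroup.mem_centralizer_iff.2 fun y hy =>
    congrArg Subtype.val (IsCyclic.commGroup.mul_comm (⟨y, hy⟩ : X) ⟨x, hx⟩)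
  obtain ⟨Y₀⟩ : Nonempty (Sylow 17 K) := inferInstance
  have hY₀ : Nat.card Y₀ = 17 := by
    obtain ⟨j, hj⟩ := Y₀.isPGroup'.exists_card_eq
    have hd : 17 ^ j ∣ Nat.card K := hj ▸ Subgroup.card_subgroup_dvd_card _
    have hd' : 17 ∣ Nat.card K := by rw [hC]; omega
    rcases j with _ | _ | j
    · exact absurd (Subgroup.card_eq_one.1 (by simpa using hj)) (Y₀.ne_bot_of_dvd_card hd')
    · simpa using hj
    · have h2 := (pow_dvd_pow 17 (show 2 ≤ j + 1 + 1 by omega)).trans hd
      rw [hC] at h2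
      omega
  have hXN : X.subgroupOf K ≤ Subgroup.normalizer ((Y₀ : Subgroup K) : Set K) := by
    intro x hx
    refine Subgroup.centralizer_le_normalizer _ (Subgroup.mem_centralizer_iff.2 fun y _ => Subtype.ext ?_)
    exact (Subgroup.mem_centralizer_iff.1 y.2 x.1 hx).symm
  have h19 : 19 ∣ Nat.card (Subgroup.normalizer ((Y₀ : Subgroup K) : Set K)) := by
    have := Subgroup.card_dvd_of_le hXN
    rwa [Nat.card_congr (Subgroup.subgroupOfEquivOfLe hXK).toEquiv, hX] at this
  have h17 : 17 ∣ Nat.card (Subgroup.normalizer ((Y₀ : Subgroup K) : Set K)) :=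
    by
      have := Subgroup.card_dvd_of_le (Subgroup.le_normalizer (H := (Y₀ : Subgroup K)))
      rwa [hY₀] at this
  obtain ⟨m, hm⟩ := Nat.Coprime.mul_dvd_of_dvd_of_dvd (by norm_num) h19 h17
  have hidx := Subgroup.card_mul_index (Subgroup.normalizer ((Y₀ : Subgroup K) : Set K))
  rw [hm, hC, mul_assoc (19 * 17)] at hidx
  have hmi := Nat.eq_of_mul_eq_mul_left (show 0 < 19 * 17 by norm_num) hidx
  have hmod := card_sylow_modEq_one 17 K
  rw [Y₀.card_eq_index_normalizer] at hmod
  have hile : (Subgroup.normalizer ((Y₀ : Subgroup K) : Set K)).index ∣ k := ⟨m, by rw [← hmi, mul_comm]⟩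
  have hone : (Subgroup.normalizer ((Y₀ : Subgroup K) : Set K)).index = 1 := by
    have hk' : k ≤ 27 := by omega
    have hle := Nat.le_of_dvd (by omega) hile
    have : (Subgroup.normalizer ((Y₀ : Subgroup K) : Set K)).index % 17 = 1 := hmod
    rcases hk with rfl | rfl <;>
      · generalize (Subgroup.normalizer ((Y₀ : Subgroup K) : Set K)).index = i at hile hle this ⊢
        interval_cases i <;> omega
  haveI : (Y₀ : Subgroup K).Normal := Subgroup.normalizer_eq_top_iff.1 (Subgroup.index_eq_one.1 hone)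
  haveI : IsCyclic Y₀ := isCyclic_of_prime_card hY₀
  have htriv : ∀ g : K, MulAut.conjNormal (H := (Y₀ : Subgroup K)) g = 1 := by
    intro g
    refine orderOf_eq_one_iff.1 (Nat.eq_one_of_dvd_coprimes ?_ (orderOf_dvd_natCard _)
      ((orderOf_map_dvd _ g).trans (orderOf_dvd_natCard g)))
    rw [IsCyclic.card_mulAut, hY₀, Nat.totient_prime (by norm_num), hC]
    rcases hk with rfl | rfl <;> norm_num
  obtain ⟨P, hP⟩ := exists_sylow (p := 17) (by rw [hn]; norm_num) ((Y₀ : Subgroup K).map K.subtype)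
    (by rw [Subgroup.card_map_of_injective K.subtype_injective]; exact hY₀)
  refine ⟨P, fun g hg => Subgroup.mem_centralizer_iff.2 ?_⟩
  rw [hP]
  rintro _ ⟨y, hy, rfl⟩
  have e := congrArg (fun f : MulAut (Y₀ : Subgroup K) => ((f ⟨y, hy⟩ : (Y₀ : Subgroup K)) : K)) (htriv ⟨g, hg⟩)
  simp only [MulAut.conjNormal_apply, MulAut.one_apply] at e
  exact (congrArg Subtype.val (mul_inv_eq_iff_eq_mul.1 e)).symm

/-- Sylow counting leaves one possibility for `17` and two for `19`. -/
theorem leaves [IsSimpleGroup G] [Fact (Nat.Prime 17)] [Fact (Nat.Prime 19)] (h : Ctx z a t q)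
    (hn : Nat.card G = 50232960) :
    (∀ X : Sylow 19 G, Inv (X : Subgroup G) 19 3 3 ∨ Inv (X : Subgroup G) 19 1 9) ∧
      ∀ Y : Sylow 17 G, Inv (Y : Subgroup G) 17 1 8 := by
  have h17 : ∀ Y : Sylow 17 G, Inv (Y : Subgroup G) 17 1 8 ∨ Inv (Y : Subgroup G) 17 19 4 ∨
      Inv (Y : Subgroup G) 17 171 8 := by
    intro Y
    obtain ⟨c, e, s, hI, hodd, he, he1, he16, hprod, hs⟩ := exists_inv h hn (Or.inl rfl) Y
    rw [mul_assoc 17, mul_assoc 17, show 50232960 = 17 * 2954880 by rfl] at hprod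
    have hprod' := Nat.eq_of_mul_eq_mul_left (by norm_num) hprod
    obtain ⟨u, w, hu, hw, rfl⟩ := odd_split (v := 95) hodd
      (show c ∣ 2954880 from ⟨e * s, by rw [← hprod']; ring⟩) (by norm_num)
    have hpos : 0 < u * w * e := by
      rcases Nat.eq_zero_or_pos (u * w * e) with h0 | h0
      · rw [h0] at hprod'; simp at hprod'
      · exact h0
    rcases key17 u (Nat.mem_divisors.2 ⟨hu, by norm_num⟩) w (Nat.mem_divisors.2 ⟨hw, by norm_num⟩) e
      (Nat.mem_divisors.2 ⟨he, by norm_num⟩) he1 (by rw [← hprod']; exact Nat.mul_mod_right _ _)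
      (by rw [← hprod', Nat.mul_div_cancel_left _ hpos]; exact hs) with ⟨a1, a2⟩ | ⟨a1, a2⟩ | ⟨a1, a2⟩ | a2
    · exact Or.inl (by rwa [a1, a2] at hI)
    · exact Or.inr (Or.inl (by rwa [a1, a2] at hI))
    · exact Or.inr (Or.inr (by rwa [a1, a2] at hI))
    · exact absurd a2 he16
  have h19 : ∀ X : Sylow 19 G, Inv (X : Subgroup G) 19 3 3 ∨ Inv (X : Subgroup G) 19 1 9 := by
    intro X
    obtain ⟨c, e, s, hI, hodd, he, he1, -, hprod, hs⟩ := exists_inv h hn (Or.inr rfl) X
    rw [mul_assoc 19, mul_assoc 19, show 50232960 = 19 * 2643840 by rfl] at hprod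
    have hprod' := Nat.eq_of_mul_eq_mul_left (by norm_num) hprod
    obtain ⟨u, w, hu, hw, rfl⟩ := odd_split (v := 85) hodd
      (show c ∣ 2643840 from ⟨e * s, by rw [← hprod']; ring⟩) (by norm_num)
    have hpos : 0 < u * w * e := by
      rcases Nat.eq_zero_or_pos (u * w * e) with h0 | h0
      · rw [h0] at hprod'; simp at hprod'
      · exact h0
    have hbad : ∀ k, (k = 27 ∧ e = 3 ∨ k = 9 ∧ e = 9) → u * w ≠ 17 * k := by
      intro k hke hk
      have hC := hI.cent
      rw [hk, ← mul_assoc] at hC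
      obtain ⟨Y, hY⟩ := le_cent_seventeen hn (X : Subgroup G) hI.card (by omega) hC
      have hd := Subgroup.card_dvd_of_le hY
      rcases h17 Y with hJ | hJ | hJ <;> rw [hC, hJ.cent] at hd
      · rcases hke with ⟨rfl, -⟩ | ⟨rfl, -⟩ <;> norm_num at hd
      · rcases hke with ⟨rfl, -⟩ | ⟨rfl, -⟩ <;> norm_num at hd
      rcases hke with ⟨rfl, -⟩ | ⟨rfl, he9⟩
      · norm_num at hd
      have hCeq := Subgroup.eq_of_le_of_card_ge hY (by rw [hC, hJ.cent]; norm_num)
      have hle : Subgroup.normalizer ((Y : Subgroup G) : Set G) ≤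
          Subgroup.normalizer ((X : Subgroup G) : Set G) := by
        intro g hg
        have key : ∀ g ∈ Subgroup.normalizer ((Y : Subgroup G) : Set G), ∀ x ∈ (X : Subgroup G),
            g * x * g⁻¹ ∈ (X : Subgroup G) := by
          intro g hg x hx
          haveI : IsCyclic (X : Subgroup G) := isCyclic_of_prime_card hI.card
          have hxC : x ∈ Subgroup.centralizer ((X : Subgroup G) : Set G) :=
            Subgroup.mem_centralizer_iff.2 fun y hy =>
              congrArg Subtype.val (IsCyclic.commGroup.mul_comm (⟨y, hy⟩ : (X : Subgroup G)) ⟨x, hx⟩)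
          refine mem_of_pow X (hCeq ▸ Subgroup.mem_centralizer_iff.2 fun y hy => ?_) ?_
          · have hy' : g⁻¹ * y * g ∈ (Y : Subgroup G) := (Subgroup.mem_normalizer_iff''.1 hg y).1 hy
            have := Subgroup.mem_centralizer_iff.1 (hY hxC) _ hy'
            calc y * (g * x * g⁻¹) = g * (g⁻¹ * y * g * x) * g⁻¹ := by group
              _ = g * (x * (g⁻¹ * y * g)) * g⁻¹ := by rw [this]
              _ = g * x * g⁻¹ * y := by group
          · rw [conj_pow]
            have : x ^ 19 = 1 := by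
              have := pow_card_eq_one' (x := (⟨x, hx⟩ : (X : Subgroup G)))
              rw [hI.card] at this
              exact congrArg Subtype.val this
            rw [this]; group
        refine Subgroup.mem_normalizer_iff.2 fun x => ⟨key g hg x, fun hx => ?_⟩
        have := key g⁻¹ (inv_mem hg) _ hx
        rwa [show g⁻¹ * (g * x * g⁻¹) * g⁻¹⁻¹ = x by group] at this
      have hd' := Subgroup.card_dvd_of_le hle
      rw [hI.norm, hJ.norm, hk, he9] at hd'
      norm_num at hd'
    rcases key19 u (Nat.mem_divisors.2 ⟨hu, by norm_num⟩) w (Nat.mem_divisors.2 ⟨hw, by norm_num⟩) e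
      (Nat.mem_divisors.2 ⟨he, by norm_num⟩) he1 (by rw [← hprod']; exact Nat.mul_mod_right _ _)
      (by rw [← hprod', Nat.mul_div_cancel_left _ hpos]; exact hs) with ⟨a1, a2⟩ | ⟨a1, a2⟩ | ⟨a1, a2⟩ | ⟨a1, a2⟩
    · exact Or.inl (by rwa [a1, a2] at hI)
    · exact Or.inr (by rwa [a1, a2] at hI)
    · exact absurd a1 (hbad 27 (Or.inl ⟨rfl, a2⟩))
    · exact absurd a1 (hbad 9 (Or.inr ⟨rfl, a2⟩))
  refine ⟨h19, fun Y => (h17 Y).resolve_right ?_⟩
  intro hc
  have hd : 19 ∣ Nat.card (Subgroup.centralizer ((Y : Subgroup G) : Set G)) := by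
    rcases hc with hI | hI <;> rw [hI.cent] <;> norm_num
  obtain ⟨x, hx⟩ := exists_prime_orderOf_dvd_card' (G := Subgroup.centralizer ((Y : Subgroup G) : Set G)) 19 hd
  rw [← Subgroup.orderOf_coe] at hx
  obtain ⟨X, hX⟩ := exists_sylow (p := 19) (by rw [hn]; norm_num) (Subgroup.zpowers (x : G))
    (by rw [Nat.card_zpowers, hx])
  have hle : (Y : Subgroup G) ≤ Subgroup.centralizer ((X : Subgroup G) : Set G) := by
    intro y hy
    refine Subgroup.mem_centralizer_iff.2 fun w hw => ?_
    rw [hX] at hw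
    obtain ⟨j, rfl⟩ := hw
    exact ((show Commute (x : G) y from (Subgroup.mem_centralizer_iff.1 x.2 y hy).symm).zpow_left j).eq
  have h17d := Subgroup.card_dvd_of_le hle
  rcases h19 X with hJ | hJ <;> rw [hJ.cent] at h17d <;>
    rcases hc with hI | hI <;> rw [hI.card] at h17d <;> norm_num at h17d

end Cfsg.Agent.Lib.J3Order.SylowLocal
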