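import Cfsg.Agent.Lib.HJUniq.Table

/-!
# Groups of `J₃` type: checkers on the table of the centraliser

Positions `0, …, 1919` stand for the elements of `C(z)`; the eleven representatives are
`reps`, and the kind of an element names the representative to which it is conjugate in the group.
-/

set_option autoImplicit false

namespace Cfsg.Agent.Lib.J3Order.Table

open Cfsg.Agent.Lib.CosetEnum
open Cfsg.Agent.Lib.HJUniq (wd sc)

/-- The product of two positions. -/
noncomputable def mulI (i j : ℕ) : ℕ := scan 6 HJC1920.table (wd j) i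

/-- The position of `z`. -/
def zI : ℕ := 1015

/-- The representatives. -/
def reps : List ℕ := [0, 1, 5, 6, 1015, 58, 257, 20, 50, 17, 113]

/-- The representative of a kind. -/
def rep (k : ℕ) : ℕ := reps.getD k 0

/-- The second power. -/
noncomputable def sqI (i : ℕ) : ℕ := mulI i i

/-- The third power. -/
noncomputable def cubeI (i : ℕ) : ℕ := mulI (mulI i i) i

/-- A witness for a conjugation. -/
noncomputable def conjB (w i r : ℕ) : Bool := Nat.blt w 1920 && Nat.beq (mulI w i) (mulI r w)

/-- The position is of the kind `k`. -/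
noncomputable def kindOK (i k w : ℕ) : Bool :=
  match k with
  | 0 => Nat.beq i 0
  | 4 => !(Nat.beq i 0) && Nat.beq (sqI i) 0
  | 5 => !(Nat.beq (sqI i) 0) && Nat.beq (sqI (sqI i)) 0
  | 6 => !(Nat.beq (sqI i) 0) && !(Nat.beq (cubeI i) 0) && Nat.beq (sqI (cubeI i)) 0
  | 7 => !(Nat.beq (sqI (sqI i)) 0) && !(Nat.beq (sqI (cubeI i)) 0) && Nat.beq (sqI (sqI (cubeI i))) 0
  | 8 => !(Nat.beq (sqI (sqI i)) 0) && Nat.beq (sqI (sqI (sqI i))) 0
  | _ => Nat.blt k 11 && conjB w i (rep k)

/-- The position has root `z` and is of the kind `k`. -/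
noncomputable def rootTest (k i : ℕ) : Bool :=
  match k with
  | 5 => Nat.beq (sqI i) zI
  | 6 => Nat.beq (cubeI i) zI && !(Nat.beq (sqI i) 0)
  | 7 => Nat.beq (sqI (cubeI i)) zI && !(Nat.beq (sqI (sqI i)) 0)
  | 8 => Nat.beq (sqI (sqI i)) zI
  | _ => false

/-- An entry: position, kind, witness, parent and generator. -/
abbrev Ent : Type := ℕ × ℕ × ℕ × ℕ × ℕ

/-- Membership. -/
def memB (i : ℕ) (l : List ℕ) : Bool := l.any fun j => Nat.beq i j

/-- The entries are generated from `1`, each from an earlier one. -/
noncomputable def genB (a b : ℕ) : List ℕ → List Ent → Bool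
  | _, [] => true
  | seen, e :: l => (Nat.beq e.1 0 || (memB e.2.2.2.1 seen &&
      Nat.beq e.1 (mulI e.2.2.2.1 (cond (Nat.beq e.2.2.2.2 0) a b)))) && genB a b (e.1 :: seen) l

/-- No repetition. -/
def nodupB : List ℕ → Bool
  | [] => true
  | i :: l => !(memB i l) && nodupB l

/-- The entries list a subgroup with its kinds. -/
noncomputable def checkSub (a b : ℕ) (l : List Ent) : Bool :=
  let is := l.map fun e => e.1
  Nat.blt a 1920 && Nat.blt b 1920 && memB 0 is && nodupB is && genB a b [] l &&
    l.all fun e => Nat.blt e.1 1920 && kindOK e.1 e.2.1 e.2.2.1 && Nat.blt e.2.1 11 &&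
      memB (mulI e.1 a) is && memB (mulI e.1 b) is

/-- The numbers of entries of each kind. -/
def counts (l : List Ent) : List ℕ :=
  [0, 1, 2, 3, 4, 5, 6, 7, 8, 9, 10].map fun k => (l.filter fun e => Nat.beq e.2.1 k).length

/-- Equality of lists. -/
def beqL : List ℕ → List ℕ → Bool
  | [], [] => true
  | a :: l, b :: m => Nat.beq a b && beqL l m
  | _, _ => false

/-- The list runs through the powers of `x`. -/
noncomputable def powB (x : ℕ) : ℕ → List (ℕ × ℕ × ℕ) → Bool
  | cur, [] => Nat.beq cur 0
  | cur, e :: l => Nat.beq e.1 cur && Nat.blt e.1 1920 && kindOK e.1 e.2.1 e.2.2 && powB x (mulI e.1 x) l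

/-- The powers with their kinds. -/
noncomputable def checkPow (x : ℕ) (l : List (ℕ × ℕ × ℕ)) : Bool := Nat.blt x 1920 && powB x 0 l

/-- The elements with root `z` of one kind are conjugate. -/
noncomputable def checkRoots (k : ℕ) (l : List (ℕ × ℕ)) : Bool :=
  allBelow 1920 fun i => !(rootTest k i) || l.any fun p => Nat.beq i p.1 && conjB p.2 i (rep k)

/-- Counting below a bound. -/
noncomputable def countBelow (n : ℕ) (p : ℕ → Bool) : ℕ :=
  Nat.rec 0 (fun i ih => cond (p i) (Nat.succ ih) ih) n

/-- The order of the centraliser of a position. -/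
noncomputable def centCount (x : ℕ) : ℕ :=
  countBelow 1920 fun j => Nat.beq (mulI x j) (mulI j x)

/-- The number of involutions inverting a position and different from it. -/
noncomputable def pairCount (x : ℕ) : ℕ :=
  countBelow 1920 fun y => !(Nat.beq y 0) && Nat.beq (sqI y) 0 &&
    force (mulI y x) fun m => !(Nat.beq m 0) && Nat.beq (sqI m) 0

theorem beqL_eq : ∀ {l m : List ℕ}, beqL l m = true → l = m
  | [], [], _ => rfl
  | [], _ :: _, h => by simp [beqL] at h
  | _ :: _, [], h => by simp [beqL] at h
  | a :: l, b :: m, h => by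
    simp only [beqL, Bool.and_eq_true] at h
    rw [Nat.eq_of_beq_eq_true h.1, beqL_eq h.2]

theorem memB_iff {i : ℕ} {l : List ℕ} : memB i l = true ↔ i ∈ l := by
  simp [memB]

theorem nodupB_sound : ∀ {l : List ℕ}, nodupB l = true → l.Nodup
  | [], _ => List.nodup_nil
  | i :: l, h => by
    simp only [nodupB, Bool.and_eq_true, Bool.not_eq_true'] at h
    refine List.nodup_cons.2 ⟨fun hm => ?_, nodupB_sound h.2⟩
    rw [memB_iff.2 hm] at h
    exact Bool.noConfusion h.1

theorem countBelow_eq (p : ℕ → Bool) :
    ∀ n, countBelow n p = ((Finset.range n).filter fun i => p i = true).card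
  | 0 => rfl
  | n + 1 => by
    have ih := countBelow_eq p n
    show cond (p n) (Nat.succ (countBelow n p)) (countBelow n p) = _
    rw [Finset.range_add_one, Finset.filter_insert]
    cases hp : p n
    · simpa using ih
    · rw [if_pos rfl, Finset.card_insert_of_notMem (by simp), ← ih]; rfl

end Cfsg.Agent.Lib.J3Order.Table
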