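import Cfsg.Agent.Lib.J3Order.Table

/-!
# Groups of `J₃` type: certificates in the table of the centraliser
-/

set_option autoImplicit false

namespace Cfsg.Agent.Lib.J3Order.Table

/-- The subgroup generated by the positions `0` and `1`. -/
def h0x1 : List Ent :=
  [(0, 0, 0, 0, 0), (1, 1, 0, 0, 1), (5, 2, 0, 1, 1), (8, 2, 703, 5, 1), (2, 1, 703, 8, 1)]

theorem h0x1_check : (checkSub 0 1 h0x1 && beqL (counts h0x1) [1, 2, 2, 0, 0, 0, 0, 0, 0, 0, 0]) = true := by decide +kernel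

/-- The subgroup generated by the positions `0` and `17`. -/
def h0x17 : List Ent :=
  [(0, 0, 0, 0, 0), (17, 9, 0, 0, 1), (240, 1, 1527, 17, 1), (615, 10, 36, 240, 1), (686, 2, 1527, 615, 1),
    (1015, 4, 0, 686, 1), (575, 2, 94, 1015, 1), (668, 10, 1338, 575, 1), (453, 1, 94, 668, 1), (39, 9, 703, 453, 1)]

theorem h0x17_check : (checkSub 0 17 h0x17 && beqL (counts h0x17) [1, 2, 2, 0, 1, 0, 0, 0, 0, 2, 2]) = true := by decide +kernel

/-- The subgroup generated by the positions `0` and `20`. -/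
def h0x20 : List Ent :=
  [(0, 0, 0, 0, 0), (20, 7, 0, 0, 1), (267, 6, 0, 20, 1), (491, 5, 0, 267, 1), (1042, 3, 37, 491, 1),
    (748, 7, 0, 1042, 1), (1015, 4, 0, 748, 1), (822, 7, 0, 1015, 1), (925, 3, 1057, 822, 1), (691, 5, 0, 925, 1),
    (416, 6, 0, 691, 1), (35, 7, 0, 416, 1)]

theorem h0x20_check : (checkSub 0 20 h0x20 && beqL (counts h0x20) [1, 0, 0, 2, 1, 2, 2, 4, 0, 0, 0]) = true := by decide +kernel

/-- The subgroup generated by the positions `0` and `50`. -/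
def h0x50 : List Ent :=
  [(0, 0, 0, 0, 0), (50, 8, 0, 0, 1), (72, 5, 0, 50, 1), (946, 8, 0, 72, 1), (1015, 4, 0, 946, 1),
    (971, 8, 0, 1015, 1), (100, 5, 0, 971, 1), (92, 8, 0, 100, 1)]

theorem h0x50_check : (checkSub 0 50 h0x50 && beqL (counts h0x50) [1, 0, 0, 0, 1, 2, 0, 0, 4, 0, 0]) = true := by decide +kernel

/-- The subgroup generated by the positions `1` and `703`. -/
def h1x703 : List Ent :=
  [(0, 0, 0, 0, 0), (1, 1, 0, 0, 0), (703, 4, 0, 0, 1), (5, 2, 0, 1, 0), (731, 4, 0, 1, 1),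
    (1054, 4, 0, 703, 0), (8, 2, 703, 5, 0), (929, 4, 0, 5, 1), (1272, 4, 0, 1054, 0), (2, 1, 703, 1054, 1)]

theorem h1x703_check : (checkSub 1 703 h1x703 && beqL (counts h1x703) [1, 2, 2, 0, 5, 0, 0, 0, 0, 0, 0]) = true := by decide +kernel

/-- The subgroup generated by the positions `3` and `4`. -/
def h3x4 : List Ent :=
  [(0, 0, 0, 0, 0), (3, 4, 0, 0, 0), (4, 4, 0, 0, 1), (13, 4, 0, 3, 1)]

theorem h3x4_check : (checkSub 3 4 h3x4 && beqL (counts h3x4) [1, 0, 0, 0, 3, 0, 0, 0, 0, 0, 0]) = true := by decide +kernel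

/-- The subgroup generated by the positions `3` and `22`. -/
def h3x22 : List Ent :=
  [(0, 0, 0, 0, 0), (3, 4, 0, 0, 0), (22, 4, 0, 0, 1), (79, 8, 0, 3, 1), (57, 8, 0, 22, 0),
    (111, 4, 0, 79, 0), (573, 4, 0, 57, 1), (249, 5, 0, 111, 1), (285, 5, 0, 573, 0), (507, 4, 0, 249, 0),
    (576, 4, 0, 285, 1), (444, 8, 0, 507, 1), (409, 8, 0, 576, 0), (215, 4, 0, 444, 0), (1392, 4, 0, 409, 1),
    (1015, 4, 0, 215, 1)]

theorem h3x22_check : (checkSub 3 22 h3x22 && beqL (counts h3x22) [1, 0, 0, 0, 9, 2, 0, 0, 4, 0, 0]) = true := by decide +kernel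

/-- The subgroup generated by the positions `3` and `58`. -/
def h3x58 : List Ent :=
  [(0, 0, 0, 0, 0), (3, 4, 0, 0, 0), (58, 5, 0, 0, 1), (183, 8, 0, 3, 1), (137, 8, 0, 58, 0),
    (1015, 4, 0, 58, 1), (245, 5, 0, 183, 0), (1392, 4, 0, 183, 1), (507, 4, 0, 137, 1), (95, 5, 0, 1015, 1),
    (285, 5, 0, 245, 1), (197, 8, 0, 1392, 1), (249, 5, 0, 507, 0), (214, 8, 0, 507, 1), (573, 4, 0, 285, 0),
    (408, 5, 0, 285, 1)]

theorem h3x58_check : (checkSub 3 58 h3x58 && beqL (counts h3x58) [1, 0, 0, 0, 5, 6, 0, 0, 4, 0, 0]) = true := by decide +kernel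

/-- The subgroup generated by the positions `3` and `107`. -/
def h3x107 : List Ent :=
  [(0, 0, 0, 0, 0), (3, 4, 0, 0, 0), (107, 7, 0, 0, 1), (371, 6, 0, 3, 1), (238, 6, 0, 107, 0),
    (871, 6, 0, 107, 1), (709, 7, 0, 371, 0), (1061, 3, 63, 371, 1), (152, 3, 142, 238, 1), (1285, 3, 150, 871, 0),
    (312, 5, 0, 871, 1), (118, 3, 16, 709, 1), (1435, 6, 0, 1061, 0), (167, 8, 0, 1061, 1), (64, 3, 5, 152, 0),
    (1395, 8, 0, 152, 1), (1609, 8, 0, 1285, 1), (188, 8, 0, 312, 0), (1113, 3, 62, 312, 1), (49, 3, 303, 118, 0),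
    (1658, 8, 0, 118, 1), (1275, 8, 0, 1435, 1), (72, 5, 0, 167, 0), (1536, 6, 0, 167, 1), (79, 8, 0, 64, 1),
    (1699, 8, 0, 1395, 0), (1028, 6, 0, 1395, 1), (1274, 8, 0, 1609, 0), (1521, 6, 0, 1609, 1), (1509, 6, 0, 188, 1),
    (894, 6, 0, 1113, 0), (814, 7, 0, 1113, 1), (22, 4, 0, 49, 1), (1396, 8, 0, 1658, 0), (1482, 6, 0, 1658, 1),
    (1611, 8, 0, 1275, 0), (1005, 3, 632, 1275, 1), (977, 6, 0, 72, 1), (1327, 3, 147, 1536, 0), (1202, 6, 0, 1536, 1),
    (111, 4, 0, 79, 0), (720, 6, 0, 79, 1), (184, 3, 9, 1699, 1), (1294, 6, 0, 1028, 0), (635, 6, 0, 1028, 1),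
    (978, 6, 0, 1274, 1), (1458, 3, 555, 1521, 0), (807, 6, 0, 1521, 1), (1154, 6, 0, 1509, 0), (456, 6, 0, 1509, 1),
    (1070, 6, 0, 894, 1), (1238, 6, 0, 814, 0), (1015, 4, 0, 814, 1), (57, 8, 0, 22, 0), (282, 3, 15, 22, 1),
    (59, 3, 300, 1396, 1), (1477, 6, 0, 1482, 0), (910, 6, 0, 1482, 1), (1354, 3, 134, 1611, 1), (969, 6, 0, 1005, 0),
    (1199, 6, 0, 1005, 1), (557, 6, 0, 977, 0), (786, 6, 0, 977, 1), (530, 6, 0, 1327, 1), (1560, 7, 0, 1202, 0),
    (1392, 4, 0, 1202, 1), (43, 3, 2, 111, 1), (1161, 3, 40, 720, 0), (336, 6, 0, 720, 1), (176, 3, 140, 184, 0),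
    (270, 6, 0, 184, 1), (253, 6, 0, 1294, 1), (326, 6, 0, 635, 0), (1818, 4, 0, 635, 1), (874, 3, 56, 978, 0),
    (1254, 6, 0, 978, 1), (332, 6, 0, 1458, 1), (432, 6, 0, 807, 0), (1608, 4, 0, 807, 1), (914, 6, 0, 1154, 1),
    (836, 6, 0, 456, 0), (675, 4, 0, 456, 1), (640, 6, 0, 1070, 0), (1839, 4, 0, 1070, 1), (1853, 4, 0, 1238, 1),
    (802, 7, 0, 1015, 1), (568, 6, 0, 282, 0), (513, 7, 0, 282, 1), (644, 7, 0, 59, 1), (159, 7, 0, 1477, 1),
    (511, 6, 0, 910, 0), (1903, 5, 0, 910, 1), (1498, 6, 0, 1354, 0), (1570, 7, 0, 1354, 1), (125, 7, 0, 969, 1),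
    (768, 6, 0, 1199, 0), (1273, 4, 0, 1199, 1), (651, 7, 0, 557, 1), (1215, 6, 0, 786, 0), (315, 5, 0, 786, 1),
    (264, 6, 0, 530, 0), (1910, 4, 0, 530, 1), (1815, 5, 0, 1560, 1), (1198, 6, 0, 1392, 1), (121, 7, 0, 43, 1),
    (510, 7, 0, 1161, 1), (536, 5, 0, 336, 1), (329, 7, 0, 176, 1), (1850, 4, 0, 270, 1), (512, 7, 0, 253, 0),
    (622, 5, 0, 253, 1), (619, 4, 0, 326, 1), (1904, 5, 0, 1818, 0), (1232, 6, 0, 1818, 1), (252, 7, 0, 874, 1),
    (839, 7, 0, 1254, 0), (1713, 5, 0, 1254, 1), (495, 5, 0, 432, 1), (794, 6, 0, 1608, 1), (1825, 5, 0, 914, 1),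
    (1835, 4, 0, 836, 1), (363, 5, 0, 675, 0), (718, 6, 0, 675, 1), (674, 5, 0, 640, 1), (360, 6, 0, 1839, 1),
    (1819, 5, 0, 1853, 0), (1204, 6, 0, 1853, 1), (940, 3, 631, 802, 1), (325, 7, 0, 568, 1), (491, 5, 0, 513, 1),
    (1833, 5, 0, 644, 1), (335, 6, 0, 159, 0), (666, 5, 0, 159, 1), (1817, 4, 0, 1903, 0), (1557, 7, 0, 1903, 1),
    (154, 7, 0, 1498, 1), (1218, 6, 0, 1570, 0), (1866, 5, 0, 1570, 1), (580, 5, 0, 768, 1), (469, 6, 0, 1273, 1),
    (1628, 5, 0, 651, 1), (1906, 5, 0, 1215, 1), (280, 6, 0, 315, 1), (581, 5, 0, 264, 1), (753, 6, 0, 1910, 1),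
    (1902, 4, 0, 1815, 0), (816, 6, 0, 1815, 1), (1037, 6, 0, 1198, 1), (263, 7, 0, 121, 0), (347, 5, 0, 121, 1),
    (1901, 5, 0, 510, 1), (559, 5, 0, 536, 0), (1571, 7, 0, 536, 1), (639, 7, 0, 329, 0), (743, 5, 0, 329, 1),
    (1827, 5, 0, 1850, 0), (1153, 6, 0, 1850, 1), (1875, 5, 0, 512, 1), (1048, 5, 0, 622, 0), (849, 6, 0, 622, 1),
    (773, 6, 0, 619, 1), (1148, 6, 0, 1904, 1), (1864, 6, 0, 1232, 1), (249, 5, 0, 252, 1), (889, 5, 0, 839, 1),
    (144, 7, 0, 1713, 1), (724, 5, 0, 495, 0), (1247, 6, 0, 495, 1), (1222, 6, 0, 794, 0), (1345, 6, 0, 794, 1),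
    (1613, 5, 0, 1825, 0), (780, 7, 0, 1825, 1), (441, 6, 0, 363, 1), (1001, 6, 0, 718, 1), (735, 7, 0, 674, 1),
    (687, 6, 0, 360, 0), (1241, 7, 0, 1819, 1), (1333, 6, 0, 1204, 1), (418, 5, 0, 940, 1), (1826, 4, 0, 325, 1),
    (1258, 7, 0, 491, 1), (1909, 4, 0, 1833, 0), (556, 6, 0, 1833, 1), (1702, 5, 0, 335, 1), (691, 5, 0, 666, 0),
    (488, 7, 0, 1817, 1), (1856, 6, 0, 1557, 1), (573, 4, 0, 154, 1), (385, 6, 0, 1866, 1), (290, 5, 0, 580, 0),
    (1566, 7, 0, 580, 1), (1417, 3, 447, 469, 1), (1837, 5, 0, 1628, 0), (449, 6, 0, 1628, 1), (1308, 6, 0, 280, 1),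
    (307, 6, 0, 581, 1), (1183, 6, 0, 753, 0), (1562, 7, 0, 1902, 1), (1106, 6, 0, 816, 1), (224, 8, 0, 1037, 1),
    (1272, 4, 0, 263, 1), (607, 7, 0, 347, 1), (1197, 6, 0, 1901, 1), (1223, 7, 0, 1571, 0), (1698, 6, 0, 1571, 1),
    (862, 4, 0, 639, 1), (1172, 6, 0, 743, 1), (276, 7, 0, 1827, 1), (1269, 3, 90, 1153, 1), (1212, 6, 0, 1875, 1),
    (749, 7, 0, 1048, 1), (119, 6, 0, 849, 1), (339, 3, 21, 773, 1), (710, 7, 0, 1148, 0), (1671, 6, 0, 1148, 1),
    (1868, 8, 0, 1864, 1), (507, 4, 0, 249, 0), (819, 7, 0, 249, 1), (1415, 6, 0, 144, 1), (1211, 6, 0, 724, 1),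
    (829, 7, 0, 1247, 0), (951, 6, 0, 1247, 1), (153, 6, 0, 1222, 1), (1907, 8, 0, 1345, 1), (308, 6, 0, 1613, 1),
    (1282, 6, 0, 780, 1), (516, 6, 0, 441, 1), (1385, 6, 0, 1001, 0), (202, 8, 0, 1001, 1), (664, 6, 0, 735, 1),
    (1349, 6, 0, 687, 1), (1450, 6, 0, 1241, 1), (923, 6, 0, 1333, 0), (801, 7, 0, 1826, 1), (852, 7, 0, 1258, 0),
    (1672, 6, 0, 1258, 1), (714, 7, 0, 1909, 1), (1423, 6, 0, 556, 1), (356, 7, 0, 691, 1), (239, 6, 0, 488, 0),
    (1697, 6, 0, 488, 1), (1914, 8, 0, 1856, 1), (285, 5, 0, 573, 0), (1205, 7, 0, 573, 1), (1344, 6, 0, 385, 1),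
    (828, 7, 0, 290, 1), (1044, 3, 36, 1566, 1), (1831, 8, 0, 1417, 1), (736, 7, 0, 1837, 1), (100, 5, 0, 1308, 1),
    (1394, 6, 0, 1183, 1), (950, 6, 0, 1562, 1), (394, 7, 0, 1272, 1), (534, 6, 0, 607, 1), (762, 7, 0, 1197, 0),
    (259, 6, 0, 1197, 1), (954, 6, 0, 1223, 1), (409, 8, 0, 1698, 1), (172, 7, 0, 862, 1), (1073, 6, 0, 1172, 1),
    (130, 7, 0, 276, 0), (1406, 3, 305, 276, 1), (1916, 8, 0, 1269, 1), (554, 6, 0, 1212, 1), (95, 5, 0, 119, 1),
    (658, 6, 0, 339, 0), (670, 6, 0, 710, 1), (1849, 8, 0, 1671, 1), (361, 3, 605, 1868, 1), (376, 7, 0, 507, 1),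
    (937, 6, 0, 819, 1), (1386, 6, 0, 1415, 0), (1829, 8, 0, 1415, 1), (1107, 6, 0, 1211, 1), (1088, 3, 309, 829, 1),
    (245, 5, 0, 951, 1), (323, 6, 0, 153, 0), (197, 8, 0, 153, 1), (1824, 8, 0, 1282, 1), (920, 3, 54, 516, 0),
    (1610, 8, 0, 1385, 1), (1478, 3, 302, 202, 1), (214, 8, 0, 664, 1), (58, 5, 0, 1349, 1), (1701, 8, 0, 1450, 1),
    (408, 5, 0, 923, 1), (425, 6, 0, 801, 0), (1451, 6, 0, 852, 1), (215, 4, 0, 1672, 1), (1311, 6, 0, 714, 1),
    (1869, 8, 0, 1423, 1), (927, 6, 0, 239, 1), (1700, 8, 0, 1697, 1), (754, 6, 0, 1914, 1), (1908, 8, 0, 1344, 1),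
    (903, 3, 603, 828, 1), (137, 8, 0, 1044, 1), (1127, 6, 0, 100, 1), (183, 8, 0, 1394, 1), (1865, 8, 0, 950, 1),
    (1334, 6, 0, 394, 1), (576, 4, 0, 534, 1), (1074, 6, 0, 762, 1), (1851, 8, 0, 259, 1), (538, 6, 0, 954, 0),
    (1828, 8, 0, 954, 1), (1389, 6, 0, 409, 1), (1111, 6, 0, 172, 1), (444, 8, 0, 1073, 1), (275, 3, 610, 130, 1),
    (1705, 8, 0, 1406, 1), (1892, 6, 0, 1916, 1), (569, 6, 0, 95, 1), (1616, 8, 0, 658, 1), (71, 8, 0, 670, 1),
    (649, 6, 0, 376, 1), (28, 4, 0, 937, 1), (82, 8, 0, 1386, 1), (1126, 6, 0, 1829, 1), (1300, 6, 0, 245, 1),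
    (1703, 8, 0, 323, 1), (1162, 3, 306, 197, 1), (1612, 8, 0, 1824, 0), (1529, 6, 0, 1824, 1), (1830, 8, 0, 920, 1),
    (1823, 8, 0, 1610, 0), (1038, 3, 599, 1610, 1), (369, 6, 0, 214, 1), (1413, 6, 0, 1701, 1), (105, 6, 0, 408, 1),
    (1617, 8, 0, 1451, 1), (878, 6, 0, 215, 1), (1867, 8, 0, 1311, 1), (1719, 6, 0, 1869, 1), (146, 4, 0, 927, 1),
    (1541, 6, 0, 1908, 1), (1696, 6, 0, 137, 1), (1766, 6, 0, 1865, 1), (1634, 6, 0, 576, 1), (464, 8, 0, 1074, 1),
    (1350, 6, 0, 1851, 1), (699, 4, 0, 538, 1), (1534, 6, 0, 1828, 1), (457, 6, 0, 1389, 1), (1863, 6, 0, 444, 1),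
    (225, 4, 0, 275, 1), (141, 6, 0, 1705, 1), (1177, 6, 0, 71, 1), (419, 8, 0, 649, 1), (689, 6, 0, 28, 1),
    (1185, 6, 0, 82, 1), (1293, 6, 0, 1703, 1), (493, 6, 0, 1612, 1), (1217, 6, 0, 1529, 1), (1150, 6, 0, 1823, 1),
    (838, 7, 0, 1038, 1), (384, 6, 0, 369, 0), (1080, 6, 0, 1413, 1), (1052, 6, 0, 1617, 1), (787, 7, 0, 878, 1),
    (625, 6, 0, 146, 1), (544, 7, 0, 1766, 1), (808, 7, 0, 1634, 1), (1505, 6, 0, 464, 1), (1568, 7, 0, 1350, 1),
    (893, 6, 0, 699, 1), (1200, 7, 0, 1863, 1), (1201, 6, 0, 141, 1), (770, 7, 0, 1177, 1), (1216, 7, 0, 689, 1),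
    (837, 7, 0, 1185, 1), (1251, 7, 0, 1293, 1), (1558, 7, 0, 493, 1), (1234, 7, 0, 1150, 1), (813, 7, 0, 384, 1),
    (645, 7, 0, 1080, 0), (436, 6, 0, 625, 1), (271, 6, 0, 544, 0), (13, 4, 0, 770, 1), (1911, 4, 0, 1558, 1),
    (1919, 4, 0, 1234, 1), (1014, 4, 0, 645, 1), (4, 4, 0, 436, 1), (594, 4, 0, 271, 1)]

theorem h3x107_check : (checkSub 3 107 h3x107 && beqL (counts h3x107) [1, 0, 0, 32, 35, 44, 160, 64, 48, 0, 0]) = true := by decide +kernel

/-- The subgroup generated by the positions `3` and `237`. -/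
def h3x237 : List Ent :=
  [(0, 0, 0, 0, 0), (3, 4, 0, 0, 0), (237, 4, 0, 0, 1), (708, 7, 0, 3, 1), (485, 7, 0, 237, 0),
    (1146, 4, 0, 708, 0), (1513, 4, 0, 485, 1), (985, 6, 0, 1146, 1), (1158, 6, 0, 1513, 0), (563, 4, 0, 985, 0),
    (675, 4, 0, 1158, 1), (315, 5, 0, 563, 1), (363, 5, 0, 675, 0), (619, 4, 0, 315, 0), (479, 4, 0, 363, 1),
    (1142, 3, 65, 619, 1), (867, 3, 143, 479, 0), (1494, 4, 0, 1142, 0), (1782, 4, 0, 867, 1), (1381, 7, 0, 1494, 1),
    (1517, 7, 0, 1782, 0), (991, 4, 0, 1381, 0), (1392, 4, 0, 1517, 1), (1015, 4, 0, 991, 1)]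

theorem h3x237_check : (checkSub 3 237 h3x237 && beqL (counts h3x237) [1, 0, 0, 2, 13, 2, 2, 4, 0, 0, 0]) = true := by decide +kernel

/-- The subgroup generated by the positions `3` and `290`. -/
def h3x290 : List Ent :=
  [(0, 0, 0, 0, 0), (3, 4, 0, 0, 0), (290, 5, 0, 0, 1), (724, 5, 0, 3, 1), (580, 5, 0, 290, 0),
    (1015, 4, 0, 290, 1), (495, 5, 0, 724, 0), (1392, 4, 0, 724, 1), (13, 4, 0, 580, 1), (347, 5, 0, 1015, 1),
    (4, 4, 0, 495, 1), (743, 5, 0, 1392, 1), (674, 5, 0, 13, 1), (581, 5, 0, 4, 1), (1014, 4, 0, 674, 1),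
    (594, 4, 0, 581, 1)]

theorem h3x290_check : (checkSub 3 290 h3x290 && beqL (counts h3x290) [1, 0, 0, 0, 7, 8, 0, 0, 0, 0, 0]) = true := by decide +kernel

/-- The subgroup generated by the positions `4` and `57`. -/
def h4x57 : List Ent :=
  [(0, 0, 0, 0, 0), (4, 4, 0, 0, 0), (57, 8, 0, 0, 1), (214, 8, 0, 4, 1), (137, 8, 0, 57, 0),
    (285, 5, 0, 57, 1), (444, 8, 0, 214, 0), (363, 5, 0, 214, 1), (315, 5, 0, 137, 1), (409, 8, 0, 285, 1),
    (249, 5, 0, 444, 1), (183, 8, 0, 363, 1), (197, 8, 0, 315, 1), (1015, 4, 0, 409, 1), (79, 8, 0, 249, 1),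
    (594, 4, 0, 183, 1)]

theorem h4x57_check : (checkSub 4 57 h4x57 && beqL (counts h4x57) [1, 0, 0, 0, 3, 4, 0, 0, 8, 0, 0]) = true := by decide +kernel

/-- The subgroup generated by the positions `4` and `107`. -/
def h4x107 : List Ent :=
  [(0, 0, 0, 0, 0), (4, 4, 0, 0, 0), (107, 7, 0, 0, 1), (425, 6, 0, 4, 1), (239, 6, 0, 107, 0),
    (871, 6, 0, 107, 1), (802, 7, 0, 425, 0), (538, 6, 0, 425, 1), (927, 6, 0, 239, 1), (312, 5, 0, 871, 1),
    (940, 3, 631, 802, 1), (699, 4, 0, 538, 1), (146, 4, 0, 927, 1), (1113, 3, 62, 312, 1), (418, 5, 0, 940, 1),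
    (893, 6, 0, 699, 1), (625, 6, 0, 146, 1), (814, 7, 0, 1113, 1), (969, 6, 0, 418, 1), (271, 6, 0, 893, 1),
    (436, 6, 0, 625, 1), (1015, 4, 0, 814, 1), (125, 7, 0, 969, 1), (594, 4, 0, 271, 1)]

theorem h4x107_check : (checkSub 4 107 h4x107 && beqL (counts h4x107) [1, 0, 0, 2, 5, 2, 10, 4, 0, 0, 0]) = true := by decide +kernel

/-- The subgroup generated by the positions `4` and `235`. -/
def h4x235 : List Ent :=
  [(0, 0, 0, 0, 0), (4, 4, 0, 0, 0), (235, 8, 0, 0, 1), (798, 5, 0, 4, 1), (482, 5, 0, 235, 0),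
    (495, 5, 0, 235, 1), (540, 8, 0, 798, 0), (347, 5, 0, 798, 1), (95, 5, 0, 482, 1), (957, 8, 0, 495, 1),
    (22, 4, 0, 540, 1), (915, 5, 0, 347, 1), (215, 4, 0, 95, 0), (1138, 5, 0, 95, 1), (1015, 4, 0, 957, 1),
    (58, 5, 0, 22, 0), (565, 8, 0, 22, 1), (594, 4, 0, 915, 1), (503, 8, 0, 215, 1), (28, 4, 0, 1138, 1),
    (997, 8, 0, 1015, 1), (518, 5, 0, 58, 1), (100, 5, 0, 565, 1), (911, 5, 0, 594, 1), (789, 5, 0, 503, 0),
    (72, 5, 0, 503, 1), (1123, 5, 0, 28, 1), (581, 5, 0, 997, 1), (256, 8, 0, 518, 0), (225, 4, 0, 518, 1),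
    (520, 8, 0, 100, 1), (290, 5, 0, 911, 1)]

theorem h4x235_check : (checkSub 4 235 h4x235 && beqL (counts h4x235) [1, 0, 0, 0, 7, 16, 0, 0, 8, 0, 0]) = true := by decide +kernel

/-- The subgroup generated by the positions `4` and `249`. -/
def h4x249 : List Ent :=
  [(0, 0, 0, 0, 0), (4, 4, 0, 0, 0), (249, 5, 0, 0, 1), (315, 5, 0, 4, 1), (1015, 4, 0, 249, 1),
    (594, 4, 0, 315, 1), (285, 5, 0, 1015, 1), (363, 5, 0, 594, 1)]

theorem h4x249_check : (checkSub 4 249 h4x249 && beqL (counts h4x249) [1, 0, 0, 0, 3, 4, 0, 0, 0, 0, 0]) = true := by decide +kernel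

/-- The subgroup generated by the positions `4` and `493`. -/
def h4x493 : List Ent :=
  [(0, 0, 0, 0, 0), (4, 4, 0, 0, 0), (493, 6, 0, 0, 1), (894, 6, 0, 4, 1), (1061, 3, 63, 493, 1),
    (1074, 6, 0, 894, 1), (594, 4, 0, 1061, 1), (1015, 4, 0, 1074, 1), (1005, 3, 632, 594, 1), (1052, 6, 0, 1015, 1),
    (670, 6, 0, 1005, 1), (1037, 6, 0, 1052, 1)]

theorem h4x493_check : (checkSub 4 493 h4x493 && beqL (counts h4x493) [1, 0, 0, 2, 3, 0, 6, 0, 0, 0, 0]) = true := by decide +kernel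

/-- The subgroup generated by the positions `6` and `1023`. -/
def h6x1023 : List Ent :=
  [(0, 0, 0, 0, 0), (6, 3, 0, 0, 0), (1023, 8, 0, 0, 1), (12, 3, 601, 6, 0), (1274, 8, 0, 6, 1),
    (1493, 8, 0, 1023, 0), (491, 5, 0, 1023, 1), (812, 7, 0, 1274, 1), (716, 7, 0, 1493, 1), (1811, 8, 0, 491, 1),
    (1869, 8, 0, 812, 1), (1880, 8, 0, 716, 1), (1015, 4, 0, 1811, 1), (1243, 6, 0, 1869, 1), (1221, 6, 0, 1880, 1),
    (1722, 8, 0, 1015, 1), (1829, 8, 0, 1243, 1), (1895, 8, 0, 1221, 1), (691, 5, 0, 1722, 1), (692, 7, 0, 1829, 1),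
    (590, 7, 0, 1895, 1), (1089, 8, 0, 691, 1), (1396, 8, 0, 692, 1), (1428, 8, 0, 590, 1)]

theorem h6x1023_check : (checkSub 6 1023 h6x1023 && beqL (counts h6x1023) [1, 0, 0, 2, 1, 2, 2, 4, 12, 0, 0]) = true := by decide +kernel

/-- The powers of the position `50`. -/
def p50 : List (ℕ × ℕ × ℕ) :=
  [(0, 0, 0), (50, 8, 0), (72, 5, 0), (946, 8, 0), (1015, 4, 0), (971, 8, 0),
    (100, 5, 0), (92, 8, 0)]

theorem p50_check : (checkPow 50 p50 && beqL (p50.map fun e => e.2.1) [0, 8, 5, 8, 4, 8, 5, 8]) = true := by decide +kernel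

/-- The powers of the position `20`. -/
def p20 : List (ℕ × ℕ × ℕ) :=
  [(0, 0, 0), (20, 7, 0), (267, 6, 0), (491, 5, 0), (1042, 3, 37), (748, 7, 0),
    (1015, 4, 0), (822, 7, 0), (925, 3, 1057), (691, 5, 0), (416, 6, 0), (35, 7, 0)]

theorem p20_check : (checkPow 20 p20 && beqL (p20.map fun e => e.2.1) [0, 7, 6, 5, 3, 7, 4, 7, 3, 5, 6, 7]) = true := by decide +kernel

/-- The powers of the position `17`. -/
def p17 : List (ℕ × ℕ × ℕ) :=
  [(0, 0, 0), (17, 9, 0), (240, 1, 1527), (615, 10, 36), (686, 2, 1527), (1015, 4, 0),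
    (575, 2, 94), (668, 10, 1338), (453, 1, 94), (39, 9, 703)]

theorem p17_check : (checkPow 17 p17 && beqL (p17.map fun e => e.2.1) [0, 9, 1, 10, 2, 4, 2, 10, 1, 9]) = true := by decide +kernel

/-- The powers of the position `113`. -/
def p113 : List (ℕ × ℕ × ℕ) :=
  [(0, 0, 0), (113, 10, 0), (279, 2, 15), (428, 9, 1335), (139, 1, 1146), (1015, 4, 0),
    (133, 1, 15), (468, 9, 24), (291, 2, 1146), (213, 10, 703)]

theorem p113_check : (checkPow 113 p113 && beqL (p113.map fun e => e.2.1) [0, 10, 2, 9, 1, 4, 1, 9, 2, 10]) = true := by decide +kernel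

/-- The powers of the position `1`. -/
def p1 : List (ℕ × ℕ × ℕ) :=
  [(0, 0, 0), (1, 1, 0), (5, 2, 0), (8, 2, 703), (2, 1, 703)]

theorem p1_check : (checkPow 1 p1 && beqL (p1.map fun e => e.2.1) [0, 1, 2, 2, 1]) = true := by decide +kernel

/-- The elements with root `z` of kind `5`. -/
def roots5 : List (ℕ × ℕ) :=
  [(58, 0), (72, 7), (95, 4), (100, 1), (245, 3), (249, 2), (285, 9), (290, 11),
    (312, 20), (315, 16), (347, 23), (363, 5), (408, 13), (418, 6), (491, 51), (495, 26),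
    (559, 35), (581, 8), (622, 12), (691, 18)]

theorem roots5_check : checkRoots 5 roots5 = true := by decide +kernel

/-- The elements with root `z` of kind `6`. -/
def roots6 : List (ℕ × ℕ) :=
  [(257, 0), (267, 862), (296, 6), (331, 1018), (343, 3), (354, 629), (381, 1), (391, 1054),
    (403, 597), (416, 4), (434, 601), (461, 13), (481, 152), (534, 303), (557, 605), (611, 24),
    (664, 34), (689, 2), (797, 323), (830, 8), (871, 476), (877, 176), (878, 19), (894, 300),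
    (937, 631), (942, 61), (960, 76), (969, 15), (985, 60), (988, 231), (1001, 5), (1026, 43),
    (1028, 322), (1037, 11), (1062, 64), (1092, 104), (1129, 194), (1134, 30), (1147, 98), (1158, 25),
    (1171, 59), (1187, 144), (1196, 102), (1206, 7), (1210, 141), (1221, 1024), (1229, 145), (1233, 23),
    (1243, 20), (1245, 66), (1250, 153), (1257, 1055), (1282, 16), (1333, 85), (1345, 26), (1350, 42),
    (1415, 368), (1435, 309), (1450, 142), (1477, 302), (1509, 306), (1521, 40), (1536, 140), (1541, 9),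
    (1634, 52), (1672, 603), (1693, 53), (1698, 21), (1719, 634), (1769, 325), (1803, 65), (1805, 276),
    (1807, 128), (1809, 143), (1812, 154), (1813, 130), (1856, 54), (1863, 555), (1864, 305), (1892, 126)]

theorem roots6_check : checkRoots 6 roots6 = true := by decide +kernel

/-- The elements with root `z` of kind `7`. -/
def roots7 : List (ℕ × ℕ) :=
  [(20, 0), (27, 1020), (31, 3), (33, 862), (34, 1), (35, 1024), (37, 4), (40, 629),
    (107, 2), (117, 12), (121, 476), (123, 601), (125, 603), (130, 15), (144, 599), (154, 11),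
    (157, 597), (159, 5), (163, 14), (172, 322), (229, 152), (234, 325), (252, 303), (263, 90),
    (276, 300), (304, 39), (309, 8), (325, 142), (329, 36), (356, 32), (376, 140), (394, 80),
    (422, 231), (447, 30), (477, 143), (478, 60), (485, 216), (488, 1026), (510, 26), (512, 16),
    (513, 610), (522, 96), (523, 76), (529, 23), (542, 166), (544, 150), (548, 1088), (560, 1018),
    (590, 1403), (592, 72), (598, 43), (599, 105), (605, 66), (607, 148), (630, 64), (632, 104),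
    (634, 154), (639, 447), (644, 305), (645, 63), (651, 309), (656, 75), (669, 1019), (679, 321),
    (685, 1056), (692, 33), (704, 65), (705, 25), (708, 98), (709, 9), (710, 606), (714, 40),
    (716, 1022), (728, 46), (732, 59), (733, 141), (734, 155), (735, 302), (736, 314), (748, 1405),
    (749, 327), (752, 38), (762, 306), (770, 151), (776, 71), (780, 147), (787, 1034), (792, 1274),
    (801, 605), (802, 10), (808, 863), (812, 315), (813, 319), (814, 1025), (819, 41), (821, 1023),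
    (822, 28), (828, 62), (829, 1021), (837, 31), (838, 611), (839, 17), (843, 1397), (845, 168),
    (847, 1400), (852, 630), (1200, 91), (1205, 301), (1216, 602), (1223, 185), (1228, 635), (1234, 205),
    (1241, 598), (1249, 24), (1251, 304), (1258, 81), (1271, 362), (1292, 156), (1307, 29), (1318, 361),
    (1329, 173), (1351, 144), (1362, 180), (1372, 74), (1378, 160), (1379, 485), (1380, 334), (1381, 458),
    (1382, 658), (1383, 101), (1407, 145), (1440, 649), (1446, 459), (1465, 237), (1472, 339), (1474, 220),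
    (1488, 239), (1489, 78), (1490, 158), (1492, 335), (1514, 68), (1517, 221), (1544, 360), (1546, 333),
    (1557, 27), (1558, 825), (1560, 604), (1562, 99), (1563, 161), (1566, 600), (1568, 67), (1570, 44),
    (1571, 637), (1572, 172), (1577, 61), (1580, 227), (1583, 338), (1587, 326), (1591, 159), (1593, 107)]

theorem roots7_check : checkRoots 7 roots7 = true := by decide +kernel

/-- The elements with root `z` of kind `8`. -/
def roots8 : List (ℕ × ℕ) :=
  [(50, 0), (57, 629), (65, 630), (71, 6), (79, 1054), (82, 1), (92, 4), (98, 322),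
    (127, 245), (137, 1493), (161, 1068), (167, 46), (183, 1402), (188, 112), (197, 1401), (202, 117),
    (210, 111), (214, 1706), (221, 1445), (224, 113), (232, 10), (233, 2), (235, 601), (251, 637),
    (256, 703), (265, 16), (301, 152), (302, 323), (310, 18), (328, 3), (330, 5), (341, 368),
    (370, 597), (386, 12), (398, 13), (409, 1427), (410, 327), (419, 7), (444, 1055), (464, 20),
    (472, 303), (473, 631), (486, 62), (487, 29), (490, 240), (503, 1140), (515, 638), (520, 1023),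
    (527, 235), (539, 182), (540, 1022), (545, 146), (555, 8), (565, 1431), (567, 108), (578, 1079),
    (606, 1080), (608, 639), (617, 17), (642, 124), (647, 183), (653, 1452), (667, 48), (671, 1289),
    (694, 1070), (696, 55), (719, 1067), (755, 131), (771, 79), (788, 1069), (800, 148), (827, 644),
    (853, 43), (854, 341), (869, 1058), (872, 610), (892, 45), (934, 32), (946, 52), (957, 1146),
    (958, 155), (971, 22), (976, 75), (986, 56), (997, 1024), (1017, 634), (1022, 176), (1023, 11),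
    (1036, 24), (1040, 116), (1051, 1133), (1057, 300), (1089, 34), (1102, 1062), (1109, 21), (1125, 602),
    (1130, 635), (1135, 51), (1140, 27), (1141, 9), (1167, 64), (1168, 153), (1195, 1018), (1214, 33),
    (1236, 44), (1242, 125), (1256, 704), (1259, 325), (1268, 83), (1270, 328), (1274, 76), (1275, 30),
    (1287, 179), (1309, 646), (1313, 74), (1315, 23), (1325, 1083), (1335, 184), (1336, 26), (1338, 140),
    (1348, 282), (1366, 603), (1368, 1063), (1369, 662), (1395, 84), (1396, 192), (1404, 605), (1405, 86),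
    (1420, 876), (1421, 106), (1427, 59), (1428, 162), (1432, 80), (1437, 720), (1441, 142), (1443, 337),
    (1455, 82), (1467, 122), (1469, 53), (1470, 31), (1493, 66), (1500, 147), (1503, 331), (1511, 123),
    (1516, 157), (1518, 54), (1522, 69), (1524, 645), (1527, 329), (1539, 1149), (1545, 640), (1550, 708),
    (1555, 314), (1565, 332), (1574, 107), (1585, 376), (1609, 160), (1610, 485), (1611, 68), (1612, 237),
    (1616, 406), (1617, 196), (1621, 761), (1637, 234), (1646, 706), (1656, 1143), (1658, 25), (1665, 671),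
    (1681, 333), (1695, 126), (1699, 60), (1700, 78), (1701, 180), (1703, 181), (1705, 377), (1722, 136),
    (1733, 187), (1752, 57), (1773, 654), (1774, 309), (1777, 109), (1779, 173), (1781, 134), (1790, 61),
    (1791, 254), (1792, 695), (1794, 304), (1796, 326), (1802, 270), (1804, 154), (1808, 370), (1811, 272),
    (1814, 306), (1816, 67), (1820, 487), (1823, 241), (1824, 330), (1828, 145), (1829, 177), (1830, 310),
    (1831, 77), (1832, 313), (1838, 178), (1840, 371), (1842, 164), (1843, 394), (1845, 265), (1846, 128),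
    (1847, 130), (1849, 617), (1851, 642), (1852, 606), (1854, 288), (1855, 555), (1857, 480), (1858, 709),
    (1865, 362), (1867, 514), (1868, 193), (1869, 399), (1870, 190), (1871, 342), (1872, 308), (1876, 710),
    (1877, 345), (1879, 238), (1880, 636), (1881, 372), (1883, 156), (1884, 144), (1886, 305), (1887, 656),
    (1889, 158), (1890, 276), (1895, 324), (1897, 543), (1907, 338), (1908, 161), (1914, 65), (1916, 143)]

theorem roots8_check : checkRoots 8 roots8 = true := by decide +kernel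

theorem local1015_check : (Nat.beq (centCount 1015) 1920 && Nat.beq (pairCount 1015) 130) = true := by decide +kernel

theorem local58_check : (Nat.beq (centCount 58) 96 && Nat.beq (pairCount 58) 28) = true := by decide +kernel

theorem local257_check : (Nat.beq (centCount 257) 24 && Nat.beq (pairCount 257) 12) = true := by decide +kernel

theorem local20_check : (Nat.beq (centCount 20) 12 && Nat.beq (pairCount 20) 12) = true := by decide +kernel

theorem local50_check : (Nat.beq (centCount 50) 8 && Nat.beq (pairCount 50) 8) = true := by decide +kernel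

theorem local17_check : (Nat.beq (centCount 17) 10 && Nat.beq (pairCount 17) 10) = true := by decide +kernel

theorem local113_check : (Nat.beq (centCount 113) 10 && Nat.beq (pairCount 113) 10) = true := by decide +kernel

theorem tens_check : CosetEnum.allBelow 1920 (fun g => !(Nat.beq (mulI g 17) (mulI 113 g))) = true := by decide +kernel

end Cfsg.Agent.Lib.J3Order.Table
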